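import Groth.Agent.IsoCls.CleanTwist
import Mathlib.AlgebraicGeometry.Sites.Fpqc
import Mathlib.AlgebraicGeometry.Limits
import Mathlib.RingTheory.MvPolynomial.Basic

/-!
The loop over an affine scheme: two copies of two crossing lines glued away from the crossing.
-/

set_option autoImplicit false
set_option backward.isDefEq.respectTransparency false
set_option backward.isDefEq.respectTransparency.types false

universe u

open CategoryTheory CategoryTheory.Limits AlgebraicGeometry FibCat TopologicalSpace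

namespace Groth.Agent.IsoCls

variable {S : Scheme.{u}}

/-- Two open immersions covering a scheme give a covering sieve. -/
theorem sieve2_mem {T A B : Over S} (f : A ⟶ T) (g : B ⟶ T) [IsOpenImmersion f.left]
    [IsOpenImmersion g.left]
    (hsurj : ∀ x : T.left, x ∈ Set.range f.left ∨ x ∈ Set.range g.left) :
    sieve2 f g ∈ AlgSp.J S T := by
  let Z : Bool → Scheme.{u} := fun i => bif i then A.left else B.left
  let z : ∀ i, Z i ⟶ T.left := fun i => match i with
    | true => f.left
    | false => g.left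
  refine Groth.Agent.AlgSp.mem_of_cover (R := Presieve.ofArrows Z z) ?_ ?_
  · refine Scheme.zariskiPrecoverage_le_fppfPrecoverage _ ?_
    rw [Scheme.ofArrows_mem_precoverage_iff]
    refine ⟨fun x => (hsurj x).elim (fun h => ⟨true, h⟩) fun h => ⟨false, h⟩, fun i => ?_⟩
    cases i <;> assumption
  · rintro W k ⟨i⟩
    cases i
    · exact Or.inr ⟨Over.homMk (𝟙 B.left)
        ((Category.id_comp _).trans (Over.w g).symm), Over.OverMorphism.ext (Category.id_comp _)⟩
    · exact Or.inl ⟨Over.homMk (𝟙 A.left)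
        ((Category.id_comp _).trans (Over.w f).symm), Over.OverMorphism.ext (Category.id_comp _)⟩

theorem mono_of_left {A T : Over S} (f : A ⟶ T) [IsOpenImmersion f.left] : Mono f :=
  have : Mono ((Over.forget S).map f) := inferInstanceAs (Mono f.left)
  (Over.forget S).mono_of_mono_map this

theorem isEmpty_of_disjoint {T A B V : Over S} (f : A ⟶ T) (g : B ⟶ T)
    (hdisj : Disjoint (Set.range f.left) (Set.range g.left)) (u : V ⟶ A) (u' : V ⟶ B)
    (h : u ≫ f = u' ≫ g) : IsEmpty V.left :=
  ⟨fun x => Set.disjoint_iff_forall_ne.1 hdisj ⟨u.left x, rfl⟩ ⟨u'.left x, rfl⟩ (by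
    rw [← Scheme.Hom.comp_apply, ← Scheme.Hom.comp_apply, ← Over.comp_left, ← Over.comp_left, h])⟩

/-- A scheme over `T` as an object of `C/T`. -/
abbrev mk2 {T : Over S} {Z : Scheme.{u}} (z : Z ⟶ T.left) : (overCat T).obj :=
  Over.mk (Over.homMk z rfl : Over.mk (z ≫ T.hom) ⟶ T)

/-- A morphism of schemes over `T` as a morphism of `C/T`. -/
abbrev hom2 {T : Over S} {Z Z' : Scheme.{u}} {z : Z ⟶ T.left} {z' : Z' ⟶ T.left} (f : Z ⟶ Z')
    (h : f ≫ z' = z) : mk2 z ⟶ mk2 z' :=
  Over.homMk (Over.homMk f (show f ≫ z' ≫ T.hom = z ≫ T.hom by rw [← Category.assoc, h]))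
    (Over.OverMorphism.ext h)

/-- A morphism of spectra given by an injective ring map is scheme-theoretically dominant. -/
theorem isSchemeTheoreticallyDominant_specMap {R R' : CommRingCat.{u}} (φ : R ⟶ R')
    (hφ : Function.Injective φ) : IsSchemeTheoreticallyDominant (Spec.map φ) := by
  constructor
  refine Scheme.IdealSheafData.ext_of_isAffine ?_
  rw [Scheme.Hom.ker_apply, Scheme.IdealSheafData.ideal_bot, Pi.bot_apply,
    ← RingHom.injective_iff_ker_eq_bot]
  change Function.Injective (Spec.map φ).appTop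
  have h : (Spec.map φ).appTop =
      (Scheme.ΓSpecIso R).hom ≫ φ ≫ (Scheme.ΓSpecIso R').inv := by
    rw [← Scheme.ΓSpecIso_naturality_assoc, Iso.hom_inv_id, Category.comp_id]
  rw [h]
  exact ((Scheme.ΓSpecIso R').symm.commRingCatIsoToRingEquiv.injective.comp hφ).comp
    (Scheme.ΓSpecIso R).commRingCatIsoToRingEquiv.injective

section crosses

variable (A : CommRingCat.{u})

/-- The ring of two crossing lines. -/
noncomputable abbrev Crosses : CommRingCat.{u} :=
  CommRingCat.of (MvPolynomial (Fin 2) A ⧸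
    Ideal.span {(MvPolynomial.X 0 * MvPolynomial.X 1 : MvPolynomial (Fin 2) A)})

/-- The structure map of the crossing lines. -/
noncomputable def crossStr : A ⟶ Crosses A :=
  CommRingCat.ofHom ((Ideal.Quotient.mk _).comp MvPolynomial.C)

/-- The two coordinates. -/
noncomputable def coord (i : Fin 2) : Crosses A := Ideal.Quotient.mk _ (MvPolynomial.X i)

/-- The affine line. -/
noncomputable abbrev Line : CommRingCat.{u} := CommRingCat.of (Polynomial A)

/-- Restriction to the `i`-th line. -/
noncomputable def axis (i : Fin 2) : Crosses A ⟶ Line A :=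
  CommRingCat.ofHom (Ideal.Quotient.lift _
    (MvPolynomial.eval₂Hom Polynomial.C (fun k => if k = i then Polynomial.X else 0)) (by
      intro a ha
      refine (Ideal.span_le.2 ?_ : Ideal.span _ ≤ RingHom.ker _) ha
      rintro _ rfl
      fin_cases i <;> simp [RingHom.mem_ker]))

theorem axis_str (i : Fin 2) : crossStr A ≫ axis A i = CommRingCat.ofHom Polynomial.C := by
  ext a
  simp [crossStr, axis]

theorem axis_coord (i : Fin 2) : axis A i (coord A i) = (Polynomial.X : Polynomial A) := by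
  simp [axis, coord]

theorem coord_mul : coord A 0 * coord A 1 = 0 := by
  rw [coord, coord, ← map_mul, Ideal.Quotient.eq_zero_iff_mem]
  exact Ideal.subset_span rfl

/-- The origin of the line. -/
noncomputable def origin : Line A ⟶ A :=
  CommRingCat.ofHom (Polynomial.evalRingHom (0 : A))

theorem axis_origin : axis A 0 ≫ origin A = axis A 1 ≫ origin A := by
  apply CommRingCat.hom_ext
  apply Ideal.Quotient.ringHom_ext
  apply MvPolynomial.ringHom_ext
  · intro r; simp [axis, origin]
  · intro k; fin_cases k <;> simp [axis, origin]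

/-- The punctured line. -/
noncomputable abbrev Punct : CommRingCat.{u} :=
  CommRingCat.of (Localization.Away (Polynomial.X : Polynomial A))

/-- Its inclusion. -/
noncomputable def punct : Line A ⟶ Punct A :=
  CommRingCat.ofHom (algebraMap (Polynomial A) (Localization.Away (Polynomial.X : Polynomial A)))

theorem punct_injective : Function.Injective (punct A) :=
  IsLocalization.injective (M := Submonoid.powers (Polynomial.X : Polynomial A))
    (Localization.Away (Polynomial.X : Polynomial A))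
    (Submonoid.powers_le.2 Polynomial.monic_X.mem_nonZeroDivisors)

theorem punct_mem_basicOpen (i : Fin 2) (x : Spec (Punct A)) :
    (Spec.map (punct A) ≫ Spec.map (axis A i)) x ∈
      (PrimeSpectrum.basicOpen (coord A i) : (Spec (Crosses A)).Opens) := by
  rw [← Spec.map_comp]
  refine (PrimeSpectrum.mem_basicOpen _ _).2 fun h => x.isPrime.ne_top ?_
  have h' : punct A (axis A i (coord A i)) ∈ x.asIdeal := h
  rw [axis_coord] at h'
  exact Ideal.eq_top_of_isUnit_mem _ h'
    (IsLocalization.Away.algebraMap_isUnit (Polynomial.X : Polynomial A))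

end crosses

/-- The loop over an affine scheme. -/
theorem exists_loop (T : Over S) [IsAffine T.left] : Nonempty (Loop (AlgSp.J S) T) := by
  let A : CommRingCat.{u} := Γ(T.left, ⊤)
  let U := Spec (Crosses A)
  let zU : U ⟶ T.left := Spec.map (crossStr A) ≫ T.left.isoSpec.inv
  let Oa : U.Opens := PrimeSpectrum.basicOpen (coord A 0)
  let Ob : U.Opens := PrimeSpectrum.basicOpen (coord A 1)
  have hdisj : Oa ⊓ Ob = ⊥ := by
    rw [← PrimeSpectrum.basicOpen_mul, coord_mul]
    exact PrimeSpectrum.basicOpen_zero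
  let O : U.Opens := Oa ⊔ Ob
  let C := pushout O.ι O.ι
  let jl : U ⟶ C := pushout.inl O.ι O.ι
  let jr : U ⟶ C := pushout.inr O.ι O.ι
  let zC : C ⟶ T.left := pushout.desc zU zU rfl
  have hl : IsOpenImmersion jl :=
    inferInstanceAs (IsOpenImmersion (colimit.ι (span O.ι O.ι) WalkingSpan.left))
  have hr : IsOpenImmersion jr :=
    inferInstanceAs (IsOpenImmersion (colimit.ι (span O.ι O.ι) WalkingSpan.right))
  have hjl : jl ≫ zC = zU := pushout.inl_desc _ _ _
  have hjr : jr ≫ zC = zU := pushout.inr_desc _ _ _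
  have hcovC : ∀ x : C, x ∈ Set.range jl ∨ x ∈ Set.range jr := by
    intro x
    obtain ⟨(_ | _ | _), y, rfl⟩ := Scheme.IsLocallyDirected.ι_jointly_surjective (span O.ι O.ι) x
    · refine Or.inl ⟨O.ι y, ?_⟩
      rw [← Scheme.Hom.comp_apply]
      exact congrArg (fun f : _ ⟶ C => f y) (colimit.w (span O.ι O.ι) WalkingSpan.Hom.fst)
    · exact Or.inl ⟨y, rfl⟩
    · exact Or.inr ⟨y, rfl⟩
  have hinter : ∀ (a b : U), jl a = jr b → a ∈ O := by
    intro a b h
    obtain ⟨k, fi, fj, x, hx, -⟩ := (Scheme.IsLocallyDirected.ι_eq_ι_iff (span O.ι O.ι)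
      (i := WalkingSpan.left) (j := WalkingSpan.right)).1 h
    rcases k with (_ | _ | _)
    · cases fi
      exact hx ▸ x.2
    · cases fj
    · cases fi
  let PP := U ⨿ U
  let pp : PP ⟶ C := coprod.desc jl jr
  have hflat : Flat pp := by
    refine IsZariskiLocalAtSource.of_openCover (P := @Flat) (coprodOpenCover.{u, 0} U U) ?_
    rintro (_ | _)
    · change Flat (coprod.inl ≫ pp); rw [coprod.inl_desc]; infer_instance
    · change Flat (coprod.inr ≫ pp); rw [coprod.inr_desc]; infer_instance
  have hlfp : LocallyOfFinitePresentation pp := by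
    refine IsZariskiLocalAtSource.of_openCover (P := @LocallyOfFinitePresentation)
      (coprodOpenCover.{u, 0} U U) ?_
    rintro (_ | _)
    · change LocallyOfFinitePresentation (coprod.inl ≫ pp); rw [coprod.inl_desc]; infer_instance
    · change LocallyOfFinitePresentation (coprod.inr ≫ pp); rw [coprod.inr_desc]; infer_instance
  have hsurj : Surjective pp := ⟨fun x => (hcovC x).elim
    (fun ⟨y, hy⟩ => ⟨(coprod.inl : U ⟶ PP) y, by
      rw [← Scheme.Hom.comp_apply, coprod.inl_desc]; exact hy⟩)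
    (fun ⟨y, hy⟩ => ⟨(coprod.inr : U ⟶ PP) y, by
      rw [← Scheme.Hom.comp_apply, coprod.inr_desc]; exact hy⟩)⟩
  let zA : Spec (Line A) ⟶ T.left :=
    Spec.map (CommRingCat.ofHom Polynomial.C) ≫ T.left.isoSpec.inv
  have hax : ∀ i, Spec.map (axis A i) ≫ zU = zA := fun i => by
    simp only [zU, zA, ← Category.assoc, ← Spec.map_comp, axis_str]
  let o₀ : T.left ⟶ Spec (Line A) := T.left.isoSpec.hom ≫ Spec.map (origin A)
  have ho₀ : o₀ ≫ zA = 𝟙 T.left := by
    have h : CommRingCat.ofHom (Polynomial.C : A →+* Polynomial A) ≫ origin A = 𝟙 A := by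
      apply CommRingCat.hom_ext
      ext a
      exact Polynomial.eval_C
    simp only [o₀, zA, Category.assoc]
    rw [← Spec.map_comp_assoc, h]
    erw [Spec.map_id]
    erw [Category.id_comp]
    exact Iso.hom_inv_id _
  have hlift : ∀ (i : Fin 2) (Q : U.Opens), (PrimeSpectrum.basicOpen (coord A i) : U.Opens) = Q →
      ∃ q : Spec (Punct A) ⟶ Q, q ≫ Q.ι = Spec.map (punct A) ≫ Spec.map (axis A i) := by
    rintro i _ rfl
    refine ⟨IsOpenImmersion.lift _ _ ?_, IsOpenImmersion.lift_fac _ _ _⟩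
    rintro _ ⟨x, rfl⟩
    rw [Scheme.Opens.range_ι]
    exact punct_mem_basicOpen A i x
  obtain ⟨qa, hqa⟩ := hlift 0 Oa rfl
  obtain ⟨qb, hqb⟩ := hlift 1 Ob rfl
  let zW : O.toScheme ⟶ T.left := O.ι ≫ zU
  let za : Oa.toScheme ⟶ T.left := Oa.ι ≫ zU
  let zb : Ob.toScheme ⟶ T.left := Ob.ι ≫ zU
  let wa₀ := U.homOfLE (show Oa ≤ O from le_sup_left)
  let wb₀ := U.homOfLE (show Ob ≤ O from le_sup_right)
  have hwa : wa₀ ≫ O.ι = Oa.ι := Scheme.homOfLE_ι _ _
  have hwb : wb₀ ≫ O.ι = Ob.ι := Scheme.homOfLE_ι _ _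
  let j₁ : mk2 zU ⟶ mk2 zC := hom2 jl hjl
  let j₂ : mk2 zU ⟶ mk2 zC := hom2 jr hjr
  let v : mk2 zW ⟶ mk2 zU := hom2 O.ι rfl
  let wa : mk2 za ⟶ mk2 zW := hom2 wa₀ (by simp only [zW, za, ← Category.assoc, hwa])
  let wb : mk2 zb ⟶ mk2 zW := hom2 wb₀ (by simp only [zW, zb, ← Category.assoc, hwb])
  let i₁ : mk2 zU ⟶ mk2 (pp ≫ zC) := hom2 coprod.inl (by rw [coprod.inl_desc_assoc, hjl])
  let i₂ : mk2 zU ⟶ mk2 (pp ≫ zC) := hom2 coprod.inr (by rw [coprod.inr_desc_assoc, hjr])
  let la : mk2 zA ⟶ mk2 zU := hom2 (Spec.map (axis A 0)) (hax 0)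
  let lb : mk2 zA ⟶ mk2 zU := hom2 (Spec.map (axis A 1)) (hax 1)
  have : IsOpenImmersion j₁.left.left := hl
  have : IsOpenImmersion j₂.left.left := hr
  have : IsOpenImmersion v.left.left := inferInstanceAs (IsOpenImmersion O.ι)
  have : IsOpenImmersion wa.left.left := inferInstanceAs (IsOpenImmersion wa₀)
  have : IsOpenImmersion wb.left.left := inferInstanceAs (IsOpenImmersion wb₀)
  have : IsOpenImmersion i₁.left.left := inferInstanceAs (IsOpenImmersion (coprod.inl : U ⟶ PP))
  have : IsOpenImmersion i₂.left.left := inferInstanceAs (IsOpenImmersion (coprod.inr : U ⟶ PP))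
  refine ⟨{
    C := mk2 zC, U := mk2 zU, W := mk2 zW, Wa := mk2 za, Wb := mk2 zb, P := mk2 (pp ≫ zC)
    A := mk2 zA, D := mk2 (Spec.map (punct A) ≫ zA)
    j₁ := j₁, j₂ := j₂, mono₁ := mono_of_left _, mono₂ := mono_of_left _
    cov := sieve2_mem _ _ hcovC
    v := v, monov := mono_of_left _
    glue := Over.OverMorphism.ext (Over.OverMorphism.ext pushout.condition)
    overlap := ?_
    wa := wa, wb := wb, monoa := mono_of_left _, monob := mono_of_left _
    covW := sieve2_mem _ _ ?_
    disjW := fun u u' h => isEmpty_of_disjoint _ _ ?_ u u' h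
    i₁ := i₁, i₂ := i₂, monoi₁ := mono_of_left _, monoi₂ := mono_of_left _
    covP := sieve2_mem _ _ fun x => (Set.eq_univ_iff_forall.1
      (isCompl_range_inl_inr U U).codisjoint.eq_top x)
    disjP := fun u u' h => isEmpty_of_disjoint _ _ (isCompl_range_inl_inr U U).disjoint u u' h
    π := hom2 pp rfl
    hπ₁ := Over.OverMorphism.ext (Over.OverMorphism.ext (coprod.inl_desc _ _))
    hπ₂ := Over.OverMorphism.ext (Over.OverMorphism.ext (coprod.inr_desc _ _))
    flat := hflat, surj := hsurj, lfp := hlfp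
    la := la, lb := lb
    o := Over.homMk (Over.homMk o₀ (by
        change o₀ ≫ zA ≫ T.hom = T.hom
        rw [← Category.assoc, ho₀, Category.id_comp]))
      (Over.OverMorphism.ext ho₀)
    ho := Over.OverMorphism.ext (Over.OverMorphism.ext ?_)
    d := hom2 (Spec.map (punct A)) rfl
    dense := isSchemeTheoreticallyDominant_specMap _ (punct_injective A)
    da := hom2 qa (by simp only [za]; rw [← Category.assoc, hqa, Category.assoc, hax])
    db := hom2 qb (by simp only [zb]; rw [← Category.assoc, hqb, Category.assoc, hax])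
    hda := Over.OverMorphism.ext (Over.OverMorphism.ext ?_)
    hdb := Over.OverMorphism.ext (Over.OverMorphism.ext ?_) }⟩
  · intro V u u' h
    have h' : u.left ≫ jl = u'.left ≫ jr := congrArg Over.Hom.left h
    have hr' : Set.range u.left ⊆ Set.range O.ι := by
      rintro _ ⟨x, rfl⟩
      rw [Scheme.Opens.range_ι]
      exact hinter _ (u'.left x) (congrArg (fun f : V.left ⟶ C => f x) h')
    have hw := IsOpenImmersion.lift_fac O.ι u.left hr'
    have hw' : IsOpenImmersion.lift O.ι u.left hr' ≫ O.ι = u'.left := by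
      rw [← cancel_mono jr, Category.assoc]
      change _ ≫ O.ι ≫ pushout.inr O.ι O.ι = _
      rw [← pushout.condition, ← Category.assoc, hw]
      exact h'
    exact ⟨Over.homMk (IsOpenImmersion.lift O.ι u.left hr') (by
      change _ ≫ (O.ι ≫ zU) ≫ T.hom = _
      rw [Category.assoc, ← Category.assoc, hw]
      exact Over.w u), Over.OverMorphism.ext hw, Over.OverMorphism.ext hw'⟩
  · intro x
    rcases x.2 with h | h
    · exact Or.inl ⟨⟨x.1, h⟩, Subtype.ext (by
        change O.ι (wa₀ ⟨x.1, h⟩) = _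
        rw [← Scheme.Hom.comp_apply, hwa]; rfl)⟩
    · exact Or.inr ⟨⟨x.1, h⟩, Subtype.ext (by
        change O.ι (wb₀ ⟨x.1, h⟩) = _
        rw [← Scheme.Hom.comp_apply, hwb]; rfl)⟩
  · refine Set.disjoint_left.2 ?_
    rintro _ ⟨a, rfl⟩ ⟨b, hb⟩
    have h1 : Oa.ι a = Ob.ι b := by
      rw [← hwa, ← hwb, Scheme.Hom.comp_apply, Scheme.Hom.comp_apply]
      exact congrArg _ hb.symm
    have h2 : (a.1 : U) ∈ Oa ⊓ Ob := ⟨a.2, by
      have : a.1 = b.1 := h1
      rw [this]; exact b.2⟩
    rw [hdisj] at h2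
    exact h2.elim
  · change o₀ ≫ Spec.map (axis A 0) = o₀ ≫ Spec.map (axis A 1)
    simp only [o₀, Category.assoc, ← Spec.map_comp]
    exact congrArg (fun f => T.left.isoSpec.hom ≫ Spec.map f) (axis_origin A)
  · change Spec.map (punct A) ≫ Spec.map (axis A 0) = qa ≫ wa₀ ≫ O.ι
    rw [hwa, hqa]
  · change Spec.map (punct A) ≫ Spec.map (axis A 1) = qb ≫ wb₀ ≫ O.ι
    rw [hwb, hqb]

end Groth.Agent.IsoCls
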