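import Groth.Agent.IsoCls.Points
import Groth.Agent.IsoCls.LoopGeom
import Groth.Agent.FibC.SetFib
import Groth.Agent.StFib.Rep
import Groth.Agent.StFib.RepFp

/-!
Stacks with trivial automorphisms and their presheaves of isomorphism classes.
-/

set_option autoImplicit false
set_option backward.isDefEq.respectTransparency false
set_option backward.isDefEq.respectTransparency.types false

universe u

open CategoryTheory CategoryTheory.Limits AlgebraicGeometry FibCat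
open CategoryTheory.Functor Groth.Agent.FibC

namespace Groth.Agent.IsoCls

variable {S : Scheme.{u}} {𝒳 𝒴 : AlgSt.Cat S}

/-- The inverse of an isomorphism of presheaves of isomorphism classes. -/
def fisoSymm (h𝒳 : IsFibGrpd 𝒳.p) (h𝒴 : IsFibGrpd 𝒴.p) (φ : IsoNat.FIso 𝒳 𝒴) :
    IsoNat.FIso 𝒴 𝒳 where
  toEquiv T := (φ.toEquiv T).symm
  natural {T' T} g y' y b hb := by
    let x := ((φ.toEquiv T).symm (IsoNat.cls y)).out
    obtain ⟨w, a, ha⟩ := h𝒳.exists_lift (g ≫ eqToHom x.2.symm)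
    have hw : 𝒳.p.obj w = T' := IsHomLift.domain_eq 𝒳.p (g ≫ eqToHom x.2.symm) a
    have ha' : 𝒳.p.IsHomLift g a := (IsHomLift.lift_comp_eqToHom_iff 𝒳.p _ a _).1 ha
    obtain ⟨c, hc⟩ := exists_hom φ g ⟨w, hw⟩ x a ha'
    have hx : φ.toEquiv T (IsoNat.cls x) = IsoNat.cls y := by
      rw [show IsoNat.cls x = (φ.toEquiv T).symm (IsoNat.cls y) from Quotient.out_eq _]
      exact Equiv.apply_symm_apply _ _
    obtain ⟨j⟩ : Nonempty ((φ.toEquiv T (IsoNat.cls x)).out ≅ y) :=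
      iso_of_cls_eq ((Quotient.out_eq _).trans hx)
    let c' := (φ.toEquiv T' (IsoNat.cls ⟨w, hw⟩)).out
    have := j.hom.2
    have hcj : 𝒴.p.IsHomLift g (c ≫ j.hom.1) := IsHomLift.comp_lift_id_right' 𝒴.p _ _ T _
    have := sc_of_fibGrpd h𝒴 g b
    obtain ⟨θ, hθ, -, -⟩ := GalCohAux.GerbBasic.exists_fac h𝒴 g b (c ≫ j.hom.1)
    obtain ⟨i⟩ := fiber_iso_of_hom h𝒴 (x := c') (y := y') θ hθ
    refine ⟨⟨w, hw⟩, x, a, ha', ?_, (Quotient.out_eq _).symm⟩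
    have hc' : φ.toEquiv T' (IsoNat.cls ⟨w, hw⟩) = IsoNat.cls y' :=
      (Quotient.out_eq _).symm.trans (Quotient.sound ⟨i⟩)
    exact ((Equiv.eq_symm_apply _).2 hc').symm

/-- Separatedness of isomorphism classes only depends on the presheaf of isomorphism classes. -/
theorem sepCls_of_fIso (h𝒳 : IsFibGrpd 𝒳.p) (h𝒴 : IsFibGrpd 𝒴.p) (φ : IsoNat.FIso 𝒳 𝒴)
    (h : SepCls 𝒳) : SepCls 𝒴 := by
  intro T T' π _ _ _ y₁ y₂ y₁' y₂' b₁ b₂ hb₁ hb₂ hiso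
  let ψ := fisoSymm h𝒳 h𝒴 φ
  obtain ⟨a₁, ha₁⟩ := exists_hom ψ π y₁' y₁ b₁ hb₁
  obtain ⟨a₂, ha₂⟩ := exists_hom ψ π y₂' y₂ b₂ hb₂
  have e : IsoNat.cls y₁' = IsoNat.cls y₂' := Quotient.sound hiso
  have h' : Nonempty ((ψ.toEquiv T' (IsoNat.cls y₁')).out ≅ (ψ.toEquiv T' (IsoNat.cls y₂')).out) :=
    ⟨eqToIso (by rw [e])⟩
  have h2 : IsoNat.cls (ψ.toEquiv T (IsoNat.cls y₁)).out =
      IsoNat.cls (ψ.toEquiv T (IsoNat.cls y₂)).out :=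
    Quotient.sound (h T T' π _ _ _ _ a₁ a₂ ha₁ ha₂ h')
  unfold IsoNat.cls at h2
  rw [Quotient.out_eq, Quotient.out_eq] at h2
  exact iso_of_cls_eq ((ψ.toEquiv T).injective h2)

/-- Vertical endomorphisms are trivial when the isomorphism classes are separated. -/
theorem endo_eq_id_affine_of_sepCls (h : Stk.IsStack (AlgSp.J S) 𝒳)
    (hd : AlgSt.RepByAlgSpWith (AlgSp.RepWith @IsClosedImmersion) (diag (diag (toSelf 𝒳))))
    (hsep : SepCls 𝒳) {T : Over S} [IsAffine T.left] {y : 𝒳.obj} (t : y ⟶ y)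
    (ht : 𝒳.p.IsHomLift (𝟙 T) t) : t = 𝟙 y := by
  obtain ⟨X, e, he⟩ := exists_overLift_fibGrpd h.1 y (IsHomLift.domain_eq 𝒳.p (𝟙 T) t)
  have hθ : 𝒳.p.IsHomLift (𝟙 T) (e.hom ≫ t ≫ e.inv) := inferInstance
  obtain ⟨α, hα⟩ := yoneda_surjective (preserves_overCat h.1 X) (e.hom ≫ t ≫ e.inv)
  obtain ⟨L⟩ := exists_loop T
  have := app_eq_id_of_loop h hd hsep L X α
  rw [hα] at this
  rw [← cancel_epi e.hom, ← cancel_mono e.inv, Category.assoc, this]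
  simp

/-- A stack with separated diagonal and separated isomorphism classes is fibred in setoids. -/
theorem fibSetoid_of_sepCls (h : Stk.IsStack (AlgSp.J S) 𝒳)
    (hd : AlgSt.RepByAlgSpWith (AlgSp.RepWith @IsClosedImmersion) (diag (diag (toSelf 𝒳))))
    (hsep : SepCls 𝒳) : IsFibSetoid 𝒳.p := by
  have key : ∀ (x : 𝒳.obj) (s : x ⟶ x), 𝒳.p.map s = 𝟙 (𝒳.p.obj x) → s = 𝟙 x := by
    intro x s hs
    have hsl : 𝒳.p.IsHomLift (𝟙 (𝒳.p.obj x)) s := hs ▸ IsHomLift.map 𝒳.p s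
    have : 𝒳.p.IsHomLift (𝟙 (𝒳.p.obj x)) (𝟙 x) := IsHomLift.id rfl
    let 𝒰 := (𝒳.p.obj x).left.affineCover
    let R : Sieve (𝒳.p.obj x) :=
      { arrows := fun V f => ∃ (i : 𝒰.I₀) (g : V ⟶ Over.mk (𝒰.f i ≫ (𝒳.p.obj x).hom)),
          g ≫ (Over.homMk (𝒰.f i) rfl : _ ⟶ 𝒳.p.obj x) = f
        downward_closed := by
          rintro V V' f ⟨i, g, rfl⟩ k
          exact ⟨i, k ≫ g, Category.assoc _ _ _⟩ }
    have hR : R ∈ AlgSp.J S (𝒳.p.obj x) := by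
      refine Groth.Agent.AlgSp.mem_of_cover (R := Presieve.ofArrows 𝒰.X 𝒰.f)
        (Scheme.zariskiPrecoverage_le_fppfPrecoverage _ 𝒰.mem₀) ?_
      rintro W k ⟨i⟩
      exact ⟨i, 𝟙 _, Category.id_comp _⟩
    refine StkLib.hom_ext_of_local (StkLib.isPrestack_of_isStack h) R hR s (𝟙 x) ?_
    rintro V f ⟨i, g, rfl⟩ z ν hν
    let ι : Over.mk (𝒰.f i ≫ (𝒳.p.obj x).hom) ⟶ 𝒳.p.obj x := Over.homMk (𝒰.f i) rfl
    obtain ⟨y, μ, hμ⟩ := h.1.exists_lift ι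
    have : IsAffine (Over.mk (𝒰.f i ≫ (𝒳.p.obj x).hom)).left :=
      inferInstanceAs (IsAffine (𝒰.X i))
    obtain ⟨θ, -, hθ⟩ := exists_factor' h.1 ι μ hμ ν g _ hν rfl
    have hμs : 𝒳.p.IsHomLift ι (μ ≫ s) :=
      IsHomLift.comp_lift_id_right' 𝒳.p _ _ (𝒳.p.obj x) _
    obtain ⟨t, ht, -, ht'⟩ := GalCohAux.GerbBasic.exists_fac h.1 ι μ (μ ≫ s)
    rw [endo_eq_id_affine_of_sepCls h hd hsep t ht, Category.id_comp] at ht'
    rw [← hθ, Category.assoc, ← ht', Category.comp_id]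
  refine StFib.isFibSetoid_of_vert_unique h.1 fun {a b} f g hf hg => ?_
  have hf' : 𝒳.p.IsHomLift (𝟙 (𝒳.p.obj a)) f := StFib.vert_iff.1 hf
  have hg' : 𝒳.p.IsHomLift (𝟙 (𝒳.p.obj a)) g := StFib.vert_iff.1 hg
  have : IsIso g := isIso_of_fibGrpd h.1 (𝟙 (𝒳.p.obj a)) g
  have h1 : f ≫ inv g = 𝟙 a := key a _ (by
    have : 𝒳.p.IsHomLift (𝟙 (𝒳.p.obj a)) (f ≫ inv g) := inferInstance
    exact (IsHomLift.eq_of_isHomLift 𝒳.p (𝟙 _) _).symm)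
  simpa using congrArg (· ≫ g) h1

/-- A stack fibred in setoids has separated isomorphism classes. -/
theorem sepCls_of_fibSetoid {J : GrothendieckTopology (Over S)} (hP : Stk.IsPrestack J 𝒳)
    (hJ : ∀ {T T' : Over S} (π : T' ⟶ T) [Flat π.left] [Surjective π.left]
      [LocallyOfFinitePresentation π.left], Sieve.generate (Presieve.singleton π) ∈ J T)
    (h : IsFibSetoid 𝒳.p) : SepCls 𝒳 :=
  sepCls_of_trivial_endo hP hJ fun _ _ hs =>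
    StFib.vert_unique_of_isFibSetoid h ⟨rfl, hs⟩ (StFib.Vert.id _)

/-- Categories fibred in setoids with isomorphic presheaves of isomorphism classes are
equivalent over the base. -/
theorem exists_isEquivOver_of_fIso (h𝒳 : IsFibSetoid 𝒳.p) (h𝒴 : IsFibSetoid 𝒴.p)
    (φ : IsoNat.FIso 𝒳 𝒴) : ∃ E : 𝒳 ⥤ᵇ 𝒴, IsEquivOver E := by
  let rep : ∀ x : 𝒳.obj, 𝒴.p.Fiber (𝒳.p.obj x) := fun x =>
    (φ.toEquiv (𝒳.p.obj x) (IsoNat.cls (Fiber.mk (p := 𝒳.p) (a := x) rfl))).out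
  have hex : ∀ {x y : 𝒳.obj} (a : x ⟶ y), ∃ b : (rep x).1 ⟶ (rep y).1,
      𝒴.p.IsHomLift (𝒳.p.map a) b :=
    fun a => exists_hom φ _ _ _ a (IsHomLift.map 𝒳.p a)
  choose m hm using @hex
  let G : 𝒳.obj ⥤ 𝒴.obj :=
    { obj := fun x => (rep x).1
      map := fun {x y} a => m a
      map_id := fun x => by
        have := hm (𝟙 x)
        have : 𝒴.p.IsHomLift (𝒳.p.map (𝟙 x)) (𝟙 (rep x).1) := by
          rw [CategoryTheory.Functor.map_id]; exact IsHomLift.id (rep x).2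
        exact setoid_hom_eq h𝒴 (𝒳.p.map (𝟙 x)) _ _
      map_comp := fun {x y z} a b => by
        have := hm (a ≫ b)
        have := hm a
        have := hm b
        have : 𝒴.p.IsHomLift (𝒳.p.map (a ≫ b)) (m a ≫ m b) := by
          rw [Functor.map_comp]; infer_instance
        exact setoid_hom_eq h𝒴 (𝒳.p.map (a ≫ b)) _ _ }
  let E : 𝒳 ⥤ᵇ 𝒴 := ⟨G, CategoryTheory.Functor.ext (fun x => (rep x).2) fun x y a => by
    have := hm a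
    exact IsHomLift.fac' 𝒴.p (𝒳.p.map a) (m a)⟩
  have : E.toFunctor.Faithful := ⟨fun {x y} a a' h => by
    have e : 𝒳.p.map a = 𝒳.p.map a' := StFib.map_eq_map_of_p E a a' h
    have : 𝒳.p.IsHomLift (𝒳.p.map a) a' := e ▸ IsHomLift.map 𝒳.p a'
    have := IsHomLift.map 𝒳.p a
    exact setoid_hom_eq h𝒳 (𝒳.p.map a) a a'⟩
  have : E.toFunctor.Full := ⟨fun {x y} b => by
    let g : 𝒳.p.obj x ⟶ 𝒳.p.obj y := eqToHom (rep x).2.symm ≫ 𝒴.p.map b ≫ eqToHom (rep y).2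
    have hb : 𝒴.p.IsHomLift g b := IsHomLift.of_fac 𝒴.p g b (rep x).2 (rep y).2 rfl
    obtain ⟨w, a, ha⟩ := h𝒳.1.exists_lift g
    have hw : 𝒳.p.obj w = 𝒳.p.obj x := IsHomLift.domain_eq 𝒳.p g a
    let W : 𝒳.p.Fiber (𝒳.p.obj x) := ⟨w, hw⟩
    let X₀ : 𝒳.p.Fiber (𝒳.p.obj x) := Fiber.mk (a := x) rfl
    obtain ⟨c, hc⟩ := exists_hom φ g W (Fiber.mk (p := 𝒳.p) (a := y) rfl) a ha
    have := sc_of_fibGrpd h𝒴.1 g b
    obtain ⟨θ, hθ, -, -⟩ := GalCohAux.GerbBasic.exists_fac h𝒴.1 g b c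
    have h1 : IsoNat.cls (φ.toEquiv _ (IsoNat.cls W)).out =
        IsoNat.cls (φ.toEquiv _ (IsoNat.cls X₀)).out :=
      Quotient.sound (fiber_iso_of_hom h𝒴.1 (x := (φ.toEquiv _ (IsoNat.cls W)).out)
        (y := (φ.toEquiv _ (IsoNat.cls X₀)).out) θ hθ)
    unfold IsoNat.cls at h1
    rw [Quotient.out_eq, Quotient.out_eq] at h1
    obtain ⟨i⟩ := iso_of_cls_eq ((φ.toEquiv _).injective h1)
    have := i.inv.2
    have hlift : 𝒳.p.IsHomLift g (i.inv.1 ≫ a) :=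
      IsHomLift.comp_lift_id_left' 𝒳.p (𝒳.p.obj x) _ _ _
    refine ⟨i.inv.1 ≫ a, ?_⟩
    have := hm (i.inv.1 ≫ a)
    have : 𝒴.p.IsHomLift (𝒳.p.map (i.inv.1 ≫ a)) b := by
      rwa [← IsHomLift.eq_of_isHomLift 𝒳.p g (i.inv.1 ≫ a)]
    exact setoid_hom_eq h𝒴 (𝒳.p.map (i.inv.1 ≫ a)) _ _⟩
  refine ⟨E, StFib.isEquivOver_mk E fun y => ?_⟩
  let c := (φ.toEquiv (𝒴.p.obj y)).symm (IsoNat.cls (Fiber.mk (p := 𝒴.p) (a := y) rfl))
  obtain ⟨x, hx⟩ : ∃ x : 𝒳.p.Fiber (𝒴.p.obj y), x = c.out := ⟨_, rfl⟩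
  obtain ⟨x, hxU⟩ := x
  let X₁ : 𝒳.p.Fiber (𝒴.p.obj y) := ⟨x, hxU⟩
  let X₀ : 𝒳.p.Fiber (𝒳.p.obj x) := Fiber.mk (a := x) rfl
  have hid : 𝒳.p.IsHomLift (eqToHom hxU) (𝟙 x) := IsHomLift.of_fac _ _ _ rfl hxU (by simp)
  obtain ⟨b, hb⟩ := exists_hom φ (eqToHom hxU) X₀ X₁ (𝟙 x) hid
  have e : φ.toEquiv (𝒴.p.obj y) (IsoNat.cls X₁) = IsoNat.cls (Fiber.mk (p := 𝒴.p) (a := y) rfl) := by
    rw [show IsoNat.cls X₁ = c from (congrArg IsoNat.cls hx).trans (Quotient.out_eq c)]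
    exact Equiv.apply_symm_apply _ _
  obtain ⟨j⟩ : Nonempty ((φ.toEquiv (𝒴.p.obj y) (IsoNat.cls X₁)).out ≅
      Fiber.mk (p := 𝒴.p) (a := y) rfl) := iso_of_cls_eq ((Quotient.out_eq _).trans e)
  have : IsIso b := isIso_of_fibGrpd h𝒴.1 (eqToHom hxU) b
  refine ⟨x, asIso b ≪≫ ⟨j.hom.1, j.inv.1, congrArg Subtype.val j.hom_inv_id,
    congrArg Subtype.val j.inv_hom_id⟩, ?_⟩
  refine StFib.Vert.comp ?_ (StFib.vert_of_isHomLift j.hom.2)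
  exact ⟨(IsHomLift.domain_eq 𝒴.p (eqToHom hxU) b).trans
    (hxU.trans (IsHomLift.codomain_eq 𝒴.p (eqToHom hxU) b).symm), by
    rw [asIso_hom, IsHomLift.fac' 𝒴.p (eqToHom hxU) b]; simp⟩

end Groth.Agent.IsoCls
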