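import Groth.Agent.IsoCls.ThetaGeom
import Groth.Agent.IsoCls.Setoid

/-!
Commutativity of automorphism sheaves is detected by isomorphism classes.
-/

set_option autoImplicit false
set_option backward.isDefEq.respectTransparency false
set_option backward.isDefEq.respectTransparency.types false

universe u

open CategoryTheory CategoryTheory.Limits AlgebraicGeometry FibCat
open CategoryTheory.Functor Groth.Agent.FibC

namespace Groth.Agent.IsoCls

variable {S : Scheme.{u}} {𝒳 𝒴 : AlgSt.Cat S}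

/-- Sources of lifts of one morphism with one target are isomorphic in the fibre. -/
theorem fib_iso_of_lifts (h : IsFibGrpd 𝒳.p) {T' T : Over S} (g : T' ⟶ T) (a a' : 𝒳.p.Fiber T')
    {y : 𝒳.obj} (f : a.1 ⟶ y) (f' : a'.1 ⟶ y) (hf : 𝒳.p.IsHomLift g f)
    (hf' : 𝒳.p.IsHomLift g f') : Nonempty (a ≅ a') := by
  obtain ⟨θ, hθ, -, -⟩ := GalCohAux.GerbBasic.exists_fac h g f' f
  exact fiber_iso_of_hom h θ hθ

/-- Corresponding objects have corresponding pullbacks. -/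
theorem toEquiv_eq_of_lifts (h𝒴 : IsFibGrpd 𝒴.p) (φ : IsoNat.FIso 𝒳 𝒴) {T' T : Over S}
    (g : T' ⟶ T) {x' : 𝒳.p.Fiber T'} {x : 𝒳.p.Fiber T} {y' : 𝒴.p.Fiber T'} {y : 𝒴.p.Fiber T}
    (a : x'.1 ⟶ x.1) (b : y'.1 ⟶ y.1) (ha : 𝒳.p.IsHomLift g a) (hb : 𝒴.p.IsHomLift g b)
    (h : φ.toEquiv T (IsoNat.cls x) = IsoNat.cls y) :
    φ.toEquiv T' (IsoNat.cls x') = IsoNat.cls y' := by
  obtain ⟨c, hc⟩ := exists_hom φ g x' x a ha
  obtain ⟨j⟩ := iso_of_cls_eq (show IsoNat.cls (φ.toEquiv T (IsoNat.cls x)).out = IsoNat.cls y from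
    (Quotient.out_eq _).trans h)
  have : 𝒴.p.IsHomLift (𝟙 T) j.hom.1 := j.hom.2
  have hcj : 𝒴.p.IsHomLift g (c ≫ j.hom.1) := IsHomLift.comp_lift_id_right' 𝒴.p _ _ T _
  obtain ⟨i⟩ := fib_iso_of_lifts h𝒴 g (φ.toEquiv T' (IsoNat.cls x')).out y' (c ≫ j.hom.1) b hcj hb
  exact (Quotient.out_eq _).symm.trans (Quotient.sound ⟨i⟩)

/-- A morphism between representatives of corresponding classes. -/
theorem exists_hom_of_cls (h𝒳 : IsFibGrpd 𝒳.p) (h𝒴 : IsFibGrpd 𝒴.p) (φ : IsoNat.FIso 𝒳 𝒴)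
    {T' T : Over S} (g : T' ⟶ T) {x' : 𝒳.p.Fiber T'} {x : 𝒳.p.Fiber T} {y' : 𝒴.p.Fiber T'}
    {y : 𝒴.p.Fiber T} (b : y'.1 ⟶ y.1) (hb : 𝒴.p.IsHomLift g b)
    (h' : φ.toEquiv T' (IsoNat.cls x') = IsoNat.cls y')
    (h : φ.toEquiv T (IsoNat.cls x) = IsoNat.cls y) :
    ∃ a : x'.1 ⟶ x.1, 𝒳.p.IsHomLift g a := by
  let ψ := fisoSymm h𝒳 h𝒴 φ
  obtain ⟨a, ha⟩ := exists_hom ψ g y' y b hb
  obtain ⟨i⟩ : Nonempty ((ψ.toEquiv T' (IsoNat.cls y')).out ≅ x') := iso_of_cls_eq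
    ((Quotient.out_eq _).trans ((Equiv.symm_apply_eq _).2 h'.symm))
  obtain ⟨j⟩ : Nonempty ((ψ.toEquiv T (IsoNat.cls y)).out ≅ x) := iso_of_cls_eq
    ((Quotient.out_eq _).trans ((Equiv.symm_apply_eq _).2 h.symm))
  have : 𝒳.p.IsHomLift (𝟙 T') i.inv.1 := i.inv.2
  have : 𝒳.p.IsHomLift (𝟙 T) j.hom.1 := j.hom.2
  have h2 : 𝒳.p.IsHomLift g (a ≫ j.hom.1) := IsHomLift.comp_lift_id_right' 𝒳.p _ _ T _
  exact ⟨i.inv.1 ≫ a ≫ j.hom.1, IsHomLift.comp_lift_id_left' 𝒳.p T' _ _ _⟩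

/-- The fibre object of a glued object. -/
abbrev Twist.fib {J : GrothendieckTopology (Over S)} {T : Over S} {L : Double J T}
    {X : overCat T ⥤ᵇ 𝒳} (Z : Twist L X) : 𝒳.p.Fiber (Over.left L.C) := ⟨Z.z, Z.hz⟩

/-- Over an affine scheme commutativity of automorphism groups transfers. -/
theorem commute_of_fIso (h𝒳 : Stk.IsStack (AlgSp.J S) 𝒳) (h𝒴 : Stk.IsStack (AlgSp.J S) 𝒴)
    (hd𝒳 : AlgSt.RepByAlgSpWith (AlgSp.RepWith @IsClosedImmersion) (diag (diag (toSelf 𝒳))))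
    (hd𝒴 : AlgSt.RepByAlgSpWith (AlgSp.RepWith @IsClosedImmersion) (diag (diag (toSelf 𝒴))))
    (φ : IsoNat.FIso 𝒳 𝒴) {T : Over S} [IsAffine T.left] (X : overCat T ⥤ᵇ 𝒳)
    (Y : overCat T ⥤ᵇ 𝒴)
    (hcls : φ.toEquiv T (IsoNat.cls (vfib X (overTop T))) = IsoNat.cls (vfib Y (overTop T)))
    (hab : ∀ (b : (overCat T).obj) (e e' : VA X b), e * e' = e' * e)
    (s t : VA Y (overTop T)) : s * t = t * s := by
  have hgX : IsFibGrpd 𝒳.p := h𝒳.1
  have hgY : IsFibGrpd 𝒴.p := h𝒴.1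
  have hPX := StkLib.isPrestack_of_isStack h𝒳
  have hPY := StkLib.isPrestack_of_isStack h𝒴
  obtain ⟨G⟩ := exists_theta T
  have := G.monow
  have hb : ∀ b : (overCat T).obj,
      φ.toEquiv (Over.left b) (IsoNat.cls (vfib X b)) = IsoNat.cls (vfib Y b) := fun b =>
    toEquiv_eq_of_lifts hgY φ (toTop b).left (X.map (toTop b)) (Y.map (toTop b))
      (map_lift X (toTop b)) (map_lift Y (toTop b)) hcls
  let u := t * s * t⁻¹
  let a : Fin 3 → VA Y (overTop T) := ![1, s, s]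
  let a' : Fin 3 → VA Y (overTop T) := ![1, s, u]
  obtain ⟨σ, hσ⟩ := exists_va_glue hPY hd𝒴 G.w G.covW G.disjW fun i => const hgY Y (G.Wp i) (a i)
  obtain ⟨σ', hσ'⟩ := exists_va_glue hPY hd𝒴 G.w G.covW G.disjW fun i => const hgY Y (G.Wp i) (a' i)
  obtain ⟨Z, hZ⟩ := exists_twist h𝒴 G.toDouble Y σ
  obtain ⟨Z', hZ'⟩ := exists_twist h𝒴 G.toDouble Y σ'
  -- the corresponding glued objects of `𝒳`
  have htriv : ∀ Z : Twist G.toDouble Y, ∃ ZX : Twist G.toDouble X,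
      φ.toEquiv (Over.left G.toDouble.C) (IsoNat.cls ZX.fib) = IsoNat.cls Z.fib := by
    intro Z
    let zX := ((φ.toEquiv (Over.left G.toDouble.C)).symm (IsoNat.cls Z.fib)).out
    have hzX : φ.toEquiv (Over.left G.toDouble.C) (IsoNat.cls zX) = IsoNat.cls Z.fib := by
      rw [show IsoNat.cls zX = _ from Quotient.out_eq _]
      exact Equiv.apply_symm_apply _ _
    obtain ⟨f₁, hf₁⟩ := exists_hom_of_cls hgX hgY φ G.toDouble.j₁.left (x' := vfib X G.toDouble.U) (x := zX)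
      (y' := vfib Y G.toDouble.U) (y := Z.fib) Z.f₁ Z.hf₁ (hb G.toDouble.U) hzX
    obtain ⟨f₂, hf₂⟩ := exists_hom_of_cls hgX hgY φ G.toDouble.j₂.left (x' := vfib X G.toDouble.U) (x := zX)
      (y' := vfib Y G.toDouble.U) (y := Z.fib) Z.f₂ Z.hf₂ (hb G.toDouble.U) hzX
    obtain ⟨ZX, hZX⟩ := exists_twist_of_triv hgX G.toDouble X zX.2 f₁ f₂ hf₁ hf₂
    refine ⟨ZX, ?_⟩
    have : ZX.fib = zX := Subtype.ext hZX
    rw [this, hzX]
  obtain ⟨ZX, hZX⟩ := htriv Z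
  obtain ⟨ZX', hZX'⟩ := htriv Z'
  -- pullbacks along merges
  have hmerge : ∀ π : Fin 3 → Fin 3,
      (∃ E₁ E₂ : VA Y G.toDouble.U, res hgY Y (G.merge π).rW σ' * res hgY Y G.toDouble.v E₁ =
        res hgY Y G.toDouble.v E₂ * res hgY Y (G.merge π).rW σ) →
      ∃ e : VA X G.toDouble.U, res hgX X (G.merge π).rW (ZX'.σ * ZX.σ⁻¹) = res hgX X G.toDouble.v e := by
    rintro π ⟨E₁, E₂, hE⟩
    obtain ⟨P, b, hb₁, hP⟩ := Z.exists_pullback hgY (G.merge π)
    obtain ⟨P', b', hb₁', hP'⟩ := Z'.exists_pullback hgY (G.merge π)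
    obtain ⟨θ, hθ⟩ := Twist.exists_hom hPY P P' E₁ E₂ (by rw [hP, hP', hZ, hZ']; exact hE)
    have hiso : IsoNat.cls P.fib = IsoNat.cls P'.fib :=
      Quotient.sound (fiber_iso_of_hom hgY (x := P.fib) (y := P'.fib) θ hθ)
    obtain ⟨Q, c, hc, hQ⟩ := ZX.exists_pullback hgX (G.merge π)
    obtain ⟨Q', c', hc', hQ'⟩ := ZX'.exists_pullback hgX (G.merge π)
    have e1 := toEquiv_eq_of_lifts hgY φ (G.merge π).rC.left (x' := Q.fib) (x := ZX.fib)
      (y' := P.fib) (y := Z.fib) c b hc hb₁ hZX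
    have e2 := toEquiv_eq_of_lifts hgY φ (G.merge π).rC.left (x' := Q'.fib) (x := ZX'.fib)
      (y' := P'.fib) (y := Z'.fib) c' b' hc' hb₁' hZX'
    obtain ⟨ι⟩ := iso_of_cls_eq ((φ.toEquiv _).injective (e1.trans (hiso.trans e2.symm)))
    obtain ⟨F₁, F₂, hF⟩ := Q.exists_coboundary hgX Q' ι.hom.1 ι.hom.2
    refine ⟨F₂ * F₁⁻¹, ?_⟩
    rw [hQ, hQ'] at hF
    rw [map_mul, _root_.map_inv, map_mul, _root_.map_inv, eq_mul_inv_of_mul_eq hF]
    calc res hgX X G.toDouble.v F₂ * res hgX X (G.merge π).rW ZX.σ * (res hgX X G.toDouble.v F₁)⁻¹ *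
          (res hgX X (G.merge π).rW ZX.σ)⁻¹
        = res hgX X G.toDouble.v F₂ * (res hgX X (G.merge π).rW ZX.σ * (res hgX X G.toDouble.v F₁)⁻¹) *
          (res hgX X (G.merge π).rW ZX.σ)⁻¹ := by simp only [mul_assoc]
      _ = _ := by rw [hab _ _ (res hgX X G.toDouble.v F₁)⁻¹, ← mul_assoc, mul_inv_cancel_right]
  have hmσ : ∀ (b : Fin 3 → VA Y (overTop T)) (τ : VA Y G.toDouble.W),
      (∀ i, res hgY Y (G.w i) τ = const hgY Y (G.Wp i) (b i)) →
      ∀ π i, res hgY Y (G.w i) (res hgY Y (G.merge π).rW τ) =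
        const hgY Y (G.Wp i) (b (π i)) := by
    intro b τ hτ π i
    obtain ⟨q, hq⟩ := G.merge_piece π i
    rw [res_res, res_congr hgY hq, ← res_res, hτ, res_const]
  have hwv : ∀ (i : Fin 3) (E : VA Y (overTop T)),
      res hgY Y (G.w i) (res hgY Y G.toDouble.v (const hgY Y G.toDouble.U E)) = const hgY Y (G.Wp i) E := by
    intro i E
    rw [res_const, res_const]
  obtain ⟨e, he⟩ := hmerge ![0, 1, 1] ⟨1, 1, by
    rw [map_one, mul_one, one_mul]
    refine va_ext_of_cover hPY G.w G.covW fun i => ?_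
    rw [hmσ a' σ' hσ', hmσ a σ hσ]
    fin_cases i <;> rfl⟩
  obtain ⟨e', he'⟩ := hmerge ![0, 2, 2] ⟨const hgY Y G.toDouble.U t, const hgY Y G.toDouble.U t, by
    refine va_ext_of_cover hPY G.w G.covW fun i => ?_
    rw [map_mul, map_mul, hmσ a' σ' hσ', hmσ a σ hσ, hwv, ← map_mul, ← map_mul]
    congr 1
    fin_cases i <;> simp [a, a', u]⟩
  -- glue the two coboundaries
  let D := ZX'.σ * ZX.σ⁻¹
  let k : ∀ i, G.Wp i ⟶ G.toDouble.U := fun i => G.w i ≫ G.toDouble.v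
  have hfix : ∀ (π : Fin 3 → Fin 3) (E : VA X G.toDouble.U),
      res hgX X (G.merge π).rW D = res hgX X G.toDouble.v E →
      ∀ i, π i = i → res hgX X (k i) E = res hgX X (G.w i) D := by
    intro π E hE i hi
    rw [← res_res, ← hE, res_res]
    exact res_congr hgX (G.merge_fix π i hi) D
  let d := e' * e⁻¹
  have hd0 : res hgX X (k 0) d = 1 := by
    rw [map_mul, _root_.map_inv, hfix _ _ he 0 rfl, hfix _ _ he' 0 rfl, mul_inv_cancel]
  have hdo : res hgX X G.oU d = 1 := by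
    have := G.dense
    have h1 : res hgX X (G.la 0) d = 1 := by
      apply res_injective_of_dense hgX hd𝒳 G.d
      rw [map_one, res_res, res_congr hgX (G.hdp 0), ← res_res, hd0, map_one]
    rw [← res_congr hgX (G.ho 0), ← res_res, h1, map_one]
  have hmain : D = res hgX X G.toDouble.v (e * res hgX X G.p d) := by
    refine va_ext_of_cover hPX G.w G.covW fun i => ?_
    rw [res_res, map_mul _ e, res_res]
    by_cases hi : i = 1
    · subst hi
      rw [res_congr hgX G.hp_one, show res hgX X (toTop (G.Wp 1) ≫ G.oU) d = 1 from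
        (res_res hgX (toTop (G.Wp 1)) G.oU d).symm.trans ((congrArg _ hdo).trans (map_one _)),
        mul_one]
      exact (hfix _ _ he 1 rfl).symm
    · rw [res_congr hgX (G.hp i hi)]
      fin_cases i
      · exact ((congrArg (_ * ·) hd0).trans ((mul_one _).trans (hfix _ _ he 0 rfl))).symm
      · exact absurd rfl hi
      · change res hgX X (G.w 2) D = res hgX X (k 2) e * res hgX X (k 2) (e' * e⁻¹)
        rw [map_mul (res hgX X (k 2)) e', _root_.map_inv (res hgX X (k 2)) e,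
          hab _ (res hgX X (k 2) e), inv_mul_cancel_right,
          hfix _ _ he' 2 rfl]
  obtain ⟨θ, hθ⟩ := Twist.exists_hom hPX ZX ZX' 1 (e * res hgX X G.p d) (by
    rw [map_one, mul_one, ← hmain]
    exact (inv_mul_cancel_right _ _).symm)
  have hiso : IsoNat.cls Z.fib = IsoNat.cls Z'.fib := by
    rw [← hZX, ← hZX', show IsoNat.cls ZX.fib = IsoNat.cls ZX'.fib from
      Quotient.sound (fiber_iso_of_hom hgX (x := ZX.fib) (y := ZX'.fib) θ hθ)]
  obtain ⟨ι⟩ := iso_of_cls_eq hiso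
  obtain ⟨E₁, E₂, hE⟩ := Z.exists_coboundary hgY Z' ι.hom.1 ι.hom.2
  rw [hZ, hZ'] at hE
  have htop : ∀ {b : (overCat T).obj} (u : b ⟶ overTop T) (E : VA Y (overTop T)),
      res hgY Y u E = const hgY Y b E := fun u E =>
    res_congr hgY (Over.OverMorphism.ext ((Category.comp_id _).symm.trans (Over.w u))) E
  have hline : ∀ i, a' i * res hgY Y G.oU E₁ = res hgY Y G.oU E₂ * a i := by
    intro i
    have := G.dense
    have h1 : const hgY Y G.A (a' i) * res hgY Y (G.la i) E₁ =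
        res hgY Y (G.la i) E₂ * const hgY Y G.A (a i) := by
      apply res_injective_of_dense hgY hd𝒴 G.d
      have h2 := congrArg (fun m => res hgY Y (G.dp i) (res hgY Y (G.w i) m)) hE
      simp only [map_mul, hσ' i, hσ i, res_const, res_res] at h2
      simp only [map_mul, res_const, res_res]
      rw [res_congr hgY (G.hdp i) E₁, res_congr hgY (G.hdp i) E₂]
      simp only [htop] at h2 ⊢
      exact h2
    have h3 := congrArg (res hgY Y G.o) h1
    simp only [map_mul, res_const, res_res, res_congr hgY (G.ho i)] at h3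
    have hid : ∀ E : VA Y (overTop T), const hgY Y (overTop T) E = E := fun E => by
      exact (htop (𝟙 (overTop T)) E).symm.trans (res_id hgY E)
    simp only [htop, hid] at h3
    exact h3
  have h0 := hline 0
  simp only [a, a', Matrix.cons_val_zero, one_mul, mul_one] at h0
  have h1 : s * res hgY Y G.oU E₁ = res hgY Y G.oU E₂ * s := hline 1
  have h2 : u * res hgY Y G.oU E₁ = res hgY Y G.oU E₂ * s := hline 2
  have hu : t * s * t⁻¹ = s := mul_right_cancel (h2.trans h1.symm)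
  calc s * t = t * s * t⁻¹ * t := by rw [hu]
    _ = t * s := inv_mul_cancel_right _ _

/-- Commutativity of automorphism groups transfers. -/
theorem commute_of_fIso' (h𝒳 : Stk.IsStack (AlgSp.J S) 𝒳) (h𝒴 : Stk.IsStack (AlgSp.J S) 𝒴)
    (hd𝒳 : AlgSt.RepByAlgSpWith (AlgSp.RepWith @IsClosedImmersion) (diag (diag (toSelf 𝒳))))
    (hd𝒴 : AlgSt.RepByAlgSpWith (AlgSp.RepWith @IsClosedImmersion) (diag (diag (toSelf 𝒴))))
    (φ : IsoNat.FIso 𝒳 𝒴) {T : Over S} (X : overCat T ⥤ᵇ 𝒳) (Y : overCat T ⥤ᵇ 𝒴)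
    (hcls : φ.toEquiv T (IsoNat.cls (vfib X (overTop T))) = IsoNat.cls (vfib Y (overTop T)))
    (hab : ∀ (b : (overCat T).obj) (e e' : VA X b), e * e' = e' * e)
    (s t : VA Y (overTop T)) : s * t = t * s := by
  have hgY : IsFibGrpd 𝒴.p := h𝒴.1
  let 𝒰 := T.left.affineCover
  let b : 𝒰.I₀ → (overCat T).obj := fun i => mk2 (𝒰.f i)
  have : ∀ i, IsOpenImmersion (toTop (b i)).left.left := fun i =>
    inferInstanceAs (IsOpenImmersion (𝒰.f i))
  have hcov : sieveFam (fun i => (toTop (b i)).left) ∈ AlgSp.J S T := by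
    refine Groth.Agent.AlgSp.mem_of_cover (R := Presieve.ofArrows 𝒰.X 𝒰.f)
      (Scheme.zariskiPrecoverage_le_fppfPrecoverage _ 𝒰.mem₀) ?_
    rintro W k ⟨i⟩
    exact ⟨i, Over.homMk (𝟙 _) (Category.id_comp _),
      Over.OverMorphism.ext (Category.id_comp _)⟩
  refine va_ext_of_cover (StkLib.isPrestack_of_isStack h𝒴) (fun i => toTop (b i)) hcov fun i => ?_
  rw [map_mul, map_mul]
  let V : Over S := Over.left (b i)
  let b₀ : (overCat T).obj := (overMap (Over.hom (b i))).obj (overTop V)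
  let κ : b₀ ⟶ b i := Over.homMk (𝟙 V) rfl
  let κ' : b i ⟶ b₀ := Over.homMk (𝟙 V) ((Category.id_comp _).trans (Category.id_comp _))
  have : IsAffine V.left := inferInstanceAs (IsAffine (𝒰.X i))
  have hcls' : φ.toEquiv V (IsoNat.cls (vfib (BasedFunctor.comp (overMap (Over.hom (b i))) X) (overTop V))) =
      IsoNat.cls (vfib (BasedFunctor.comp (overMap (Over.hom (b i))) Y) (overTop V)) :=
    toEquiv_eq_of_lifts hgY φ (toTop b₀).left
      (x' := vfib (BasedFunctor.comp (overMap (Over.hom (b i))) X) (overTop V))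
      (x := vfib X (overTop T))
      (y' := vfib (BasedFunctor.comp (overMap (Over.hom (b i))) Y) (overTop V))
      (y := vfib Y (overTop T))
      (X.map (toTop b₀)) (Y.map (toTop b₀))
      (map_lift X (toTop b₀)) (map_lift Y (toTop b₀)) hcls
  have key : ∀ (e e' : VA Y b₀), e * e' = e' * e := fun e e' =>
    commute_of_fIso h𝒳 h𝒴 hd𝒳 hd𝒴 φ (BasedFunctor.comp (overMap (Over.hom (b i))) X)
      (BasedFunctor.comp (overMap (Over.hom (b i))) Y) hcls'
      (fun c e e' => hab ((overMap (Over.hom (b i))).obj c) e e') e e'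
  have hκ : κ' ≫ κ = 𝟙 (b i) := Over.OverMorphism.ext (Category.id_comp _)
  have h1 := congrArg (res hgY Y κ')
    (key (res hgY Y κ (res hgY Y (toTop (b i)) s)) (res hgY Y κ (res hgY Y (toTop (b i)) t)))
  simp only [map_mul] at h1
  rw [res_res hgY κ' κ, res_res hgY κ' κ, res_congr hgY hκ, res_congr hgY hκ, res_id, res_id] at h1
  exact h1

/-- Commutativity of automorphism sheaves transfers along isomorphisms of classes. -/
theorem isAutAbelian_of_fIso (h𝒳 : Stk.IsStack (AlgSp.J S) 𝒳) (h𝒴 : Stk.IsStack (AlgSp.J S) 𝒴)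
    (hd𝒳 : AlgSt.RepByAlgSpWith (AlgSp.RepWith @IsClosedImmersion) (diag (diag (toSelf 𝒳))))
    (hd𝒴 : AlgSt.RepByAlgSpWith (AlgSp.RepWith @IsClosedImmersion) (diag (diag (toSelf 𝒴))))
    (φ : IsoNat.FIso 𝒳 𝒴) {T : Over S} {η : 𝒳.p.Fiber T} {η' : 𝒴.p.Fiber T}
    (hη : φ.toEquiv T (IsoNat.cls η) = IsoNat.cls η') (hab : IsoNat.IsAutAbelian η) :
    IsoNat.IsAutAbelian η' := by
  intro T' y a s t
  let g : T' ⟶ T := eqToHom y.2.symm ≫ 𝒴.p.map a ≫ eqToHom η'.2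
  have ha : 𝒴.p.IsHomLift g a := IsHomLift.of_fac 𝒴.p g a y.2 η'.2 rfl
  let x := ((φ.toEquiv T').symm (IsoNat.cls y)).out
  have hx : φ.toEquiv T' (IsoNat.cls x) = IsoNat.cls y := by
    rw [show IsoNat.cls x = _ from Quotient.out_eq _]
    exact Equiv.apply_symm_apply _ _
  obtain ⟨a₁, -⟩ := exists_hom_of_cls h𝒳.1 h𝒴.1 φ g a ha hx hη
  obtain ⟨X, eX, heX⟩ := exists_overLift_fibGrpd h𝒳.1 x.1 x.2
  obtain ⟨Y, eY, heY⟩ := exists_overLift_fibGrpd h𝒴.1 y.1 y.2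
  obtain ⟨iX⟩ := fiber_iso_of_hom h𝒳.1 (x := vfib X (overTop T')) (y := x) eX.hom heX
  obtain ⟨iY⟩ := fiber_iso_of_hom h𝒴.1 (x := vfib Y (overTop T')) (y := y) eY.hom heY
  have hcls : φ.toEquiv T' (IsoNat.cls (vfib X (overTop T'))) =
      IsoNat.cls (vfib Y (overTop T')) := by
    rw [show IsoNat.cls (vfib X (overTop T')) = IsoNat.cls x from
      Quotient.sound (show Nonempty (vfib X (overTop T') ≅ x) from ⟨iX⟩), hx]
    exact (Quotient.sound (show Nonempty (vfib Y (overTop T') ≅ y) from ⟨iY⟩)).symm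
  have h1 := commute_of_fIso' h𝒳 h𝒴 hd𝒳 hd𝒴 φ X Y hcls
    (fun b e e' => hab (Over.left b) (vfib X b) (X.map (toTop b) ≫ eX.hom ≫ a₁) e e')
    (iY.symm.conjAut s) (iY.symm.conjAut t)
  rw [← map_mul, ← map_mul] at h1
  exact iY.symm.conjAut.injective h1

end Groth.Agent.IsoCls
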