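import Groth.Agent.IsoCls.ThetaGeom

/-!
The theta scheme over an arbitrary scheme: two copies of three crossing lines glued away from the
crossing, with the endomorphisms merging lines and the projections to the lines.
-/

set_option autoImplicit false
set_option backward.isDefEq.respectTransparency false
set_option backward.isDefEq.respectTransparency.types false

universe u

open CategoryTheory CategoryTheory.Limits AlgebraicGeometry FibCat TopologicalSpace
open Groth.Agent.FibC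

namespace Groth.Agent.IsoCls


variable {S : Scheme.{u}}

/-- A line through the crossing over an open piece. -/
structure Lines {T : Over S} (L : Double (AlgSp.J S) T) (Wp : Fin 3 → (overCat T).obj)
    (w : ∀ i, Wp i ⟶ L.W) (oU : overTop T ⟶ L.U) (b : (overCat T).obj) where
  A : (overCat T).obj
  la : Fin 3 → (A ⟶ L.U)
  o : b ⟶ A
  pA : A ⟶ b
  o_pA : o ≫ pA = 𝟙 b
  ho : ∀ i, o ≫ la i = toTop b ≫ oU
  D : (overCat T).obj
  d : D ⟶ A
  dense : IsSchemeTheoreticallyDominant d.left.left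
  dp : ∀ i, D ⟶ Wp i
  hdp : ∀ i, d ≫ la i = dp i ≫ w i ≫ L.v

/-- Two copies of three crossing lines glued off the crossing, over any scheme. -/
structure Theta' (T : Over S) where
  toDouble : Double (AlgSp.J S) T
  Wp : Fin 3 → (overCat T).obj
  w : ∀ i, Wp i ⟶ toDouble.W
  monow : ∀ i, Mono (w i).left
  covW : sieveFam (fun i => (w i).left) ∈ AlgSp.J S (Over.left toDouble.W)
  disjW : ∀ (i i' : Fin 3), i ≠ i' → ∀ {V : Over S} (u : V ⟶ Over.left (Wp i))
    (u' : V ⟶ Over.left (Wp i')), u ≫ (w i).left = u' ≫ (w i').left → IsEmpty V.left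
  oU : overTop T ⟶ toDouble.U
  merge : (Fin 3 → Fin 3) → toDouble.End
  merge_fix : ∀ π i, π i = i → w i ≫ (merge π).rW = w i
  merge_piece : ∀ π i, ∃ q : Wp i ⟶ Wp (π i), w i ≫ (merge π).rW = q ≫ w (π i)
  proj : Fin 3 → (toDouble.U ⟶ toDouble.U)
  proj_self : ∀ i, (w i ≫ toDouble.v) ≫ proj i = w i ≫ toDouble.v
  proj_ne : ∀ i j, j ≠ i → (w j ≫ toDouble.v) ≫ proj i = toTop (Wp j) ≫ oU
  lines : ∀ (b : (overCat T).obj), IsAffine (Over.left b).left →
    Nonempty (Lines toDouble Wp w oU b)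

section ring

variable (A : CommRingCat.{u})

/-- The map contracting all lines but the `i`-th. -/
noncomputable def triProj (i : Fin 3) : Tri A ⟶ Tri A :=
  triLift A (triStr A) (fun k => if k = i then tc A k else 0) fun a b h => by
    split_ifs <;> simp [tc_mul A h]

/-- The crossing. -/
noncomputable def triZero : Tri A ⟶ A :=
  triAxis A 0 ≫ origin A

theorem triZero_tc (j : Fin 3) : triZero A (tc A j) = 0 := by
  change origin A (triAxis A 0 (tc A j)) = 0
  rw [triAxis, triLift_tc]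
  split_ifs <;> simp [origin]

theorem triProj_toLoc_self (i : Fin 3) : triProj A i ≫ toLoc A i = toLoc A i := by
  refine tri_ext A ?_ fun j => ?_
  · rw [← Category.assoc]
    exact congrArg (· ≫ toLoc A i) (triLift_str A _ _ _)
  · rw [CommRingCat.comp_apply, triProj, triLift_tc]
    split_ifs with hj
    · rfl
    · rw [map_zero, toLoc_ne A hj]

theorem triProj_toLoc_ne {i j : Fin 3} (h : j ≠ i) :
    triProj A i ≫ toLoc A j = triZero A ≫ triStr A ≫ toLoc A j := by
  refine tri_ext A ?_ fun k => ?_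
  · rw [← Category.assoc, triProj, triLift_str, ← Category.assoc (triStr A) (triZero A),
      triZero, ← Category.assoc (triStr A) (triAxis A 0), triAxis, triLift_str]
    ext a
    simp [origin]
  · change toLoc A j (triProj A i (tc A k)) = toLoc A j (triStr A (triZero A (tc A k)))
    rw [triZero_tc, map_zero, map_zero, triProj, triLift_tc]
    split_ifs with hk
    · exact toLoc_ne A (hk ▸ Ne.symm h)
    · exact map_zero _

end ring

/-- The integers, in the universe of the schemes. -/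
noncomputable abbrev ZU : CommRingCat.{u} := CommRingCat.of (ULift.{u} ℤ)

/-- The map from the integers. -/
noncomputable def fromZU (R : CommRingCat.{u}) : ZU.{u} ⟶ R :=
  CommRingCat.ofHom ((Int.castRingHom R).comp ULift.ringEquiv.toRingHom)

/-- A product of two schemes, with its projections. -/
theorem exists_product (P Q : Scheme.{u}) : ∃ (U : Scheme.{u}) (zU : U ⟶ P) (sU : U ⟶ Q),
    (∀ {W : Scheme.{u}} (a : W ⟶ P) (b : W ⟶ Q), ∃ l : W ⟶ U, l ≫ zU = a ∧ l ≫ sU = b) ∧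
    (∀ {W : Scheme.{u}} (f g : W ⟶ U), f ≫ zU = g ≫ zU → f ≫ sU = g ≫ sU → f = g) :=
  ⟨P ⨯ Q, prod.fst, prod.snd, fun a b => ⟨prod.lift a b, prod.lift_fst _ _, prod.lift_snd _ _⟩,
    fun _ _ => Limits.prod.hom_ext⟩

/-- The lines through the crossing over an affine scheme mapping to the base. -/
theorem exists_lines {P U V : Scheme.{u}} [IsAffine V] (zU : U ⟶ P) (sU : U ⟶ Spec (Tri ZU.{u}))
    (hlift : ∀ {W : Scheme.{u}} (a : W ⟶ P) (b : W ⟶ Spec (Tri ZU.{u})),
      ∃ l : W ⟶ U, l ≫ zU = a ∧ l ≫ sU = b)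
    (hext : ∀ {W : Scheme.{u}} (f g : W ⟶ U), f ≫ zU = g ≫ zU → f ≫ sU = g ≫ sU → f = g)
    (σ : V ⟶ P) (o₀ : P ⟶ U) (ho₀ : o₀ ≫ zU = 𝟙 P)
    (ho₀' : o₀ ≫ sU = specULiftZIsTerminal.from P ≫ Spec.map (triZero ZU.{u})) :
    ∃ (LA D : Scheme.{u}) (zA : LA ⟶ V) (d : D ⟶ LA) (la : Fin 3 → (LA ⟶ U)) (o : V ⟶ LA)
      (dp : ∀ i, D ⟶ (sU ⁻¹ᵁ PrimeSpectrum.basicOpen (tc ZU.{u} i)).toScheme),
      IsSchemeTheoreticallyDominant d ∧ o ≫ zA = 𝟙 V ∧ (∀ i, la i ≫ zU = zA ≫ σ) ∧
      (∀ i, o ≫ la i = σ ≫ o₀) ∧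
      (∀ i, dp i ≫ (sU ⁻¹ᵁ PrimeSpectrum.basicOpen (tc ZU.{u} i)).ι = d ≫ la i) := by
  let A : CommRingCat.{u} := Γ(V, ⊤)
  let zA : Spec (Line A) ⟶ V := Spec.map (CommRingCat.ofHom Polynomial.C) ≫ V.isoSpec.inv
  have hgmul : ∀ i a c : Fin 3, a ≠ c → (if a = i then (Polynomial.X : Polynomial A) else 0) *
      (if c = i then (Polynomial.X : Polynomial A) else 0) = 0 := by
    intro i a c h
    split_ifs with h1 h2
    · exact absurd (h1.trans h2.symm) h
    all_goals simp
  let g : ∀ _ : Fin 3, Tri ZU.{u} ⟶ Line A := fun i =>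
    triLift ZU.{u} (fromZU (Line A)) (fun k => if k = i then Polynomial.X else 0) (hgmul i)
  choose la hla hla' using fun i => hlift (zA ≫ σ) (Spec.map (g i))
  let o : V ⟶ Spec (Line A) := V.isoSpec.hom ≫ Spec.map (origin A)
  have ho : o ≫ zA = 𝟙 V := by
    have h : CommRingCat.ofHom (Polynomial.C : A →+* Polynomial A) ≫ origin A = 𝟙 A := by
      apply CommRingCat.hom_ext
      ext a
      exact Polynomial.eval_C
    simp only [o, zA, Category.assoc]
    rw [← Spec.map_comp_assoc, h]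
    erw [Spec.map_id]
    erw [Category.id_comp]
    exact Iso.hom_inv_id _
  have hdl : ∀ i, Set.range (Spec.map (punct A) ≫ la i) ⊆
      Set.range (sU ⁻¹ᵁ PrimeSpectrum.basicOpen (tc ZU.{u} i)).ι := by
    rintro i _ ⟨x, rfl⟩
    rw [Scheme.Opens.range_ι]
    change sU ((Spec.map (punct A) ≫ la i) x) ∈ PrimeSpectrum.basicOpen (tc ZU.{u} i)
    rw [← Scheme.Hom.comp_apply, Category.assoc, hla', ← Spec.map_comp]
    refine (PrimeSpectrum.mem_basicOpen _ _).2 fun h => x.isPrime.ne_top ?_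
    have h' : punct A (g i (tc ZU.{u} i)) ∈ x.asIdeal := h
    exact Ideal.eq_top_of_isUnit_mem _ h'
      (show IsUnit (punct A (g i (tc ZU.{u} i))) by
        simp only [g]
        rw [triLift_tc, if_pos rfl]
        exact IsLocalization.Away.algebraMap_isUnit (S := Localization.Away (Polynomial.X : Polynomial A))
          (Polynomial.X : Polynomial A))
  refine ⟨_, _, zA, Spec.map (punct A), la, o, fun i => IsOpenImmersion.lift _ _ (hdl i),
    isSchemeTheoreticallyDominant_specMap _ (punct_injective A), ho, hla, fun i => ?_,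
    fun i => IsOpenImmersion.lift_fac _ _ _⟩
  refine hext _ _ ?_ ?_
  · rw [Category.assoc, hla, ← Category.assoc, ho, Category.id_comp, Category.assoc, ho₀,
      Category.comp_id]
  · rw [Category.assoc, hla', Category.assoc σ o₀ sU, ho₀', ← Category.assoc σ]
    simp only [o, Category.assoc]
    rw [← Spec.map_comp]
    have hg : g i ≫ origin A = triZero ZU.{u} ≫ fromZU A := by
      refine tri_ext ZU.{u} ?_ fun j => ?_
      · exact Spec.map_injective (specULiftZIsTerminal.hom_ext _ _)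
      · change origin A (g i (tc ZU.{u} j)) = fromZU A (triZero ZU.{u} (tc ZU.{u} j))
        rw [triZero_tc, map_zero]
        simp only [g]
        rw [triLift_tc]
        split_ifs <;> simp [origin]
    rw [hg, Spec.map_comp, ← Category.assoc,
      specULiftZIsTerminal.hom_ext (V.isoSpec.hom ≫ Spec.map (fromZU A))
        (σ ≫ specULiftZIsTerminal.from P), Category.assoc]

/-- A map covering a ring map sends one piece into another. -/
theorem exists_piece_map {U : Scheme.{u}} (sU : U ⟶ Spec (Tri ZU.{u})) (f : U ⟶ U)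
    (r : Tri ZU.{u} ⟶ Tri ZU.{u}) (hf : f ≫ sU = sU ≫ Spec.map r) (i j : Fin 3)
    (hr : IsUnit ((r ≫ toLoc ZU.{u} i) (tc ZU.{u} j))) :
    ∃ q : (sU ⁻¹ᵁ PrimeSpectrum.basicOpen (tc ZU.{u} i)).toScheme ⟶
        (sU ⁻¹ᵁ PrimeSpectrum.basicOpen (tc ZU.{u} j)).toScheme,
      q ≫ (sU ⁻¹ᵁ PrimeSpectrum.basicOpen (tc ZU.{u} j)).ι =
        (sU ⁻¹ᵁ PrimeSpectrum.basicOpen (tc ZU.{u} i)).ι ≫ f := by
  refine ⟨IsOpenImmersion.lift _ _ ?_, IsOpenImmersion.lift_fac _ _ _⟩
  rintro _ ⟨x, rfl⟩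
  rw [Scheme.Opens.range_ι]
  let y : U := (sU ⁻¹ᵁ PrimeSpectrum.basicOpen (tc ZU.{u} i)).ι x
  let B : (Spec (Tri ZU.{u})).Opens := PrimeSpectrum.basicOpen (tc ZU.{u} i)
  have hrange : Set.range (Spec.map (toLoc ZU.{u} i)) = (B : Set (Spec (Tri ZU.{u}))) :=
    PrimeSpectrum.localization_away_comap_range (Localization.Away (tc ZU.{u} i)) (tc ZU.{u} i)
  have hy : sU y ∈ Set.range (Spec.map (toLoc ZU.{u} i)) := by
    rw [hrange]
    exact x.2
  obtain ⟨z, hz⟩ := hy
  change sU (f y) ∈ PrimeSpectrum.basicOpen (tc ZU.{u} j)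
  rw [← Scheme.Hom.comp_apply, hf, Scheme.Hom.comp_apply]
  refine (PrimeSpectrum.mem_basicOpen _ _).2 fun h => z.isPrime.ne_top ?_
  rw [← hz] at h
  exact Ideal.eq_top_of_isUnit_mem _ (show (r ≫ toLoc ZU.{u} i) (tc ZU.{u} j) ∈ z.asIdeal from h) hr

/-- The theta scheme over a scheme. -/
theorem exists_theta' (T : Over S) : Nonempty (Theta' T) := by
  obtain ⟨U, zU, sU, hlift, hext⟩ := exists_product T.left (Spec (Tri ZU.{u}))
  choose K hKf hKs using fun f : Tri ZU.{u} ⟶ Tri ZU.{u} => hlift zU (sU ≫ Spec.map f)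
  let Q : Scheme.{u} := Spec (Tri ZU.{u})
  let BQ : Fin 3 → Q.Opens := fun i => PrimeSpectrum.basicOpen (tc ZU.{u} i)
  let Bo : Fin 3 → U.Opens := fun i => sU ⁻¹ᵁ BQ i
  let O : U.Opens := ⨆ i : Fin 3, Bo i
  have hu : ∀ i, IsOpenImmersion (Spec.map (toLoc ZU.{u} i)) := fun i =>
    IsOpenImmersion.of_isLocalization (tc ZU.{u} i)
  have hrange : ∀ i, Set.range (Spec.map (toLoc ZU.{u} i)) = (BQ i : Set Q) := fun i =>
    PrimeSpectrum.localization_away_comap_range (Localization.Away (tc ZU.{u} i)) (tc ZU.{u} i)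
  have hloc : ∀ i, ∃ h : (Bo i).toScheme ⟶ Spec (Loc ZU.{u} i),
      h ≫ Spec.map (toLoc ZU.{u} i) = (Bo i).ι ≫ sU := fun i => by
    have := hu i
    refine ⟨IsOpenImmersion.lift _ _ ?_, IsOpenImmersion.lift_fac _ _ _⟩
    rintro _ ⟨x, rfl⟩
    rw [hrange, Scheme.Hom.comp_apply]
    exact x.2
  choose h hh using hloc
  have hker : ∀ (i : Fin 3) (f g : Tri ZU.{u} ⟶ Tri ZU.{u}),
      f ≫ toLoc ZU.{u} i = g ≫ toLoc ZU.{u} i → (Bo i).ι ≫ K f = (Bo i).ι ≫ K g := by
    intro i f g hfg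
    refine hext _ _ ?_ ?_
    · rw [Category.assoc, Category.assoc, hKf, hKf]
    · rw [Category.assoc, Category.assoc, hKs, hKs, ← reassoc_of% (hh i), ← reassoc_of% (hh i),
        ← Spec.map_comp, ← Spec.map_comp, hfg]
  have hK1 : K (𝟙 _) = 𝟙 U := by
    refine hext _ _ ?_ ?_
    · rw [hKf, Category.id_comp]
    · rw [hKs, Spec.map_id]
      exact (Category.comp_id _).trans (Category.id_comp _).symm
  -- merging
  let rU₀ : (Fin 3 → Fin 3) → (U ⟶ U) := fun π => K (remap ZU.{u} π)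
  have hq : ∀ (π : Fin 3 → Fin 3) (i : Fin 3), ∃ q : (Bo i).toScheme ⟶ (Bo (π i)).toScheme,
      q ≫ (Bo (π i)).ι = (Bo i).ι ≫ rU₀ π := fun π i =>
    exists_piece_map sU (rU₀ π) (remap ZU.{u} π) (hKs _) i (π i) (remap_unit ZU.{u} π i)
  choose q hq using hq
  let C := pushout O.ι O.ι
  let jl : U ⟶ C := pushout.inl O.ι O.ι
  let jr : U ⟶ C := pushout.inr O.ι O.ι
  let zC : C ⟶ T.left := pushout.desc zU zU rfl
  have hl : IsOpenImmersion jl :=
    inferInstanceAs (IsOpenImmersion (colimit.ι (span O.ι O.ι) WalkingSpan.left))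
  have hr : IsOpenImmersion jr :=
    inferInstanceAs (IsOpenImmersion (colimit.ι (span O.ι O.ι) WalkingSpan.right))
  have hjl : jl ≫ zC = zU := pushout.inl_desc _ _ _
  have hjr : jr ≫ zC = zU := pushout.inr_desc _ _ _
  have hcovC : ∀ x : C, x ∈ Set.range jl ∨ x ∈ Set.range jr := by
    intro x
    obtain ⟨(_ | _ | _), y, rfl⟩ := Scheme.IsLocallyDirected.ι_jointly_surjective (span O.ι O.ι) x
    · refine Or.inl ⟨O.ι y, ?_⟩
      rw [← Scheme.Hom.comp_apply]
      exact congrArg (fun f : _ ⟶ C => f y) (colimit.w (span O.ι O.ι) WalkingSpan.Hom.fst)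
    · exact Or.inl ⟨y, rfl⟩
    · exact Or.inr ⟨y, rfl⟩
  have hinter : ∀ (a b : U), jl a = jr b → a ∈ O := by
    intro a b h
    obtain ⟨k, fi, fj, x, hx, -⟩ := (Scheme.IsLocallyDirected.ι_eq_ι_iff (span O.ι O.ι)
      (i := WalkingSpan.left) (j := WalkingSpan.right)).1 h
    rcases k with (_ | _ | _)
    · cases fi
      exact hx ▸ x.2
    · cases fj
    · cases fi
  have hBO : ∀ i, Bo i ≤ O := fun i => le_iSup Bo i
  let w₀ : ∀ i, (Bo i).toScheme ⟶ O.toScheme := fun i => U.homOfLE (hBO i)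
  have hw₀ : ∀ i, w₀ i ≫ O.ι = (Bo i).ι := fun i => Scheme.homOfLE_ι _ _
  have hcovO : ∀ x : O.toScheme, ∃ i, x ∈ Set.range (w₀ i) := by
    intro x
    obtain ⟨i, hi⟩ := Opens.mem_iSup.1 x.2
    refine ⟨i, ⟨x.1, hi⟩, Subtype.ext ?_⟩
    change O.ι (w₀ i ⟨x.1, hi⟩) = _
    rw [← Scheme.Hom.comp_apply, hw₀ i]
    rfl
  have hrO : ∀ π, Set.range (O.ι ≫ rU₀ π) ⊆ Set.range O.ι := by
    rintro π _ ⟨x, rfl⟩
    obtain ⟨i, y, rfl⟩ := hcovO x
    refine ⟨w₀ (π i) (q π i y), ?_⟩
    rw [← Scheme.Hom.comp_apply, hw₀, ← Scheme.Hom.comp_apply, hq, ← hw₀ i, Category.assoc,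
      Scheme.Hom.comp_apply]
  let rW₀ : (Fin 3 → Fin 3) → (O.toScheme ⟶ O.toScheme) := fun π =>
    IsOpenImmersion.lift O.ι (O.ι ≫ rU₀ π) (hrO π)
  have hrW : ∀ π, rW₀ π ≫ O.ι = O.ι ≫ rU₀ π := fun π =>
    IsOpenImmersion.lift_fac O.ι (O.ι ≫ rU₀ π) (hrO π)
  have hglue : O.ι ≫ jl = O.ι ≫ jr := pushout.condition
  let rC₀ : (Fin 3 → Fin 3) → (C ⟶ C) := fun π => pushout.desc (rU₀ π ≫ jl) (rU₀ π ≫ jr) (by
    rw [← Category.assoc, ← Category.assoc, ← hrW, Category.assoc, Category.assoc, hglue])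
  have hrz : ∀ π, rU₀ π ≫ zU = zU := fun π => hKf _
  let zW : O.toScheme ⟶ T.left := O.ι ≫ zU
  let zp : ∀ i, (Bo i).toScheme ⟶ T.left := fun i => (Bo i).ι ≫ zU
  let j₁ : mk2 zU ⟶ mk2 zC := hom2 jl hjl
  let j₂ : mk2 zU ⟶ mk2 zC := hom2 jr hjr
  let v : mk2 zW ⟶ mk2 zU := hom2 O.ι rfl
  let w : ∀ i, mk2 (zp i) ⟶ mk2 zW := fun i =>
    hom2 (w₀ i) (by simp only [zW, zp]; rw [← Category.assoc, hw₀])
  have : IsOpenImmersion j₁.left.left := hl
  have : IsOpenImmersion j₂.left.left := hr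
  have : IsOpenImmersion v.left.left := inferInstanceAs (IsOpenImmersion O.ι)
  have : ∀ i, IsOpenImmersion (w i).left.left := fun i => inferInstanceAs (IsOpenImmersion (w₀ i))
  obtain ⟨o₀, ho₀, ho₀'⟩ :=
    hlift (𝟙 _) (specULiftZIsTerminal.from T.left ≫ Spec.map (triZero ZU.{u}))
  let oU : overTop T ⟶ mk2 zU := Over.homMk
    (Over.homMk o₀ (by
      change o₀ ≫ zU ≫ T.hom = T.hom
      rw [← Category.assoc, ho₀, Category.id_comp]))
    (Over.OverMorphism.ext ho₀)
  refine ⟨{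
    toDouble := {
      C := mk2 zC, U := mk2 zU, W := mk2 zW
      j₁ := j₁, j₂ := j₂, mono₁ := mono_of_left _, mono₂ := mono_of_left _
      cov := sieve2_mem _ _ hcovC
      v := v, monov := mono_of_left _
      glue := Over.OverMorphism.ext (Over.OverMorphism.ext hglue)
      overlap := ?_ }
    Wp := fun i => mk2 (zp i), w := w, monow := fun i => mono_of_left _
    covW := sieveFam_mem _ hcovO
    disjW := fun i i' hii {V} u u' h => isEmpty_of_disjoint _ _ ?_ u u' h
    oU := oU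
    merge := fun π => {
      rC := hom2 (rC₀ π) (pushout.hom_ext
        (by rw [pushout.inl_desc_assoc, Category.assoc, hjl, hrz])
        (by rw [pushout.inr_desc_assoc, Category.assoc, hjr, hrz]))
      rU := hom2 (rU₀ π) (hrz π)
      rW := hom2 (rW₀ π) (by simp only [zW]; rw [← Category.assoc, hrW, Category.assoc, hrz])
      h₁ := Over.OverMorphism.ext (Over.OverMorphism.ext (pushout.inl_desc _ _ _).symm)
      h₂ := Over.OverMorphism.ext (Over.OverMorphism.ext (pushout.inr_desc _ _ _).symm)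
      hv := Over.OverMorphism.ext (Over.OverMorphism.ext (hrW π)) }
    merge_fix := fun π i h => Over.OverMorphism.ext (Over.OverMorphism.ext ?_)
    merge_piece := fun π i => ⟨hom2 (q π i) (by
        simp only [zp]; rw [← Category.assoc, hq, Category.assoc, hrz]),
      Over.OverMorphism.ext (Over.OverMorphism.ext ?_)⟩
    proj := fun i => hom2 (K (triProj ZU.{u} i)) (hKf _)
    proj_self := fun i => Over.OverMorphism.ext (Over.OverMorphism.ext ?_)
    proj_ne := fun i j h => Over.OverMorphism.ext (Over.OverMorphism.ext ?_)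
    lines := fun b _ => ?_ }⟩
  · intro V u u' h
    have h' : u.left ≫ jl = u'.left ≫ jr := congrArg Over.Hom.left h
    have hr' : Set.range u.left ⊆ Set.range O.ι := by
      rintro _ ⟨x, rfl⟩
      rw [Scheme.Opens.range_ι]
      exact hinter _ (u'.left x) (congrArg (fun f : V.left ⟶ C => f x) h')
    have hw := IsOpenImmersion.lift_fac O.ι u.left hr'
    have hw' : IsOpenImmersion.lift O.ι u.left hr' ≫ O.ι = u'.left := by
      rw [← cancel_mono jr, Category.assoc, ← hglue, ← Category.assoc, hw]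
      exact h'
    exact ⟨Over.homMk (IsOpenImmersion.lift O.ι u.left hr') (by
      change _ ≫ (O.ι ≫ zU) ≫ T.hom = _
      rw [Category.assoc, ← Category.assoc, hw]
      exact Over.w u), Over.OverMorphism.ext hw, Over.OverMorphism.ext hw'⟩
  · refine Set.disjoint_left.2 ?_
    rintro _ ⟨a, rfl⟩ ⟨b, hb⟩
    have h1 : (Bo i).ι a = (Bo i').ι b := by
      rw [← hw₀ i, ← hw₀ i', Scheme.Hom.comp_apply, Scheme.Hom.comp_apply]
      exact congrArg _ hb.symm
    have ha : sU ((Bo i).ι a) ∈ BQ i := a.2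
    have hb' : sU ((Bo i').ι b) ∈ BQ i' := b.2
    rw [← h1] at hb'
    have h2 : sU ((Bo i).ι a) ∈ BQ i ⊓ BQ i' := ⟨ha, hb'⟩
    simp only [BQ] at h2
    rw [← PrimeSpectrum.basicOpen_mul, tc_mul ZU.{u} hii, PrimeSpectrum.basicOpen_zero] at h2
    exact h2.elim
  · change w₀ i ≫ rW₀ π = w₀ i
    rw [← cancel_mono O.ι, Category.assoc, hrW, ← Category.assoc, hw₀]
    refine (hker i _ (𝟙 _) ?_).trans (by rw [hK1, Category.comp_id])
    rw [remap_toLoc_fix ZU.{u} π i h, Category.id_comp]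
  · change w₀ i ≫ rW₀ π = q π i ≫ w₀ (π i)
    rw [← cancel_mono O.ι, Category.assoc, hrW, ← Category.assoc, hw₀, Category.assoc, hw₀, hq]
  · change (w₀ i ≫ O.ι) ≫ K (triProj ZU.{u} i) = w₀ i ≫ O.ι
    rw [hw₀]
    refine (hker i _ (𝟙 _) ?_).trans (by rw [hK1, Category.comp_id])
    rw [triProj_toLoc_self, Category.id_comp]
  · change (w₀ j ≫ O.ι) ≫ K (triProj ZU.{u} i) = zp j ≫ o₀
    rw [hw₀, hker j _ (triZero ZU.{u} ≫ triStr ZU.{u})
      (by rw [triProj_toLoc_ne ZU.{u} h, Category.assoc])]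
    refine hext _ _ ?_ ?_
    · rw [Category.assoc, Category.assoc, hKf]
      change (Bo j).ι ≫ zU = zp j ≫ o₀ ≫ zU
      rw [ho₀, Category.comp_id]
    · rw [Category.assoc, Category.assoc, hKs, ho₀', Spec.map_comp]
      simp only [← Category.assoc]
      congr 1
      exact specULiftZIsTerminal.hom_ext _ _
  · obtain ⟨LA, DD, zA, d, la₀, o₁, dp, hd, ho₁, hla, hola, hdp⟩ :=
      exists_lines zU sU hlift hext (Over.hom b).left o₀ ho₀ ho₀'
    have hw : (Over.hom b).left ≫ T.hom = (Over.left b).hom := Over.w (Over.hom b)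
    refine ⟨{
      A := mk2 (zA ≫ (Over.hom b).left)
      la := fun i => hom2 (la₀ i) (hla i)
      o := Over.homMk (Over.homMk o₁ (by
          change o₁ ≫ (zA ≫ (Over.hom b).left) ≫ T.hom = (Over.left b).hom
          rw [Category.assoc, ← Category.assoc o₁, ho₁, Category.id_comp, hw]))
        (Over.OverMorphism.ext (show o₁ ≫ zA ≫ (Over.hom b).left = (Over.hom b).left by
          rw [← Category.assoc, ho₁, Category.id_comp]))
      pA := Over.homMk (Over.homMk zA (by
          change zA ≫ (Over.left b).hom = (zA ≫ (Over.hom b).left) ≫ T.hom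
          rw [Category.assoc, hw]))
        (Over.OverMorphism.ext rfl)
      o_pA := Over.OverMorphism.ext (Over.OverMorphism.ext ho₁)
      ho := fun i => Over.OverMorphism.ext (Over.OverMorphism.ext (hola i))
      D := mk2 (d ≫ zA ≫ (Over.hom b).left)
      d := hom2 d rfl
      dense := hd
      dp := fun i => hom2 (dp i) (by
        change dp i ≫ zp i = d ≫ zA ≫ (Over.hom b).left
        rw [← Category.assoc, hdp, Category.assoc, hla])
      hdp := fun i => Over.OverMorphism.ext (Over.OverMorphism.ext ?_) }⟩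
    change d ≫ la₀ i = dp i ≫ w₀ i ≫ O.ι
    rw [hw₀, hdp]

end Groth.Agent.IsoCls
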