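import Groth.Agent.IsoCls.Abelian
import Groth.Agent.IsoCls.ThetaGen

/-!
An abelian automorphism group is recovered from isomorphism classes: the constant cocycles on the
theta scheme are the classes killed by the merges to one line, and the merges give the product.
-/

set_option autoImplicit false
set_option backward.isDefEq.respectTransparency false
set_option backward.isDefEq.respectTransparency.types false

universe u

open CategoryTheory CategoryTheory.Limits AlgebraicGeometry FibCat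
open CategoryTheory.Functor Groth.Agent.FibC

namespace Groth.Agent.IsoCls

variable {S : Scheme.{u}} {𝒳 𝒴 : AlgSt.Cat S} {T : Over S}

/-- A twist with constant values on the pieces. -/
def HasPieces (h : IsFibGrpd 𝒳.p) {X : overCat T ⥤ᵇ 𝒳} (G : Theta' T) (Z : Twist G.toDouble X)
    (b : Fin 3 → VA X (overTop T)) : Prop :=
  ∀ i, res h X (G.w i) Z.σ = const h X (G.Wp i) (b i)

theorem exists_hasPieces (h : Stk.IsStack (AlgSp.J S) 𝒳)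
    (hd : AlgSt.RepByAlgSpWith (AlgSp.RepWith @IsClosedImmersion) (diag (diag (toSelf 𝒳))))
    (G : Theta' T) (X : overCat T ⥤ᵇ 𝒳) (b : Fin 3 → VA X (overTop T)) :
    ∃ Z : Twist G.toDouble X, HasPieces h.1 G Z b := by
  have := G.monow
  obtain ⟨σ, hσ⟩ := exists_va_glue (StkLib.isPrestack_of_isStack h) hd G.w G.covW G.disjW
    fun i => const h.1 X (G.Wp i) (b i)
  obtain ⟨Z, hZ⟩ := exists_twist h G.toDouble X σ
  exact ⟨Z, fun i => by rw [hZ]; exact hσ i⟩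

theorem cls_eq_of_hasPieces (hP : Stk.IsPrestack (AlgSp.J S) 𝒳) {G : Theta' T} {X : overCat T ⥤ᵇ 𝒳}
    {Z Z' : Twist G.toDouble X} {b b' : Fin 3 → VA X (overTop T)}
    (hZ : HasPieces hP.1 G Z b) (hZ' : HasPieces hP.1 G Z' b') (c : VA X (overTop T))
    (hc : ∀ i, b' i = c * b i) : IsoNat.cls Z.fib = IsoNat.cls Z'.fib := by
  obtain ⟨θ, hθ⟩ := Twist.exists_hom hP Z Z' 1 (const hP.1 X G.toDouble.U c) (by
    refine va_ext_of_cover hP G.w G.covW fun i => ?_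
    rw [map_mul, map_mul, hZ' i, hZ i, map_one, map_one, mul_one, res_const, res_const, hc i,
      map_mul])
  exact Quotient.sound (fiber_iso_of_hom hP.1 (x := Z.fib) (y := Z'.fib) θ hθ)

theorem exists_trivial_twist (h : IsFibGrpd 𝒳.p) (G : Theta' T) (X : overCat T ⥤ᵇ 𝒳) :
    ∃ Z : Twist G.toDouble X, Z.fib = vfib X G.toDouble.C ∧ Z.σ = 1 ∧ HasPieces h G Z 1 := by
  refine ⟨⟨X.obj G.toDouble.C, X.w_obj _, X.map G.toDouble.j₁, X.map G.toDouble.j₂,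
    map_lift X _, map_lift X _, 1, ?_⟩, rfl, rfl, fun i => ?_⟩
  · rw [VA.one_hom, Category.id_comp, ← Functor.map_comp, ← Functor.map_comp, G.toDouble.glue]
  · rw [Pi.one_apply, map_one, map_one]

theorem exists_pullback_hasPieces (h : IsFibGrpd 𝒳.p) {G : Theta' T} {X : overCat T ⥤ᵇ 𝒳}
    {Z : Twist G.toDouble X} {b : Fin 3 → VA X (overTop T)} (hZ : HasPieces h G Z b)
    (π : Fin 3 → Fin 3) : ∃ (P : Twist G.toDouble X) (a : P.z ⟶ Z.z),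
      𝒳.p.IsHomLift (G.merge π).rC.left a ∧ HasPieces h G P (b ∘ π) := by
  obtain ⟨P, a, ha, hP⟩ := Z.exists_pullback h (G.merge π)
  refine ⟨P, a, ha, fun i => ?_⟩
  obtain ⟨q, hq⟩ := G.merge_piece π i
  rw [hP, res_res, res_congr h hq, ← res_res, hZ (π i), res_const]
  rfl

theorem const_top (h : IsFibGrpd 𝒳.p) {X : overCat T ⥤ᵇ 𝒳} (e : VA X (overTop T)) :
    const h X (overTop T) e = e :=
  (res_congr h (Over.OverMorphism.ext ((Category.comp_id _).symm.trans (Over.w (toTop (overTop T)))))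
    e).trans (res_id h e)

/-- Twists with equal classes differ by a constant. -/
theorem diff_eq_of_cls_eq (h : Stk.IsStack (AlgSp.J S) 𝒳)
    (hd : AlgSt.RepByAlgSpWith (AlgSp.RepWith @IsClosedImmersion) (diag (diag (toSelf 𝒳))))
    {G : Theta' T} {X : overCat T ⥤ᵇ 𝒳} (hab : ∀ (c : (overCat T).obj) (e e' : VA X c), e * e' = e' * e)
    {Z Z' : Twist G.toDouble X} {b b' : Fin 3 → VA X (overTop T)}
    (hZ : HasPieces h.1 G Z b) (hZ' : HasPieces h.1 G Z' b')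
    (he : IsoNat.cls Z.fib = IsoNat.cls Z'.fib) (i l : Fin 3) :
    b' i * (b i)⁻¹ = b' l * (b l)⁻¹ := by
  have hg := h.1
  have hP := StkLib.isPrestack_of_isStack h
  obtain ⟨ι⟩ := iso_of_cls_eq he
  obtain ⟨E₁, E₂, hE⟩ := Z.exists_coboundary hg Z' ι.hom.1 ι.hom.2
  suffices hk : ∀ i, res hg X G.oU (E₂ * E₁⁻¹) = b' i * (b i)⁻¹ by rw [← hk i, hk l]
  intro i
  have h1 : res hg X (G.w i ≫ G.toDouble.v) (E₂ * E₁⁻¹) =
      const hg X (G.Wp i) (b' i * (b i)⁻¹) := by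
    have h2 := congrArg (res hg X (G.w i)) hE
    rw [map_mul, map_mul, hZ' i, hZ i, res_res, res_res] at h2
    rw [map_mul, _root_.map_inv, map_mul, _root_.map_inv, eq_mul_inv_iff_mul_eq, mul_assoc,
      hab _ _ (const hg X (G.Wp i) (b i)), ← mul_assoc, ← h2, mul_inv_cancel_right]
  let 𝒰 := T.left.affineCover
  let B : 𝒰.I₀ → (overCat T).obj := fun j => mk2 (𝒰.f j)
  have hcov : sieveFam (fun j => (toTop (B j)).left) ∈ AlgSp.J S T := by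
    refine Groth.Agent.AlgSp.mem_of_cover (R := Presieve.ofArrows 𝒰.X 𝒰.f)
      (Scheme.zariskiPrecoverage_le_fppfPrecoverage _ 𝒰.mem₀) ?_
    rintro W k ⟨j⟩
    exact ⟨j, Over.homMk (𝟙 _) (Category.id_comp _),
      Over.OverMorphism.ext (Category.id_comp _)⟩
  refine va_ext_of_cover hP (fun j => toTop (B j)) hcov fun j => ?_
  obtain ⟨M⟩ := G.lines (B j) (inferInstanceAs (IsAffine (𝒰.X j)))
  have h3 : res hg X (M.la i) (E₂ * E₁⁻¹) = const hg X M.A (b' i * (b i)⁻¹) := by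
    have := M.dense
    apply res_injective_of_dense hg hd M.d
    rw [res_res, res_congr hg (M.hdp i), ← res_res, h1, res_const, res_const]
  have h4 := congrArg (res hg X M.o) h3
  rw [res_res, res_congr hg (M.ho i), ← res_res, res_const] at h4
  exact h4

/-- Correspondence of constant cocycles. -/
def Corr (h𝒳 : IsFibGrpd 𝒳.p) (h𝒴 : IsFibGrpd 𝒴.p) (φ : IsoNat.FIso 𝒳 𝒴) (G : Theta' T)
    {X : overCat T ⥤ᵇ 𝒳} {Y : overCat T ⥤ᵇ 𝒴} (b : Fin 3 → VA X (overTop T))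
    (b' : Fin 3 → VA Y (overTop T)) : Prop :=
  ∃ (Z : Twist G.toDouble X) (Z' : Twist G.toDouble Y), HasPieces h𝒳 G Z b ∧ HasPieces h𝒴 G Z' b' ∧
    φ.toEquiv (Over.left G.toDouble.C) (IsoNat.cls Z.fib) = IsoNat.cls Z'.fib

theorem Corr.symm {h𝒳 : IsFibGrpd 𝒳.p} {h𝒴 : IsFibGrpd 𝒴.p} {φ : IsoNat.FIso 𝒳 𝒴} {G : Theta' T}
    {X : overCat T ⥤ᵇ 𝒳} {Y : overCat T ⥤ᵇ 𝒴} {b : Fin 3 → VA X (overTop T)}
    {b' : Fin 3 → VA Y (overTop T)} (hc : Corr h𝒳 h𝒴 φ G b b') :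
    Corr h𝒴 h𝒳 (fisoSymm h𝒳 h𝒴 φ) G b' b := by
  obtain ⟨Z, Z', hZ, hZ', he⟩ := hc
  exact ⟨Z', Z, hZ', hZ, (φ.toEquiv _).symm_apply_eq.2 he.symm⟩

theorem Corr.comp {h𝒳 : IsFibGrpd 𝒳.p} {h𝒴 : IsFibGrpd 𝒴.p} {φ : IsoNat.FIso 𝒳 𝒴} {G : Theta' T}
    {X : overCat T ⥤ᵇ 𝒳} {Y : overCat T ⥤ᵇ 𝒴} {b : Fin 3 → VA X (overTop T)}
    {b' : Fin 3 → VA Y (overTop T)} (hc : Corr h𝒳 h𝒴 φ G b b') (π : Fin 3 → Fin 3) :
    Corr h𝒳 h𝒴 φ G (b ∘ π) (b' ∘ π) := by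
  obtain ⟨Z, Z', hZ, hZ', he⟩ := hc
  obtain ⟨P, a, ha, hP⟩ := exists_pullback_hasPieces h𝒳 hZ π
  obtain ⟨P', a', ha', hP'⟩ := exists_pullback_hasPieces h𝒴 hZ' π
  exact ⟨P, P', hP, hP', toEquiv_eq_of_lifts h𝒴 φ (G.merge π).rC.left (x' := P.fib) (x := Z.fib)
    (y' := P'.fib) (y := Z'.fib) a a' ha ha' he⟩

variable (h𝒳 : Stk.IsStack (AlgSp.J S) 𝒳) (h𝒴 : Stk.IsStack (AlgSp.J S) 𝒴)
  (hd𝒳 : AlgSt.RepByAlgSpWith (AlgSp.RepWith @IsClosedImmersion) (diag (diag (toSelf 𝒳))))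
  (hd𝒴 : AlgSt.RepByAlgSpWith (AlgSp.RepWith @IsClosedImmersion) (diag (diag (toSelf 𝒴))))
  (φ : IsoNat.FIso 𝒳 𝒴) (G : Theta' T) {X : overCat T ⥤ᵇ 𝒳} {Y : overCat T ⥤ᵇ 𝒴}
  (hcls : φ.toEquiv T (IsoNat.cls (vfib X (overTop T))) = IsoNat.cls (vfib Y (overTop T)))
  (habX : ∀ (c : (overCat T).obj) (e e' : VA X c), e * e' = e' * e)
  (habY : ∀ (c : (overCat T).obj) (e e' : VA Y c), e * e' = e' * e)

include h𝒳 h𝒴 hd𝒳 hd𝒴 hcls habY in
theorem exists_corr (b : Fin 3 → VA X (overTop T)) :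
    ∃ b' : Fin 3 → VA Y (overTop T), Corr h𝒳.1 h𝒴.1 φ G b b' := by
  have hgX := h𝒳.1
  have hgY := h𝒴.1
  have hPX := StkLib.isPrestack_of_isStack h𝒳
  have hPY := StkLib.isPrestack_of_isStack h𝒴
  have hb : ∀ c : (overCat T).obj,
      φ.toEquiv (Over.left c) (IsoNat.cls (vfib X c)) = IsoNat.cls (vfib Y c) := fun c =>
    toEquiv_eq_of_lifts hgY φ (toTop c).left (X.map (toTop c)) (Y.map (toTop c))
      (map_lift X (toTop c)) (map_lift Y (toTop c)) hcls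
  obtain ⟨Z, hZ⟩ := exists_hasPieces h𝒳 hd𝒳 G X b
  -- the corresponding glued object
  let zY := (φ.toEquiv (Over.left G.toDouble.C) (IsoNat.cls Z.fib)).out
  have hzY : φ.toEquiv (Over.left G.toDouble.C) (IsoNat.cls Z.fib) = IsoNat.cls zY :=
    (Quotient.out_eq _).symm
  let ψ := fisoSymm hgX hgY φ
  have hU : ψ.toEquiv _ (IsoNat.cls (vfib Y G.toDouble.U)) = IsoNat.cls (vfib X G.toDouble.U) :=
    (φ.toEquiv _).symm_apply_eq.2 (hb G.toDouble.U).symm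
  have hC : ψ.toEquiv _ (IsoNat.cls zY) = IsoNat.cls Z.fib :=
    (φ.toEquiv _).symm_apply_eq.2 hzY.symm
  obtain ⟨f₁, hf₁⟩ := exists_hom_of_cls hgY hgX ψ G.toDouble.j₁.left
    (x' := vfib Y G.toDouble.U) (x := zY) (y' := vfib X G.toDouble.U) (y := Z.fib) Z.f₁ Z.hf₁ hU hC
  obtain ⟨f₂, hf₂⟩ := exists_hom_of_cls hgY hgX ψ G.toDouble.j₂.left
    (x' := vfib Y G.toDouble.U) (x := zY) (y' := vfib X G.toDouble.U) (y := Z.fib) Z.f₂ Z.hf₂ hU hC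
  obtain ⟨W, hW⟩ := exists_twist_of_triv hgY G.toDouble Y zY.2 f₁ f₂ hf₁ hf₂
  have hWfib : W.fib = zY := Subtype.ext hW
  -- the merges to one line are trivial
  have hmerge : ∀ j : Fin 3, ∃ e : VA Y G.toDouble.U,
      res hgY Y (G.w j) W.σ = res hgY Y (G.w j ≫ G.toDouble.v) e := by
    intro j
    let π : Fin 3 → Fin 3 := fun _ => j
    obtain ⟨P, a, ha, hP⟩ := exists_pullback_hasPieces hgX hZ π
    obtain ⟨Q, c, hc, hQ⟩ := W.exists_pullback hgY (G.merge π)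
    obtain ⟨X₀, hX₀, -, hX₀'⟩ := exists_trivial_twist hgX G X
    obtain ⟨Y₀, hY₀, hY₀σ, -⟩ := exists_trivial_twist hgY G Y
    have e1 : φ.toEquiv _ (IsoNat.cls P.fib) = IsoNat.cls Q.fib :=
      toEquiv_eq_of_lifts hgY φ (G.merge π).rC.left (x' := P.fib) (x := Z.fib)
        (y' := Q.fib) (y := W.fib) a c ha hc (hzY.trans (congrArg IsoNat.cls hWfib.symm))
    have e2 : IsoNat.cls X₀.fib = IsoNat.cls P.fib :=
      cls_eq_of_hasPieces hPX hX₀' hP (b j) fun i => (mul_one (b j)).symm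
    rw [← e2, hX₀, hb, ← hY₀] at e1
    obtain ⟨ι⟩ := iso_of_cls_eq e1
    obtain ⟨E₁, E₂, hE⟩ := Y₀.exists_coboundary hgY Q ι.hom.1 ι.hom.2
    rw [hY₀σ, mul_one, hQ] at hE
    refine ⟨E₂ * E₁⁻¹, ?_⟩
    have h1 := congrArg (res hgY Y (G.w j)) (eq_mul_inv_of_mul_eq hE)
    rw [res_res, res_congr hgY (G.merge_fix π j rfl), ← _root_.map_inv, ← map_mul, res_res] at h1
    exact h1
  choose e he using hmerge
  let d : Fin 3 → VA Y (overTop T) := fun j => res hgY Y G.oU (e j)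
  let f : Fin 3 → VA Y G.toDouble.U := fun j => e j * (const hgY Y G.toDouble.U (d j))⁻¹
  have hf : ∀ j, res hgY Y G.oU (f j) = 1 := fun j => by
    rw [map_mul, _root_.map_inv, res_const, const_top, mul_inv_cancel]
  let E : VA Y G.toDouble.U :=
    res hgY Y (G.proj 0) (f 0) * res hgY Y (G.proj 1) (f 1) * res hgY Y (G.proj 2) (f 2)
  have hE : ∀ i, res hgY Y (G.w i ≫ G.toDouble.v) E = res hgY Y (G.w i ≫ G.toDouble.v) (f i) := by
    intro i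
    have hl : ∀ l, res hgY Y (G.w i ≫ G.toDouble.v) (res hgY Y (G.proj l) (f l)) =
        if i = l then res hgY Y (G.w i ≫ G.toDouble.v) (f i) else 1 := fun l => by
      split_ifs with hil
      · subst hil
        rw [res_res, res_congr hgY (G.proj_self i)]
      · rw [res_res, res_congr hgY (G.proj_ne l i hil), ← res_res, hf, map_one]
    rw [map_mul, map_mul, hl, hl, hl]
    fin_cases i <;> simp
  obtain ⟨Z', hZ'⟩ := exists_hasPieces h𝒴 hd𝒴 G Y d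
  refine ⟨d, Z, Z', hZ, hZ', ?_⟩
  obtain ⟨θ, hθ⟩ := Twist.exists_hom hPY Z' W 1 E (by
    refine va_ext_of_cover hPY G.w G.covW fun i => ?_
    rw [map_mul, map_mul, he i, hZ' i, map_one, map_one, mul_one, res_res, hE i, map_mul,
      _root_.map_inv, res_const, inv_mul_cancel_right])
  rw [hzY, ← hWfib]
  exact (Quotient.sound (fiber_iso_of_hom hgY (x := Z'.fib) (y := W.fib) θ hθ)).symm

/-- The transferred automorphism. -/
noncomputable def autMap (a : VA X (overTop T)) : VA Y (overTop T) :=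
  let d := (exists_corr h𝒳 h𝒴 hd𝒳 hd𝒴 φ G hcls habY ![1, a, a]).choose
  d 1 * (d 0)⁻¹

include habX in
theorem autMap_edge {b : Fin 3 → VA X (overTop T)} {b' : Fin 3 → VA Y (overTop T)}
    (hc : Corr h𝒳.1 h𝒴.1 φ G b b') (i j : Fin 3) :
    autMap h𝒳 h𝒴 hd𝒳 hd𝒴 φ G hcls habY (b j * (b i)⁻¹) = b' j * (b' i)⁻¹ := by
  let a := b j * (b i)⁻¹
  have hd := (exists_corr h𝒳 h𝒴 hd𝒳 hd𝒴 φ G hcls habY ![1, a, a]).choose_spec
  let d := (exists_corr h𝒳 h𝒴 hd𝒳 hd𝒴 φ G hcls habY ![1, a, a]).choose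
  change d 1 * (d 0)⁻¹ = _
  obtain ⟨Z, Z', hZ, hZ', he⟩ := hc.comp ![i, j, j]
  obtain ⟨W, W', hW, hW', he'⟩ := hd
  have h1 : IsoNat.cls W.fib = IsoNat.cls Z.fib :=
    cls_eq_of_hasPieces (StkLib.isPrestack_of_isStack h𝒳) hW hZ (b i) fun l => by
      have h2 : b j = b i * (b j * (b i)⁻¹) := by rw [habX, inv_mul_cancel_right]
      fin_cases l
      · exact (mul_one (b i)).symm
      · exact h2
      · exact h2
  have h3 := diff_eq_of_cls_eq h𝒴 hd𝒴 habY hW' hZ'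
    (by rw [← he', ← he, h1]) 1 0
  change b' j * (d 1)⁻¹ = b' i * (d 0)⁻¹ at h3
  have h4 : (b' i)⁻¹ * b' j = (d 0)⁻¹ * d 1 := by
    rw [eq_mul_inv_iff_mul_eq] at h3
    rw [← mul_inv_cancel_right (b' j) (d 1), ← h3]
    group
  rw [habY, habY _ (b' j)]
  exact h4.symm

include habX in
theorem autMap_mul (a a' : VA X (overTop T)) :
    autMap h𝒳 h𝒴 hd𝒳 hd𝒴 φ G hcls habY (a * a') =
      autMap h𝒳 h𝒴 hd𝒳 hd𝒴 φ G hcls habY a * autMap h𝒳 h𝒴 hd𝒳 hd𝒴 φ G hcls habY a' := by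
  obtain ⟨d, hd⟩ := exists_corr h𝒳 h𝒴 hd𝒳 hd𝒴 φ G hcls habY ![1, a, a * a']
  have h01 := autMap_edge h𝒳 h𝒴 hd𝒳 hd𝒴 φ G hcls habX habY hd 0 1
  have h12 := autMap_edge h𝒳 h𝒴 hd𝒳 hd𝒴 φ G hcls habX habY hd 1 2
  have h02 := autMap_edge h𝒳 h𝒴 hd𝒳 hd𝒴 φ G hcls habX habY hd 0 2
  have e01 : (![1, a, a * a'] : Fin 3 → _) 1 * ((![1, a, a * a'] : Fin 3 → _) 0)⁻¹ = a := by simp
  have e12 : (![1, a, a * a'] : Fin 3 → _) 2 * ((![1, a, a * a'] : Fin 3 → _) 1)⁻¹ = a' := by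
    change a * a' * a⁻¹ = a'
    rw [habX _ a a', mul_inv_cancel_right]
  have e02 : (![1, a, a * a'] : Fin 3 → _) 2 * ((![1, a, a * a'] : Fin 3 → _) 0)⁻¹ = a * a' := by
    simp
  rw [e01] at h01
  rw [e12] at h12
  rw [e02] at h02
  rw [h01, h12, h02, habY _ (d 1 * (d 0)⁻¹)]
  group

include habX in
theorem autMap_symm (a : VA X (overTop T)) :
    autMap h𝒴 h𝒳 hd𝒴 hd𝒳 (fisoSymm h𝒳.1 h𝒴.1 φ) G ((φ.toEquiv T).symm_apply_eq.2 hcls.symm) habX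
      (autMap h𝒳 h𝒴 hd𝒳 hd𝒴 φ G hcls habY a) = a := by
  obtain ⟨d, hd⟩ := exists_corr h𝒳 h𝒴 hd𝒳 hd𝒴 φ G hcls habY ![1, a, a]
  have h01 := autMap_edge h𝒳 h𝒴 hd𝒳 hd𝒴 φ G hcls habX habY hd 0 1
  have h10 := autMap_edge h𝒴 h𝒳 hd𝒴 hd𝒳 (fisoSymm h𝒳.1 h𝒴.1 φ) G
    ((φ.toEquiv T).symm_apply_eq.2 hcls.symm) habY habX hd.symm 0 1
  have e01 : (![1, a, a] : Fin 3 → _) 1 * ((![1, a, a] : Fin 3 → _) 0)⁻¹ = a := by simp
  rw [e01] at h01
  rw [h01]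
  exact h10.trans e01

theorem fisoSymm_fisoSymm (h : IsFibGrpd 𝒳.p) (h' : IsFibGrpd 𝒴.p) (φ : IsoNat.FIso 𝒳 𝒴) :
    fisoSymm h' h (fisoSymm h h' φ) = φ :=
  rfl

include h𝒳 h𝒴 hd𝒳 hd𝒴 hcls habX habY in
theorem nonempty_va_mulEquiv : Nonempty (VA X (overTop T) ≃* VA Y (overTop T)) := by
  obtain ⟨G⟩ := exists_theta' T
  have hcls' := (φ.toEquiv T).symm_apply_eq.2 hcls.symm
  exact ⟨{
    toFun := autMap h𝒳 h𝒴 hd𝒳 hd𝒴 φ G hcls habY
    invFun := autMap h𝒴 h𝒳 hd𝒴 hd𝒳 (fisoSymm h𝒳.1 h𝒴.1 φ) G hcls' habX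
    left_inv := autMap_symm h𝒳 h𝒴 hd𝒳 hd𝒴 φ G hcls habX habY
    right_inv := autMap_symm h𝒴 h𝒳 hd𝒴 hd𝒳 (fisoSymm h𝒳.1 h𝒴.1 φ) G hcls' habY habX
    map_mul' := autMap_mul h𝒳 h𝒴 hd𝒳 hd𝒴 φ G hcls habX habY }⟩

omit T in
include h𝒳 h𝒴 hd𝒳 hd𝒴 in
/-- An abelian automorphism group is recovered from isomorphism classes. -/
theorem nonempty_aut_mulEquiv_of_fIso {T : Over S} {η : 𝒳.p.Fiber T} {η' : 𝒴.p.Fiber T}
    (hη : φ.toEquiv T (IsoNat.cls η) = IsoNat.cls η') (hab : IsoNat.IsAutAbelian η) :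
    Nonempty (Aut η ≃* Aut η') := by
  have hab' := isAutAbelian_of_fIso h𝒳 h𝒴 hd𝒳 hd𝒴 φ hη hab
  obtain ⟨X, eX, heX⟩ := exists_overLift_fibGrpd h𝒳.1 η.1 η.2
  obtain ⟨Y, eY, heY⟩ := exists_overLift_fibGrpd h𝒴.1 η'.1 η'.2
  obtain ⟨iX⟩ := fiber_iso_of_hom h𝒳.1 (x := vfib X (overTop T)) (y := η) eX.hom heX
  obtain ⟨iY⟩ := fiber_iso_of_hom h𝒴.1 (x := vfib Y (overTop T)) (y := η') eY.hom heY
  have hcls : φ.toEquiv T (IsoNat.cls (vfib X (overTop T))) = IsoNat.cls (vfib Y (overTop T)) := by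
    rw [show IsoNat.cls (vfib X (overTop T)) = IsoNat.cls η from
      Quotient.sound (show Nonempty (vfib X (overTop T) ≅ η) from ⟨iX⟩), hη]
    exact (Quotient.sound (show Nonempty (vfib Y (overTop T) ≅ η') from ⟨iY⟩)).symm
  obtain ⟨Ψ⟩ := nonempty_va_mulEquiv h𝒳 h𝒴 hd𝒳 hd𝒴 φ hcls
    (fun b e e' => hab (Over.left b) (vfib X b) (X.map (toTop b) ≫ eX.hom) e e')
    (fun b e e' => hab' (Over.left b) (vfib Y b) (Y.map (toTop b) ≫ eY.hom) e e')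
  exact ⟨iX.conjAut.symm.trans (Ψ.trans iY.conjAut)⟩

end Groth.Agent.IsoCls
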