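import Groth.Agent.IsoCls.Clean

/-!
The groups of automorphisms over identities of the pullbacks of an object, with their restriction
maps, and glueing of morphisms along a covering family.
-/

set_option autoImplicit false
set_option backward.isDefEq.respectTransparency false
set_option backward.isDefEq.respectTransparency.types false

universe u

open CategoryTheory CategoryTheory.Limits AlgebraicGeometry FibCat
open CategoryTheory.Functor Groth.Agent.FibC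

namespace Groth.Agent.IsoCls

variable {S : Scheme.{u}} {𝒳 : AlgSt.Cat S}

/-- The sieve generated by a family. -/
def sieveFam {ι : Type*} {T : Over S} {A : ι → Over S} (f : ∀ i, A i ⟶ T) : Sieve T where
  arrows V h := ∃ (i : ι) (u : V ⟶ A i), u ≫ f i = h
  downward_closed := by
    rintro V V' h ⟨i, u, rfl⟩ k
    exact ⟨i, k ≫ u, Category.assoc _ _ _⟩

/-- Morphisms over an identity glue along a covering family. -/
theorem exists_glue_family {J : GrothendieckTopology (Over S)} (hP : Stk.IsPrestack J 𝒳)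
    {ι : Type*} {T : Over S} {A : ι → Over S} (f : ∀ i, A i ⟶ T) (hcov : sieveFam f ∈ J T)
    {x x' : 𝒳.obj} (hx : 𝒳.p.obj x = T) (hx' : 𝒳.p.obj x' = T) {z : ι → 𝒳.obj}
    (ν : ∀ i, z i ⟶ x) (hν : ∀ i, 𝒳.p.IsHomLift (f i) (ν i))
    (m : ∀ i, z i ⟶ x') (hm : ∀ i, 𝒳.p.IsHomLift (f i) (m i))
    (hagree : ∀ (i i' : ι) (w : 𝒳.obj) (θ : w ⟶ z i) (θ' : w ⟶ z i'),
      θ ≫ ν i = θ' ≫ ν i' → θ ≫ m i = θ' ≫ m i') :
    ∃ φ : x ⟶ x', 𝒳.p.IsHomLift (𝟙 T) φ ∧ ∀ i, ν i ≫ φ = m i := by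
  subst hx
  have hex : ∀ ⦃w : 𝒳.obj⦄ (μ : w ⟶ x), sieveFam f (𝒳.p.map μ) →
      ∃ r : w ⟶ x', 𝒳.p.IsHomLift (𝒳.p.map μ) r ∧
        ∀ (i : ι) (θ : w ⟶ z i), θ ≫ ν i = μ → θ ≫ m i = r := by
    rintro w μ ⟨i, u, hu⟩
    obtain ⟨θ, hθ, hθ'⟩ := exists_factor' hP.1 (f i) (ν i) (hν i) μ u _ (IsHomLift.map 𝒳.p μ) hu
    have := hm i
    exact ⟨θ ≫ m i, hu ▸ inferInstance, fun i' θ' h' => hagree i' i w θ' θ (h'.trans hθ'.symm)⟩
  choose r hr hr' using hex
  obtain ⟨φ, hφ, hφ'⟩ := GalCohAux.GerbGlue.exists_glue_hom hP hx' (sieveFam f) hcov r hr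
    (fun v w k μ hμ hkμ => by
      obtain ⟨i, u, hu⟩ := id hμ
      obtain ⟨θ, -, hθ⟩ := exists_factor' hP.1 (f i) (ν i) (hν i) μ u _ (IsHomLift.map 𝒳.p μ) hu
      rw [← hr' μ hμ i θ hθ, ← hr' _ hkμ i (k ≫ θ) (by rw [Category.assoc, hθ]), Category.assoc])
  refine ⟨φ, hφ, fun i => ?_⟩
  have hzi : 𝒳.p.obj (z i) = A i := have := hν i; IsHomLift.domain_eq 𝒳.p (f i) (ν i)
  have h : sieveFam f (𝒳.p.map (ν i)) :=
    ⟨i, eqToHom hzi, by have := hν i; rw [IsHomLift.fac' 𝒳.p (f i) (ν i)]; simp⟩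
  rw [hφ' _ h, ← hr' _ h i (𝟙 _) (Category.id_comp _), Category.id_comp]

/-- The base of a factorisation through a lift. -/
theorem base_of_factor {A T : Over S} (f : A ⟶ T) {w a x : 𝒳.obj} (φ : a ⟶ x)
    (hφ : 𝒳.p.IsHomLift f φ) (θ : w ⟶ a) :
    (𝒳.p.map θ ≫ eqToHom (IsHomLift.domain_eq 𝒳.p f φ)) ≫ f =
      𝒳.p.map (θ ≫ φ) ≫ eqToHom (IsHomLift.codomain_eq 𝒳.p f φ) := by
  rw [Functor.map_comp, IsHomLift.fac' 𝒳.p f φ]
  simp

variable {T : Over S}

/-- The value of `X` at `b`, in its fibre. -/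
abbrev vfib (X : overCat T ⥤ᵇ 𝒳) (b : (overCat T).obj) : 𝒳.p.Fiber (Over.left b) :=
  ⟨X.obj b, X.w_obj b⟩

/-- The automorphisms over the identity. -/
abbrev VA (X : overCat T ⥤ᵇ 𝒳) (b : (overCat T).obj) : Type u := Aut (vfib X b)

theorem VA.ext {X : overCat T ⥤ᵇ 𝒳} {b : (overCat T).obj} {e e' : VA X b}
    (h : e.hom.1 = e'.hom.1) : e = e' :=
  Aut.ext (Fiber.hom_ext h)

theorem VA.mul_hom {X : overCat T ⥤ᵇ 𝒳} {b : (overCat T).obj} (e e' : VA X b) :
    (e * e').hom.1 = e'.hom.1 ≫ e.hom.1 := rfl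

theorem VA.one_hom {X : overCat T ⥤ᵇ 𝒳} {b : (overCat T).obj} :
    (1 : VA X b).hom.1 = 𝟙 (X.obj b) := rfl

/-- An automorphism from a morphism over the identity. -/
theorem VA.exists_of_hom (h : IsFibGrpd 𝒳.p) (X : overCat T ⥤ᵇ 𝒳) {b : (overCat T).obj}
    (χ : X.obj b ⟶ X.obj b) (hχ : 𝒳.p.IsHomLift (𝟙 (Over.left b)) χ) :
    ∃ e : VA X b, e.hom.1 = χ := by
  have : IsIso χ := isIso_of_fibGrpd h (𝟙 (Over.left b)) χ
  exact ⟨⟨⟨χ, hχ⟩, ⟨inv χ, inferInstance⟩, Fiber.hom_ext (IsIso.hom_inv_id χ),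
    Fiber.hom_ext (IsIso.inv_hom_id χ)⟩, rfl⟩

theorem comp_va_lift {X : overCat T ⥤ᵇ 𝒳} {b c : (overCat T).obj} (u : b ⟶ c) (e : VA X c) :
    𝒳.p.IsHomLift u.left (X.map u ≫ e.hom.1) :=
  have := map_lift X u
  have : 𝒳.p.IsHomLift (𝟙 (Over.left c)) e.hom.1 := e.hom.2
  IsHomLift.comp_lift_id_right' 𝒳.p _ _ (Over.left c) _

theorem va_comp_lift {X : overCat T ⥤ᵇ 𝒳} {b : (overCat T).obj} {c : Over S} {y : 𝒳.obj}
    (u : Over.left b ⟶ c) (e : VA X b) (f : X.obj b ⟶ y) (hf : 𝒳.p.IsHomLift u f) :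
    𝒳.p.IsHomLift u (e.hom.1 ≫ f) :=
  have : 𝒳.p.IsHomLift (𝟙 (Over.left b)) e.hom.1 := e.hom.2
  IsHomLift.comp_lift_id_left' 𝒳.p (Over.left b) _ _ _

/-- Cancellation of a lift. -/
theorem VA.ext_of_comp (h : IsFibGrpd 𝒳.p) {X : overCat T ⥤ᵇ 𝒳} {b : (overCat T).obj} {c : Over S}
    {y : 𝒳.obj} (u : Over.left b ⟶ c) (f : X.obj b ⟶ y) (hf : 𝒳.p.IsHomLift u f) {e e' : VA X b}
    (he : e.hom.1 ≫ f = e'.hom.1 ≫ f) : e = e' := by
  have := sc_of_fibGrpd h u f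
  have : 𝒳.p.IsHomLift (𝟙 (Over.left b)) e.hom.1 := e.hom.2
  have : 𝒳.p.IsHomLift (𝟙 (Over.left b)) e'.hom.1 := e'.hom.2
  exact VA.ext (IsStronglyCartesian.ext 𝒳.p u f (𝟙 (Over.left b)) he)

theorem exists_va_square (h : IsFibGrpd 𝒳.p) {X : overCat T ⥤ᵇ 𝒳} {b c : (overCat T).obj}
    (u : b ⟶ c) (e : VA X c) : ∃ e' : VA X b, e'.hom.1 ≫ X.map u = X.map u ≫ e.hom.1 := by
  have := map_lift X u
  have := comp_va_lift u e
  obtain ⟨χ, hχ, -, hχ'⟩ :=
    GalCohAux.GerbBasic.exists_fac h u.left (X.map u) (X.map u ≫ e.hom.1)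
  obtain ⟨e', he'⟩ := VA.exists_of_hom h X χ hχ
  exact ⟨e', he' ▸ hχ'⟩

/-- Restriction of automorphisms. -/
noncomputable def res (h : IsFibGrpd 𝒳.p) (X : overCat T ⥤ᵇ 𝒳) {b c : (overCat T).obj}
    (u : b ⟶ c) : VA X c →* VA X b where
  toFun e := (exists_va_square h u e).choose
  map_one' := VA.ext_of_comp h u.left (X.map u) (map_lift X u) (by
    rw [(exists_va_square h u 1).choose_spec, VA.one_hom, VA.one_hom, Category.comp_id,
      Category.id_comp])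
  map_mul' e e' := VA.ext_of_comp h u.left (X.map u) (map_lift X u) (by
    rw [(exists_va_square h u (e * e')).choose_spec, VA.mul_hom, VA.mul_hom, Category.assoc,
      (exists_va_square h u e).choose_spec, ← Category.assoc, ← Category.assoc]
    exact congrArg (· ≫ e.hom.1) (exists_va_square h u e').choose_spec.symm)

theorem res_spec (h : IsFibGrpd 𝒳.p) {X : overCat T ⥤ᵇ 𝒳} {b c : (overCat T).obj} (u : b ⟶ c)
    (e : VA X c) : (res h X u e).hom.1 ≫ X.map u = X.map u ≫ e.hom.1 :=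
  (exists_va_square h u e).choose_spec

theorem res_eq (h : IsFibGrpd 𝒳.p) {X : overCat T ⥤ᵇ 𝒳} {b c : (overCat T).obj} (u : b ⟶ c)
    {e : VA X c} {e' : VA X b} (he : e'.hom.1 ≫ X.map u = X.map u ≫ e.hom.1) :
    res h X u e = e' :=
  VA.ext_of_comp h u.left (X.map u) (map_lift X u) ((res_spec h u e).trans he.symm)

theorem res_res (h : IsFibGrpd 𝒳.p) {X : overCat T ⥤ᵇ 𝒳} {b c d : (overCat T).obj} (u : b ⟶ c)
    (v : c ⟶ d) (e : VA X d) : res h X u (res h X v e) = res h X (u ≫ v) e := by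
  symm
  refine res_eq h _ ?_
  rw [Functor.map_comp, ← Category.assoc, res_spec, Category.assoc, res_spec, Category.assoc]

theorem res_id (h : IsFibGrpd 𝒳.p) {X : overCat T ⥤ᵇ 𝒳} {b : (overCat T).obj} (e : VA X b) :
    res h X (𝟙 b) e = e :=
  res_eq h _ (by rw [CategoryTheory.Functor.map_id, Category.comp_id, Category.id_comp])

theorem res_congr (h : IsFibGrpd 𝒳.p) {X : overCat T ⥤ᵇ 𝒳} {b c : (overCat T).obj} {u v : b ⟶ c}
    (huv : u = v) (e : VA X c) : res h X u e = res h X v e := huv ▸ rfl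

/-- The constant automorphism at `b`. -/
noncomputable abbrev const (h : IsFibGrpd 𝒳.p) (X : overCat T ⥤ᵇ 𝒳) (b : (overCat T).obj) :
    VA X (overTop T) →* VA X b :=
  res h X (toTop b)

theorem res_const (h : IsFibGrpd 𝒳.p) {X : overCat T ⥤ᵇ 𝒳} {b c : (overCat T).obj} (u : b ⟶ c)
    (e : VA X (overTop T)) : res h X u (const h X c e) = const h X b e := by
  rw [res_res]
  exact res_congr h (Over.OverMorphism.ext (Over.w u)) e

/-- Restriction along a scheme-theoretically dominant morphism is injective. -/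
theorem res_injective_of_dense (h : IsFibGrpd 𝒳.p)
    (hd : AlgSt.RepByAlgSpWith (AlgSp.RepWith @IsClosedImmersion) (diag (diag (toSelf 𝒳))))
    {X : overCat T ⥤ᵇ 𝒳} {b c : (overCat T).obj} (u : b ⟶ c)
    [IsSchemeTheoreticallyDominant u.left.left] : Function.Injective (res h X u) := by
  intro e e' he
  refine VA.ext (hom_eq_of_dense h hd (𝟙 (Over.left c)) _ _ e.hom.2 e'.hom.2 u.left (X.map u)
    (map_lift X u) ?_)
  rw [← res_spec h, ← res_spec h, he]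

/-- Automorphisms are determined on a covering family. -/
theorem va_ext_of_cover {J : GrothendieckTopology (Over S)} (hP : Stk.IsPrestack J 𝒳)
    {ι : Type*} {X : overCat T ⥤ᵇ 𝒳} {c : (overCat T).obj} {b : ι → (overCat T).obj}
    (w : ∀ i, b i ⟶ c) (hcov : sieveFam (fun i => (w i).left) ∈ J (Over.left c)) {e e' : VA X c}
    (he : ∀ i, res hP.1 X (w i) e = res hP.1 X (w i) e') : e = e' := by
  have : 𝒳.p.IsHomLift (𝟙 (Over.left c)) e.hom.1 := e.hom.2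
  have : 𝒳.p.IsHomLift (𝟙 (Over.left c)) e'.hom.1 := e'.hom.2
  refine VA.ext (StkLib.hom_ext_of_local hP _ hcov e.hom.1 e'.hom.1 ?_)
  rintro V f ⟨i, u, rfl⟩ z ν hν
  obtain ⟨θ, -, hθ⟩ :=
    exists_factor' hP.1 (w i).left (X.map (w i)) (map_lift X (w i)) ν u _ hν rfl
  rw [← hθ, Category.assoc, Category.assoc, ← res_spec hP.1, ← res_spec hP.1, he i]

/-- Automorphisms glue along disjoint covering families. -/
theorem exists_va_glue {J : GrothendieckTopology (Over S)} (hP : Stk.IsPrestack J 𝒳)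
    (hd : AlgSt.RepByAlgSpWith (AlgSp.RepWith @IsClosedImmersion) (diag (diag (toSelf 𝒳))))
    {ι : Type*} {X : overCat T ⥤ᵇ 𝒳} {c : (overCat T).obj} {b : ι → (overCat T).obj}
    (w : ∀ i, b i ⟶ c) (hcov : sieveFam (fun i => (w i).left) ∈ J (Over.left c))
    [∀ i, Mono (w i).left]
    (hdisj : ∀ (i i' : ι), i ≠ i' → ∀ {V : Over S} (u : V ⟶ Over.left (b i))
      (u' : V ⟶ Over.left (b i')), u ≫ (w i).left = u' ≫ (w i').left → IsEmpty V.left)
    (a : ∀ i, VA X (b i)) : ∃ σ : VA X c, ∀ i, res hP.1 X (w i) σ = a i := by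
  obtain ⟨φ, hφ, hφ'⟩ := exists_glue_family hP (fun i => (w i).left) hcov (X.w_obj c) (X.w_obj c)
    (fun i => X.map (w i)) (fun i => map_lift X (w i))
    (fun i => (a i).hom.1 ≫ X.map (w i)) (fun i => va_comp_lift _ _ _ (map_lift X (w i)))
    (fun i i' z θ θ' hθ => by
      by_cases hii : i = i'
      · subst hii
        rw [fac_unique hP.1 (w i).left (X.map (w i)) (map_lift X (w i)) θ θ' hθ]
      · have e1 := base_of_factor (w i).left (X.map (w i)) (map_lift X (w i)) θ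
        have e2 := base_of_factor (w i').left (X.map (w i')) (map_lift X (w i')) θ'
        have : IsEmpty (𝒳.p.obj z).left := hdisj i i' hii _ _ (by rw [e1, e2, hθ])
        have h1 : 𝒳.p.IsHomLift (𝒳.p.map (θ ≫ X.map (w i)) ≫ eqToHom (X.w_obj c))
            (θ ≫ (a i).hom.1 ≫ X.map (w i)) := by
          rw [← e1]
          have : 𝒳.p.IsHomLift (𝒳.p.map θ ≫ eqToHom (X.w_obj (b i))) θ :=
            IsHomLift.of_fac 𝒳.p _ θ rfl (X.w_obj (b i)) (by simp)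
          have := va_comp_lift (w i).left (a i) _ (map_lift X (w i))
          infer_instance
        have h2 : 𝒳.p.IsHomLift (𝒳.p.map (θ ≫ X.map (w i)) ≫ eqToHom (X.w_obj c))
            (θ' ≫ (a i').hom.1 ≫ X.map (w i')) := by
          rw [hθ, ← e2]
          have : 𝒳.p.IsHomLift (𝒳.p.map θ' ≫ eqToHom (X.w_obj (b i'))) θ' :=
            IsHomLift.of_fac 𝒳.p _ θ' rfl (X.w_obj (b i')) (by simp)
          have := va_comp_lift (w i').left (a i') _ (map_lift X (w i'))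
          infer_instance
        exact hom_eq_of_isEmpty hP.1 hd _ _ _ h1 h2)
  obtain ⟨σ, hσ⟩ := VA.exists_of_hom hP.1 X φ hφ
  exact ⟨σ, fun i => res_eq _ _ (by rw [hσ, hφ' i])⟩

end Groth.Agent.IsoCls
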