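import Groth.Agent.IsoCls.CleanLocus
import Groth.Agent.IsoCls.VAut

/-!
Sections of the automorphism space of a chart are the vertical automorphisms, compatibly with
restriction.
-/

set_option autoImplicit false
set_option linter.unusedVariables false
set_option backward.isDefEq.respectTransparency false
set_option backward.isDefEq.respectTransparency.types false

universe u

open CategoryTheory CategoryTheory.Limits AlgebraicGeometry Opposite FibCat

namespace Groth.Agent.IsoCls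

open Groth.Agent.StFib

variable {S : Scheme.{u}} {𝒳 : AlgSt.Cat S}

/-- Sections of a space over `U` on an object of `C/U`. -/
abbrev Sec {U : Over S} {A : AlgSp.Sp S} (a : A ⟶ (AlgSp.yon S).obj U) (w : (overCat U).obj) :
    Type (u + 1) :=
  {r : (AlgSp.yon S).obj (Over.left w) ⟶ A // r ≫ a = (AlgSp.yon S).map (Over.hom w)}

/-- The dictionary for a given presentation of the automorphism space of a chart. -/
theorem autDict_of_chart (h𝒳 : IsFibGrpd 𝒳.p) {U : Over S} (y : overCat U ⥤ᵇ 𝒳) (A : AlgSp.Space S)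
    (e : AlgSt.ofSp A.obj ⥤ᵇ fp y (inertiaToBase (toSelf 𝒳))) (he : IsEquivOver e) :
    ∃ au : ∀ w : (overCat U).obj,
        Sec (AlgSt.spMapOfOver (BasedFunctor.comp e (fpFst y (inertiaToBase (toSelf 𝒳))))) w → VA y w,
      (∀ w, Function.Bijective (au w)) ∧
        ∀ {w' w : (overCat U).obj} (κ : w' ⟶ w)
          (r : Sec (AlgSt.spMapOfOver (BasedFunctor.comp e (fpFst y (inertiaToBase (toSelf 𝒳))))) w)
          (r' : Sec (AlgSt.spMapOfOver (BasedFunctor.comp e (fpFst y (inertiaToBase (toSelf 𝒳))))) w'),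
          r'.1 = (AlgSp.yon S).map κ.left ≫ r.1 → au w' r' = res h𝒳 y κ (au w r) := by
  let ι₀ := inertiaToBase (toSelf 𝒳)
  let Φ := BasedFunctor.comp e (fpFst y ι₀)
  let a := AlgSt.spMapOfOver Φ
  have := full_of_isEquivOver he
  let sec : {X : Over S} → ((AlgSp.yon S).obj X ⟶ A.obj) → A.obj.obj.obj (op X) :=
    fun {X} r => r.hom.app (op X) ⟨𝟙 X⟩
  have hsec : ∀ {X : Over S} (r : (AlgSp.yon S).obj X ⟶ A.obj) (f : X ⟶ U),
      r ≫ a = (AlgSp.yon S).map f → AlgSt.secHom Φ ⟨X, sec r⟩ = f := fun {X} r f hr => by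
    have := congrArg (fun m => ULift.down (m.hom.app (op X) ⟨𝟙 X⟩)) hr
    exact this.trans (Category.id_comp f :)
  -- the image of a section over `f` lies over `f`
  have hw : ∀ {X : Over S} (r : (AlgSp.yon S).obj X ⟶ A.obj) (f : X ⟶ U),
      r ≫ a = (AlgSp.yon S).map f →
      ∃ w : (e.obj ⟨X, sec r⟩).obj.fst ≅ Over.mk f, Vert w.hom := fun {X} r f hr => by
    refine ⟨Over.isoMk (eqToIso (Φ.w_obj ⟨X, sec r⟩)) ?_, ⟨Φ.w_obj ⟨X, sec r⟩, rfl⟩⟩
    change eqToHom (Φ.w_obj ⟨X, sec r⟩) ≫ f = _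
    rw [← hsec r f hr, AlgSt.secHom, eqToHom_trans_assoc]
    exact Category.id_comp _
  -- every object over `f` is the image of a section over `f`
  have hex : ∀ {X : Over S} (f : X ⟶ U) (z : (fp y ι₀).obj), z.obj.fst = Over.mk f →
      ∃ (r : (AlgSp.yon S).obj X ⟶ A.obj) (m : e.obj ⟨X, sec r⟩ ≅ z),
        Vert m.hom ∧ r ≫ a = (AlgSp.yon S).map f := by
    intro X f z hz
    obtain ⟨⟨X', s⟩, m, hm⟩ := exists_vert_iso_of_isEquivOver he z
    have hX : X' = X := by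
      have h1 : (fp y ι₀).p.obj (e.obj ⟨X', s⟩) = X' := e.w_obj _
      have h2 : (fp y ι₀).p.obj z = X := congrArg (fun o : (overCat U).obj => o.left) hz
      exact h1.symm.trans (hm.base_eq.trans h2)
    subst hX
    obtain ⟨r, rfl⟩ : ∃ r, sec r = s :=
      ⟨(GrothendieckTopology.uliftYonedaEquiv.{u + 1} (AlgSp.J S)).symm s, (GrothendieckTopology.uliftYonedaEquiv.{u + 1} (AlgSp.J S)).apply_symm_apply s⟩
    refine ⟨r, m, hm, ?_⟩
    obtain ⟨f', hf'⟩ := (AlgSp.yon S).map_surjective (r ≫ a)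
    have h3 := hsec r f' hf'.symm
    rw [← hf']
    congr 1
    rw [← h3]
    have hv : Vert m.hom.hom.fst := vert_fp_iff.1 hm
    obtain ⟨hb, hb'⟩ := hv
    have h4 : m.hom.hom.fst.left ≫ z.obj.fst.hom = (e.obj ⟨X', sec r⟩).obj.fst.hom :=
      Over.w m.hom.hom.fst
    change m.hom.hom.fst.left = eqToHom hb at hb'
    change eqToHom _ ≫ (e.obj ⟨X', sec r⟩).obj.fst.hom = f
    rw [← h4, hb']
    have h5 : z.obj.fst.hom = eqToHom (congrArg (fun o : (overCat U).obj => o.left) hz) ≫ f := by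
      generalize z.obj.fst = o at hz ⊢
      subst hz
      simp
    rw [h5]
    simp
  choose W hW using fun (w : (overCat U).obj) (r : Sec a w) => hw r.1 (Over.hom w) r.2
  let zo : ∀ w, Sec a w → (fp y ι₀).obj := fun w r => e.obj ⟨Over.left w, sec r.1⟩
  let c : ∀ w (r : Sec a w), y.obj w ≅ (zo w r).obj.snd.pt := fun w r =>
    (y.toFunctor.mapIso (W w r)).symm ≪≫ (zo w r).obj.iso
  have hχ : ∀ w (r : Sec a w), 𝒳.p.IsHomLift (𝟙 (Over.left w))
      ((c w r).hom ≫ (zo w r).obj.snd.aut.hom ≫ (c w r).inv) := fun w r => by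
    have hc : Vert (c w r).hom := ((hW w r).map y).inv.comp (vert_fp_iso (zo w r))
    obtain ⟨h0, h0'⟩ := hc.comp ((inertia_vert_aut (zo w r).obj.snd).comp hc.inv)
    exact IsHomLift.of_fac 𝒳.p _ _ (y.w_obj w) (y.w_obj w) (by rw [h0']; simp)
  choose au hau using fun w r => VA.exists_of_hom h𝒳 y _ (hχ w r)
  refine ⟨au, fun w => ⟨?_, ?_⟩, ?_⟩
  · intro r₁ r₂ h12
    let v : (zo w r₁).obj.fst ≅ (zo w r₂).obj.fst := W w r₁ ≪≫ (W w r₂).symm
    let u : (zo w r₁).obj.snd.pt ⟶ (zo w r₂).obj.snd.pt := (c w r₁).inv ≫ (c w r₂).hom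
    have hu : (zo w r₁).obj.snd.aut.hom ≫ u = u ≫ (zo w r₂).obj.snd.aut.hom := by
      have h := congrArg (fun e => e.hom.1) h12
      simp only [hau] at h
      rw [← cancel_epi (c w r₁).hom, ← cancel_mono (c w r₂).inv]
      simpa [u] using h
    let Z : zo w r₁ ⟶ zo w r₂ :=
      fpHom v.hom (⟨u, hu⟩ : InertiaObj.Hom (zo w r₁).obj.snd (zo w r₂).obj.snd) (by
        change y.map v.hom ≫ (zo w r₂).obj.iso.hom = (zo w r₁).obj.iso.hom ≫ u
        simp [u, c, v])
    have hZ : Vert Z := vert_fp_iff.2 ((hW w r₁).comp (hW w r₂).inv)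
    obtain ⟨q, hq⟩ := e.toFunctor.map_surjective Z
    have hqv : Vert (𝒳 := AlgSt.ofSp A.obj) q := Vert.of_map e (hq.symm ▸ hZ)
    exact Subtype.ext
      ((GrothendieckTopology.uliftYonedaEquiv.{u + 1} (AlgSp.J S)).injective (ofPsh_eq_of_vert hqv))
  · intro φ
    let z₁ : (fp y ι₀).obj := fpMk (F := y) (G := ι₀) w
      (⟨y.obj w, (Functor.Fiber.fiberInclusion (p := 𝒳.p)).mapIso φ, by
        have := φ.hom.2
        obtain ⟨h0, h0'⟩ : Vert φ.hom.1 := vert_of_isHomLift (R := Over.left w) φ.hom.2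
        exact (by simpa using h0' : 𝒳.p.map φ.hom.1 = 𝟙 _)⟩ : InertiaObj (toSelf 𝒳))
      (Iso.refl _) (Vert.id _)
    obtain ⟨r, m, hm, hr⟩ := hex (Over.hom w) z₁ rfl
    refine ⟨⟨r, hr⟩, VA.ext ((hau w ⟨r, hr⟩).trans ?_)⟩
    have hmf : m.hom.hom.fst = (W w ⟨r, hr⟩).hom := by
      obtain ⟨_, h1⟩ := vert_fp_iff.1 hm
      obtain ⟨_, h2⟩ := hW w ⟨r, hr⟩
      exact Over.OverMorphism.ext (h1.trans h2.symm)
    have hw' : y.map m.hom.hom.fst ≫ 𝟙 _ = (zo w ⟨r, hr⟩).obj.iso.hom ≫ m.hom.hom.snd.hom :=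
      m.hom.hom.w
    have hcs : (c w ⟨r, hr⟩).hom ≫ m.hom.hom.snd.hom = 𝟙 _ := by
      change ((y.map (W w ⟨r, hr⟩).inv) ≫ (zo w ⟨r, hr⟩).obj.iso.hom) ≫ _ = _
      rw [Category.assoc, ← hw', hmf, Category.comp_id, ← Functor.map_comp, Iso.inv_hom_id]
      exact y.toFunctor.map_id w
    have hci : m.hom.hom.snd.hom = (c w ⟨r, hr⟩).inv :=
      ((Iso.inv_comp_eq _).2 hcs.symm).symm.trans (Category.comp_id _)
    have hcm : (zo w ⟨r, hr⟩).obj.snd.aut.hom ≫ m.hom.hom.snd.hom =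
        m.hom.hom.snd.hom ≫ φ.hom.1 := m.hom.hom.snd.comm
    rw [hci] at hcm
    rw [hcm, Iso.hom_inv_id_assoc]
  · intro w' w κ r r' hr
    have hq : A.obj.obj.map κ.left.op (sec r.1) = sec r'.1 := by
      rw [hr]
      exact GrothendieckTopology.uliftYonedaEquiv_naturality.{u + 1} (AlgSp.J S) r.1 κ.left
    let q : (⟨Over.left w', sec r'.1⟩ : (AlgSt.ofSp A.obj).obj) ⟶ ⟨Over.left w, sec r.1⟩ :=
      ⟨κ.left, hq⟩
    let Z : zo w' r' ⟶ zo w r := e.map q
    have hleft : Z.hom.fst.left = eqToHom (e.w_obj _) ≫ κ.left ≫ eqToHom (e.w_obj _).symm :=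
      w_map e q
    have hfst : (W w' r').inv ≫ Z.hom.fst ≫ (W w r).hom = κ := by
      obtain ⟨_, h1⟩ := (hW w' r').inv
      obtain ⟨_, h2⟩ := hW w r
      change (W w' r').inv.left = _ at h1
      change (W w r).hom.left = _ at h2
      refine Over.OverMorphism.ext ?_
      rw [Over.comp_left, Over.comp_left, hleft, h1, h2]
      simp
    have hsq : y.map Z.hom.fst ≫ (zo w r).obj.iso.hom =
        (zo w' r').obj.iso.hom ≫ Z.hom.snd.hom := Z.hom.w
    have hkey : (c w' r').hom ≫ Z.hom.snd.hom = y.map κ ≫ (c w r).hom := by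
      change (y.map (W w' r').inv ≫ (zo w' r').obj.iso.hom) ≫ _ =
        y.map κ ≫ y.map (W w r).inv ≫ (zo w r).obj.iso.hom
      rw [Category.assoc, ← hsq, ← Category.assoc, ← Category.assoc, ← Functor.map_comp,
        ← Functor.map_comp, ← hfst]
      simp only [Category.assoc, Iso.hom_inv_id, Category.comp_id]
    have hcm : (zo w' r').obj.snd.aut.hom ≫ Z.hom.snd.hom =
        Z.hom.snd.hom ≫ (zo w r).obj.snd.aut.hom := Z.hom.snd.comm
    refine (res_eq h𝒳 κ ?_).symm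
    rw [hau, hau]
    have hkey' : (c w' r').inv ≫ y.map κ = Z.hom.snd.hom ≫ (c w r).inv := by
      rw [Iso.inv_comp_eq, ← Category.assoc, hkey, Category.assoc, Iso.hom_inv_id,
        Category.comp_id]
    simp only [Category.assoc]
    rw [hkey', reassoc_of% hcm, ← Category.assoc, hkey, Category.assoc]

/-- The automorphism space of a chart, with the dictionary. -/
theorem exists_autDict {P Q : MorphismProperty (AlgSp.Sp S)} (hQ : Good Q) (h𝒳 : IsFibGrpd 𝒳.p)
    (hP : AlgSt.RepByAlgSpWith P (inertiaToBase (toSelf 𝒳)))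
    (hQr : AlgSt.RepByAlgSpWith Q (inertiaToBase (toSelf 𝒳)))
    {U : Over S} (y : overCat U ⥤ᵇ 𝒳) :
    ∃ (A : AlgSp.Space S) (a : A.obj ⟶ (AlgSp.yon S).obj U), P a ∧ Q a ∧
      ∃ au : ∀ w : (overCat U).obj, Sec a w → VA y w,
        (∀ w, Function.Bijective (au w)) ∧
        ∀ {w' w : (overCat U).obj} (κ : w' ⟶ w) (r : Sec a w) (r' : Sec a w'),
          r'.1 = (AlgSp.yon S).map κ.left ≫ r.1 → au w' r' = res h𝒳 y κ (au w r) := by
  obtain ⟨A, e, he, hPa⟩ := hP U y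
  exact ⟨A, _, hPa, mem_of_rep_chart hQ.bc hQ.det hQr y A e he, autDict_of_chart h𝒳 y A e he⟩

end Groth.Agent.IsoCls
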