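import Groth.Agent.StFib.DiagRep2
import Groth.Agent.StFib.AtlasProps
import Groth.Agent.StkLib.Glue
import Groth.Agent.GalCohAux.GerbBasic
import Mathlib.AlgebraicGeometry.Morphisms.SchemeTheoreticallyDominant

/-!
In a category fibred in groupoids with separated diagonal, the locus where an automorphism over an
identity is trivial is closed.
-/

set_option autoImplicit false
set_option backward.isDefEq.respectTransparency false
set_option backward.isDefEq.respectTransparency.types false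

universe u

open CategoryTheory CategoryTheory.Limits AlgebraicGeometry Opposite FibCat
open CategoryTheory.Functor Groth.Agent.FibC

namespace Groth.Agent.IsoCls

variable {S : Scheme.{u}} {𝒳 : AlgSt.Cat S}

/-- The second diagonal of a stack with separated diagonal is a closed immersion. -/
theorem diag_diag_isClosedImm
    (h : AlgSt.RepByAlgSpWith AlgSp.IsSeparatedMor (diag (toSelf 𝒳))) :
    AlgSt.RepByAlgSpWith (AlgSp.RepWith @IsClosedImmersion) (diag (diag (toSelf 𝒳))) :=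
  StFib.diag_of_rep_mem (Q := AlgSp.IsSeparatedMor) (StFib.good_repWith _).bc
    (fun _ _ _ _ ha => ha) h

/-- A vertical endomorphism, with the closed subscheme where it is trivial. -/
theorem exists_locus (h𝒳 : IsFibGrpd 𝒳.p)
    (hd : AlgSt.RepByAlgSpWith (AlgSp.RepWith @IsClosedImmersion) (diag (diag (toSelf 𝒳))))
    {W : Over S} {x : 𝒳.obj} (s : x ⟶ x) (hs : 𝒳.p.IsHomLift (𝟙 W) s) :
    ∃ (V : Over S) (g : V ⟶ W), IsClosedImmersion g.left ∧ (IsIso g → s = 𝟙 x) ∧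
      ∀ {c : Over S} (j : c ⟶ W) {z : 𝒳.obj} (ν : z ⟶ x), 𝒳.p.IsHomLift j ν → ν ≫ s = ν →
        ∃ k : c ⟶ V, k ≫ g = j := by
  have hx : 𝒳.p.obj x = W := IsHomLift.domain_eq 𝒳.p (𝟙 W) s
  obtain ⟨X, e, he⟩ := exists_overLift_fibGrpd h𝒳 x hx
  have hXsc := preserves_overCat h𝒳 X
  have : IsIso s := isIso_of_fibGrpd h𝒳 (𝟙 W) s
  have hθ : 𝒳.p.IsHomLift (𝟙 W) (e ≪≫ asIso s ≪≫ e.symm).hom := by
    change 𝒳.p.IsHomLift (𝟙 W) (e.hom ≫ s ≫ e.inv)
    infer_instance
  obtain ⟨α, hα⟩ := yoneda_iso hXsc hXsc (e ≪≫ asIso s ≪≫ e.symm) hθ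
  -- the test morphism
  let comp : ∀ a : (overCat W).obj,
      (diag (toSelf 𝒳)).obj (X.obj a) ≅ (diag (toSelf 𝒳)).obj (X.obj a) := fun a =>
    StFib.fpIsoMk (Iso.refl _) (StFib.isoApp α a) (by
      obtain ⟨h1, h2⟩ := StFib.vert_isoApp α a
      change 𝒳.p.map (𝟙 (X.obj a)) ≫ 𝟙 _ = 𝟙 _ ≫ 𝒳.p.map (StFib.isoApp α a).hom
      simpa using h2.symm)
  let i : BasedFunctor.comp X (diag (toSelf 𝒳)) ≅ BasedFunctor.comp X (diag (toSelf 𝒳)) :=
    StFib.isoMk comp (fun a => StFib.Vert.id (X.obj a))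
      (fun {a b} φ => StFib.fp_hom_ext
        ((Category.comp_id (X.map φ)).trans (Category.id_comp (X.map φ)).symm)
        (StFib.isoApp_naturality α φ))
  let y : overCat W ⥤ᵇ fp (diag (toSelf 𝒳)) (diag (toSelf 𝒳)) := fpLift X X i
  obtain ⟨F, E, hE, hP⟩ := hd W y
  obtain ⟨V, g, ι, hι, hg⟩ := StFib.exists_iso_yon_of_repWith @IsClosedImmersion hP
  refine ⟨V, g, hg, fun hgi => ?_, ?_⟩
  · let a₀ : (AlgSt.ofSp F.obj).obj := ⟨V, ι.hom.hom.app (op V) ⟨𝟙 V⟩⟩
    let z := E.obj a₀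
    have hsec : AlgSt.secHom (BasedFunctor.comp E (fpFst y (diag (diag (toSelf 𝒳))))) a₀ = g := by
      have := congrArg ULift.down
        (congrArg (fun m => m.hom.app (op V) ⟨𝟙 V⟩) hι)
      exact this.trans (Category.id_comp g)
    have hiso : IsIso z.obj.fst.hom := by
      have h1 : IsIso (eqToHom ((BasedFunctor.comp E
          (fpFst y (diag (diag (toSelf 𝒳))))).w_obj a₀).symm ≫ z.obj.fst.hom) := by
        have : z.obj.fst = (BasedFunctor.comp E (fpFst y (diag (diag (toSelf 𝒳))))).obj a₀ := rfl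
        exact (show IsIso (AlgSt.secHom _ a₀) from hsec.symm ▸ hgi)
      exact IsIso.of_isIso_comp_left
        (eqToHom ((BasedFunctor.comp E (fpFst y (diag (diag (toSelf 𝒳))))).w_obj a₀).symm) _
    -- the two components agree
    let f := z.obj.iso.hom
    let f₁ : X.obj z.obj.fst ⟶ z.obj.snd := f.hom.fst
    let f₂ : X.obj z.obj.fst ⟶ z.obj.snd := f.hom.snd
    have hw := f.hom.w
    have hw1 : f₁ ≫ 𝟙 z.obj.snd = 𝟙 (X.obj z.obj.fst) ≫ f₂ :=
      congrArg (fun m => m.hom.fst) hw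
    have hw2 : f₁ ≫ 𝟙 z.obj.snd = (StFib.isoApp α z.obj.fst).hom ≫ f₂ :=
      congrArg (fun m => m.hom.snd) hw
    have : IsIso f₂ := ⟨z.obj.iso.inv.hom.snd,
      congrArg (fun m => m.hom.snd) z.obj.iso.hom_inv_id,
      congrArg (fun m => m.hom.snd) z.obj.iso.inv_hom_id⟩
    have hone : α.hom.toNatTrans.app z.obj.fst = 𝟙 (X.obj z.obj.fst) :=
      (cancel_mono f₂).1 (hw2.symm.trans hw1)
    let m : overTop W ⟶ z.obj.fst := Over.homMk (inv z.obj.fst.hom) (IsIso.inv_hom_id _)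
    have hnat : X.map m ≫ α.hom.toNatTrans.app z.obj.fst =
        α.hom.toNatTrans.app (overTop W) ≫ X.map m := α.hom.toNatTrans.naturality m
    have : 𝒳.p.IsHomLift (𝟙 W) (α.hom.toNatTrans.app (overTop W)) :=
      BasedNatTrans.app_isHomLift α.hom (overTop W)
    have : IsIso m := by
      exact ⟨Over.homMk z.obj.fst.hom (Category.comp_id _),
        Over.OverMorphism.ext (show inv z.obj.fst.hom ≫ z.obj.fst.hom = 𝟙 W from IsIso.inv_hom_id _),
        Over.OverMorphism.ext (show z.obj.fst.hom ≫ inv z.obj.fst.hom = 𝟙 z.obj.fst.left from IsIso.hom_inv_id _)⟩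
    rw [hone, Category.comp_id] at hnat
    have h2 : α.hom.toNatTrans.app (overTop W) = 𝟙 _ :=
      (cancel_mono (X.map m)).1 (hnat.symm.trans (Category.id_comp _).symm)
    rw [hα] at h2
    change e.hom ≫ s ≫ e.inv = 𝟙 _ at h2
    rw [← cancel_epi e.hom, ← cancel_mono e.inv, Category.assoc, h2]
    simp
  · intro c j z ν hν hνs
    let a : (overCat W).obj := Over.mk j
    have hX : 𝒳.p.IsHomLift j (X.map (toTop a)) := map_lift X (toTop a)
    have : 𝒳.p.IsHomLift j (X.map (toTop a) ≫ e.hom) :=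
      IsHomLift.comp_lift_id_right' 𝒳.p _ _ W _
    obtain ⟨θ, -, -, hθ'⟩ := GalCohAux.GerbBasic.exists_fac h𝒳 j ν (X.map (toTop a) ≫ e.hom)
    have hfix : (X.map (toTop a) ≫ e.hom) ≫ s = X.map (toTop a) ≫ e.hom := by
      rw [← hθ', Category.assoc, hνs]
    have hone : α.hom.toNatTrans.app a = 𝟙 (X.obj a) := by
      have h1 : α.hom.toNatTrans.app a ≫ X.map (toTop a) =
          X.map (toTop a) ≫ α.hom.toNatTrans.app (overTop W) :=
        (α.hom.toNatTrans.naturality (toTop a)).symm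
      have h2 : α.hom.toNatTrans.app a ≫ X.map (toTop a) = 𝟙 _ ≫ X.map (toTop a) := by
        rw [h1, hα]
        change X.map (toTop a) ≫ e.hom ≫ s ≫ e.inv = _
        rw [← Category.assoc, ← Category.assoc, hfix]
        simp
      have := map_sc hXsc (toTop a)
      have : 𝒳.p.IsHomLift (𝟙 (Over.left a)) (α.hom.toNatTrans.app a) :=
        BasedNatTrans.app_isHomLift α.hom a
      have : 𝒳.p.IsHomLift (𝟙 (Over.left a)) (𝟙 (X.obj a)) :=
        IsHomLift.id (X.w_obj a)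
      exact IsStronglyCartesian.ext 𝒳.p (toTop a).left (X.map (toTop a)) (𝟙 (Over.left a)) h2
    let w : (fp y (diag (diag (toSelf 𝒳)))).obj :=
      StFib.fpMk a (X.obj a)
        (StFib.fpIsoMk (Iso.refl (X.obj a)) (Iso.refl (X.obj a))
          (StFib.fp_hom_ext
            (show 𝟙 (X.obj a) ≫ 𝟙 (X.obj a) = 𝟙 (X.obj a) ≫ 𝟙 (X.obj a) from rfl)
            (show 𝟙 (X.obj a) ≫ 𝟙 (X.obj a) = α.hom.toNatTrans.app a ≫ 𝟙 (X.obj a) by rw [hone])))
        (StFib.Vert.id (X.obj a))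
    obtain ⟨D, -, -, ⟨ε⟩⟩ := StFib.isEquivOver_symm hE
    let a₁ : (AlgSt.ofSp F.obj).obj := D.obj w
    let k₀ : a₁.base ⟶ V := (ι.inv.hom.app (op a₁.base) a₁.sec).down
    have hk₀ : k₀ ≫ g = AlgSt.secHom (BasedFunctor.comp E (fpFst y (diag (diag (toSelf 𝒳))))) a₁ := by
      have h1 := congrArg (fun m => m.hom.app (op a₁.base) a₁.sec) (ι.inv_hom_id_assoc
        (AlgSt.spMapOfOver (BasedFunctor.comp E (fpFst y (diag (diag (toSelf 𝒳)))))))
      rw [hι] at h1
      exact congrArg ULift.down h1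
    let r : (E.obj a₁).obj.fst ⟶ a := (StFib.isoApp ε w).hom.hom.fst
    have hr : StFib.Vert r := StFib.vert_fp_iff.1 (StFib.vert_isoApp ε w)
    have hr' : (E.obj a₁).obj.fst.hom = r.left ≫ j := (Over.w r).symm
    obtain ⟨hrb, hrl⟩ := hr
    change r.left = eqToHom hrb at hrl
    let heq : (E.obj a₁).obj.fst.left = a₁.base :=
      (BasedFunctor.comp E (fpFst y (diag (diag (toSelf 𝒳))))).w_obj a₁
    refine ⟨eqToHom hrb.symm ≫ eqToHom heq ≫ k₀, ?_⟩
    rw [Category.assoc, Category.assoc, hk₀]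
    change eqToHom hrb.symm ≫ eqToHom heq ≫ eqToHom heq.symm ≫ (E.obj a₁).obj.fst.hom = j
    rw [hr', hrl]
    simp

/-- A vertical endomorphism which is trivial on a scheme-theoretically dense part is trivial. -/
theorem endo_eq_id_of_dense (h𝒳 : IsFibGrpd 𝒳.p)
    (hd : AlgSt.RepByAlgSpWith (AlgSp.RepWith @IsClosedImmersion) (diag (diag (toSelf 𝒳))))
    {W c : Over S} {x z : 𝒳.obj} (s : x ⟶ x) (hs : 𝒳.p.IsHomLift (𝟙 W) s) (j : c ⟶ W)
    [IsSchemeTheoreticallyDominant j.left] (ν : z ⟶ x) (hν : 𝒳.p.IsHomLift j ν)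
    (h : ν ≫ s = ν) : s = 𝟙 x := by
  obtain ⟨V, g, hg, h1, h2⟩ := exists_locus h𝒳 hd s hs
  obtain ⟨k, hk⟩ := h2 j ν hν h
  refine h1 ?_
  have : IsClosedImmersion g.left := hg
  have hb : g.left.ker = ⊥ := le_bot_iff.1 (by
    refine (Scheme.Hom.le_ker_comp k.left g.left).trans ?_
    rw [← Over.comp_left, hk]
    exact (IsSchemeTheoreticallyDominant.ker_eq_bot j.left).le)
  have : IsIso g.left := IsClosedImmersion.isIso_iff_ker_eq_bot.2 hb
  have : IsIso ((Over.forget S).map g) := this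
  exact isIso_of_reflects_iso g (Over.forget S)

/-- Objects over the empty scheme have no nontrivial vertical endomorphisms. -/
theorem endo_eq_id_of_isEmpty (h𝒳 : IsFibGrpd 𝒳.p)
    (hd : AlgSt.RepByAlgSpWith (AlgSp.RepWith @IsClosedImmersion) (diag (diag (toSelf 𝒳))))
    {W : Over S} [IsEmpty W.left] {x : 𝒳.obj} (s : x ⟶ x) (hs : 𝒳.p.IsHomLift (𝟙 W) s) :
    s = 𝟙 x := by
  obtain ⟨V, g, hg, h1, -⟩ := exists_locus h𝒳 hd s hs
  refine h1 ?_
  have : IsEmpty V.left := Function.isEmpty g.left.base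
  have : IsIso ((Over.forget S).map g) := isIso_of_isEmpty g.left
  exact isIso_of_reflects_iso g (Over.forget S)

/-- Two morphisms over one morphism of the base which agree on a scheme-theoretically dense part
are equal. -/
theorem hom_eq_of_dense (h𝒳 : IsFibGrpd 𝒳.p)
    (hd : AlgSt.RepByAlgSpWith (AlgSp.RepWith @IsClosedImmersion) (diag (diag (toSelf 𝒳))))
    {R T c : Over S} {x y z : 𝒳.obj} (g : R ⟶ T) (f f' : x ⟶ y) (hf : 𝒳.p.IsHomLift g f)
    (hf' : 𝒳.p.IsHomLift g f') (j : c ⟶ R)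
    [IsSchemeTheoreticallyDominant j.left] (ν : z ⟶ x) (hν : 𝒳.p.IsHomLift j ν)
    (h : ν ≫ f = ν ≫ f') : f = f' := by
  obtain ⟨χ, hχ, -, hχ'⟩ := GalCohAux.GerbBasic.exists_fac h𝒳 g f' f
  have := sc_of_fibGrpd h𝒳 g f'
  have h1 : ν ≫ χ = ν := by
    apply IsStronglyCartesian.ext 𝒳.p g f' j
    rw [Category.assoc, hχ', h]
  rw [← hχ', endo_eq_id_of_dense h𝒳 hd χ hχ j ν hν h1, Category.id_comp]

/-- Two morphisms over one morphism of the base out of an object over the empty scheme are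
equal. -/
theorem hom_eq_of_isEmpty (h𝒳 : IsFibGrpd 𝒳.p)
    (hd : AlgSt.RepByAlgSpWith (AlgSp.RepWith @IsClosedImmersion) (diag (diag (toSelf 𝒳))))
    {R T : Over S} [IsEmpty R.left] {x y : 𝒳.obj} (g : R ⟶ T) (f f' : x ⟶ y)
    (hf : 𝒳.p.IsHomLift g f) (hf' : 𝒳.p.IsHomLift g f') : f = f' := by
  obtain ⟨χ, hχ, -, hχ'⟩ := GalCohAux.GerbBasic.exists_fac h𝒳 g f' f
  rw [← hχ', endo_eq_id_of_isEmpty h𝒳 hd χ hχ, Category.id_comp]

end Groth.Agent.IsoCls
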