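import Groth.Agent.IsoCls.VAut
import Groth.Agent.GalCohAux.GerbGlue

/-!
Neutral gerbes with isomorphic automorphism sheaves of their sections are equivalent.
-/

set_option autoImplicit false
set_option backward.isDefEq.respectTransparency false
set_option backward.isDefEq.respectTransparency.types false

universe u

open CategoryTheory CategoryTheory.Limits AlgebraicGeometry FibCat
open CategoryTheory.Functor Groth.Agent.FibC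

namespace Groth.Agent.IsoCls

variable {S : Scheme.{u}} {𝒳 𝒴 : AlgSt.Cat S} {T₀ : Over S}

section basics

/-- A scheme as an object over the final scheme. -/
abbrev bT (hT₀ : IsTerminal T₀) (V : Over S) : (overCat T₀).obj := Over.mk (hT₀.from V)

/-- A morphism of schemes as a morphism over the final scheme. -/
abbrev bM (hT₀ : IsTerminal T₀) {V' V : Over S} (g : V' ⟶ V) : bT hT₀ V' ⟶ bT hT₀ V :=
  Over.homMk g (hT₀.hom_ext _ _)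

variable (hT₀ : IsTerminal T₀) (X : overCat T₀ ⥤ᵇ 𝒳)

/-- The arrows to the base of `x` along which `x` receives the section. -/
def trivSieve (x : 𝒳.obj) : Sieve (𝒳.p.obj x) where
  arrows V f := ∃ ν : X.obj (bT hT₀ V) ⟶ x, 𝒳.p.IsHomLift f ν
  downward_closed := by
    rintro V V' f ⟨ν, hν⟩ g
    have := map_lift X (bM hT₀ g)
    exact ⟨X.map (bM hT₀ g) ≫ ν, (inferInstance : 𝒳.p.IsHomLift ((bM hT₀ g).left ≫ f) _)⟩

variable {hT₀ X}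

/-- The base of a morphism out of a value of the section. -/
abbrev baseMor {x : 𝒳.obj} {V : Over S} (ν : X.obj (bT hT₀ V) ⟶ x) : V ⟶ 𝒳.p.obj x :=
  eqToHom (X.w_obj (bT hT₀ V)).symm ≫ 𝒳.p.map ν

theorem baseMor_lift {x : 𝒳.obj} {V : Over S} (ν : X.obj (bT hT₀ V) ⟶ x) :
    𝒳.p.IsHomLift (baseMor ν) ν :=
  IsHomLift.of_fac 𝒳.p _ ν (X.w_obj _) rfl (by simp [baseMor])

theorem baseMor_eq {x : 𝒳.obj} {V : Over S} {f : V ⟶ 𝒳.p.obj x} {ν : X.obj (bT hT₀ V) ⟶ x}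
    (hν : 𝒳.p.IsHomLift f ν) : baseMor ν = f :=
  have := baseMor_lift ν
  map_eq_of_isHomLift (p := 𝒳.p) (baseMor ν) f ν

theorem baseMor_map {x : 𝒳.obj} {V' V : Over S} (g : V' ⟶ V) (ν : X.obj (bT hT₀ V) ⟶ x) :
    baseMor (X.map (bM hT₀ g) ≫ ν) = g ≫ baseMor ν := by
  have := map_lift X (bM hT₀ g)
  have := baseMor_lift ν
  exact baseMor_eq (f := g ≫ baseMor ν)
    (inferInstance : 𝒳.p.IsHomLift ((bM hT₀ g).left ≫ baseMor ν) _)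

theorem baseMor_va {x : 𝒳.obj} {V : Over S} (e : VA X (bT hT₀ V)) (ν : X.obj (bT hT₀ V) ⟶ x) :
    baseMor (e.hom.1 ≫ ν) = baseMor ν :=
  baseMor_eq (va_comp_lift _ e ν (baseMor_lift ν))

theorem baseMor_comp {x x' : 𝒳.obj} {V : Over S} (ν : X.obj (bT hT₀ V) ⟶ x) (χ : x ⟶ x') :
    baseMor (ν ≫ χ) = baseMor ν ≫ 𝒳.p.map χ := by
  simp [baseMor]

/-- Two morphisms with one base differ by an automorphism. -/
theorem exists_va_eq (h : IsFibGrpd 𝒳.p) {x : 𝒳.obj} {V : Over S}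
    (ν ν' : X.obj (bT hT₀ V) ⟶ x) (e : baseMor ν = baseMor ν') :
    ∃ ε : VA X (bT hT₀ V), ν = ε.hom.1 ≫ ν' := by
  have h1 : 𝒳.p.IsHomLift (baseMor ν') ν := e ▸ baseMor_lift ν
  have := baseMor_lift ν'
  obtain ⟨χ, hχ, -, hχ'⟩ := GalCohAux.GerbBasic.exists_fac h (baseMor ν') ν' ν
  obtain ⟨ε, hε⟩ := VA.exists_of_hom h X (b := bT hT₀ V) χ hχ
  exact ⟨ε, by rw [hε, hχ']⟩

theorem va_ext_comp (h : IsFibGrpd 𝒳.p) {x : 𝒳.obj} {V : Over S} (ν : X.obj (bT hT₀ V) ⟶ x)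
    {e e' : VA X (bT hT₀ V)} (he : e.hom.1 ≫ ν = e'.hom.1 ≫ ν) : e = e' :=
  VA.ext_of_comp h (baseMor ν) ν (baseMor_lift ν) he

theorem VA.hom_inv_comp {b : (overCat T₀).obj} (e : VA X b) {y : 𝒳.obj} (f : X.obj b ⟶ y) :
    (e⁻¹).hom.1 ≫ e.hom.1 ≫ f = f := by
  rw [← Category.assoc, ← VA.mul_hom, mul_inv_cancel, VA.one_hom, Category.id_comp]

theorem bM_id (V : Over S) : bM hT₀ (𝟙 V) = 𝟙 (bT hT₀ V) := Over.OverMorphism.ext rfl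

theorem bM_comp {V'' V' V : Over S} (k : V'' ⟶ V') (g : V' ⟶ V) :
    bM hT₀ (k ≫ g) = bM hT₀ k ≫ bM hT₀ g := Over.OverMorphism.ext rfl

end basics

/-- Descent data: an object receiving compatible images of the morphisms from the section. -/
structure Transfer (hT₀ : IsTerminal T₀) (X : overCat T₀ ⥤ᵇ 𝒳) (Y : overCat T₀ ⥤ᵇ 𝒴)
    (ι : ∀ V, VA X (bT hT₀ V) ≃* VA Y (bT hT₀ V)) (x : 𝒳.obj) where
  y : 𝒴.obj
  hy : 𝒴.p.obj y = 𝒳.p.obj x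
  η : ∀ {V : Over S}, (X.obj (bT hT₀ V) ⟶ x) → (Y.obj (bT hT₀ V) ⟶ y)
  lift : ∀ {V : Over S} (ν : X.obj (bT hT₀ V) ⟶ x), 𝒴.p.IsHomLift (baseMor ν) (η ν)
  nat : ∀ {V' V : Over S} (g : V' ⟶ V) (ν : X.obj (bT hT₀ V) ⟶ x),
    η (X.map (bM hT₀ g) ≫ ν) = Y.map (bM hT₀ g) ≫ η ν
  equiv : ∀ {V : Over S} (e : VA X (bT hT₀ V)) (ν : X.obj (bT hT₀ V) ⟶ x),
    η (e.hom.1 ≫ ν) = (ι V e).hom.1 ≫ η ν

variable (hT₀ : IsTerminal T₀) (X : overCat T₀ ⥤ᵇ 𝒳) (Y : overCat T₀ ⥤ᵇ 𝒴)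
  (ι : ∀ V, VA X (bT hT₀ V) ≃* VA Y (bT hT₀ V))
  (h𝒳 : Stk.IsStack (AlgSp.J S) 𝒳) (h𝒴 : Stk.IsStack (AlgSp.J S) 𝒴)
  (hι : ∀ {V' V : Over S} (g : V' ⟶ V) (e : VA X (bT hT₀ V)),
    res h𝒴.1 Y (bM hT₀ g) (ι V e) = ι V' (res h𝒳.1 X (bM hT₀ g) e))
  (hX : ∀ x : 𝒳.obj, trivSieve hT₀ X x ∈ AlgSp.J S (𝒳.p.obj x))

include h𝒳 h𝒴 hι hX in
theorem exists_transfer (x : 𝒳.obj) : Nonempty (Transfer hT₀ X Y ι x) := by
  classical
  have hgX := h𝒳.1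
  have hgY := h𝒴.1
  let R := trivSieve hT₀ X x
  let bb : (Stk.sieveCat R).obj → (overCat T₀).obj := fun a => bT hT₀ (Over.left a.obj)
  let bk : ∀ {a b : (Stk.sieveCat R).obj}, (a ⟶ b) → (bb a ⟶ bb b) := fun k => bM hT₀ k.hom.left
  let ν₀ : ∀ a : (Stk.sieveCat R).obj, X.obj (bb a) ⟶ x := fun a => a.property.choose
  have hν₀ : ∀ a : (Stk.sieveCat R).obj, baseMor (ν₀ a) = Over.hom a.obj := fun a =>
    baseMor_eq a.property.choose_spec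
  have hex : ∀ {a b : (Stk.sieveCat R).obj} (k : a ⟶ b),
      ∃ e : VA X (bb a), ν₀ a = e.hom.1 ≫ X.map (bk k) ≫ ν₀ b := fun {a b} k =>
    exists_va_eq hgX _ _ (by rw [baseMor_map, hν₀, hν₀]; exact (Over.w k.hom).symm)
  let ek : ∀ {a b : (Stk.sieveCat R).obj} (_ : a ⟶ b), VA X (bb a) := fun k => (hex k).choose
  have hek : ∀ {a b : (Stk.sieveCat R).obj} (k : a ⟶ b),
      ν₀ a = (ek k).hom.1 ≫ X.map (bk k) ≫ ν₀ b := fun k => (hex k).choose_spec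
  have hek_id : ∀ a, ek (𝟙 a) = 1 := fun a => va_ext_comp hgX (ν₀ a) (by
    conv_rhs => rw [VA.one_hom, Category.id_comp, hek (𝟙 a)]
    have : bk (𝟙 a) = 𝟙 (bb a) := Over.OverMorphism.ext rfl
    rw [this, CategoryTheory.Functor.map_id, Category.id_comp])
  have hek_comp : ∀ {a b c : (Stk.sieveCat R).obj} (k : a ⟶ b) (l : b ⟶ c),
      ek (k ≫ l) = res hgX X (bk k) (ek l) * ek k := fun {a b c} k l => by
    refine va_ext_comp hgX (X.map (bk (k ≫ l)) ≫ ν₀ c) ?_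
    rw [← hek]
    have : bk (k ≫ l) = bk k ≫ bk l := Over.OverMorphism.ext rfl
    rw [this, Functor.map_comp, VA.mul_hom, Category.assoc, Category.assoc,
      ← Category.assoc _ (X.map (bk k)), res_spec, Category.assoc, ← hek l, ← hek k]
  let G₀ : (Stk.sieveCat R).obj ⥤ 𝒴.obj :=
    { obj := fun a => Y.obj (bb a)
      map := fun {a b} k => (ι _ (ek k)).hom.1 ≫ Y.map (bk k)
      map_id := fun a => by
        have : bk (𝟙 a) = 𝟙 (bb a) := Over.OverMorphism.ext rfl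
        rw [hek_id, map_one, VA.one_hom, Category.id_comp, this, CategoryTheory.Functor.map_id]
      map_comp := fun {a b c} k l => by
        have : bk (k ≫ l) = bk k ≫ bk l := Over.OverMorphism.ext rfl
        rw [hek_comp, map_mul, ← hι k.hom.left (ek l), VA.mul_hom, this, Functor.map_comp,
          Category.assoc, Category.assoc, ← Category.assoc _ (Y.map (bk k)), res_spec,
          Category.assoc] }
  have hG₀ : ∀ {a b : (Stk.sieveCat R).obj} (k : a ⟶ b),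
      𝒴.p.IsHomLift k.hom.left (G₀.map k) := fun {a b} k =>
    va_comp_lift _ (ι _ (ek k)) _ (map_lift Y (bk k))
  let Φ : Stk.sieveCat R ⥤ᵇ 𝒴 :=
    ⟨G₀, CategoryTheory.Functor.ext (fun a => Y.w_obj (bb a)) (fun a b k => by
      have := hG₀ k
      exact IsHomLift.fac' 𝒴.p k.hom.left (G₀.map k))⟩
  have : (Stk.resSieve R 𝒴).IsEquivalence := h𝒴.2 R (hX x)
  let Ψ := (Stk.resSieve R 𝒴).objPreimage Φ
  let ε : (Stk.resSieve R 𝒴).obj Ψ ≅ Φ := (Stk.resSieve R 𝒴).objObjPreimageIso Φ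
  let ψ : ∀ a : (Stk.sieveCat R).obj, G₀.obj a ⟶ Ψ.obj (overTop (𝒳.p.obj x)) := fun a =>
    ε.inv.toNatTrans.app a ≫ Ψ.map (toTop a.obj)
  have hψ : ∀ a, 𝒴.p.IsHomLift (Over.hom a.obj) (ψ a) := fun a => by
    have : 𝒴.p.IsHomLift (𝟙 (Over.left a.obj)) (ε.inv.toNatTrans.app a) :=
      BasedNatTrans.app_isHomLift ε.inv a
    have : 𝒴.p.IsHomLift (Over.hom a.obj) (Ψ.map (toTop a.obj)) := map_lift Ψ (toTop a.obj)
    exact IsHomLift.comp_lift_id_left' 𝒴.p (Over.left a.obj) _ _ _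
  have hψnat : ∀ {a b : (Stk.sieveCat R).obj} (k : a ⟶ b), G₀.map k ≫ ψ b = ψ a := by
    intro a b k
    have h1 : G₀.map k ≫ ε.inv.toNatTrans.app b =
        ε.inv.toNatTrans.app a ≫ Ψ.map k.hom := ε.inv.toNatTrans.naturality k
    have h2 : k.hom ≫ toTop b.obj = toTop a.obj := Over.OverMorphism.ext (Over.w k.hom)
    simp only [ψ]
    rw [← Category.assoc, h1, Category.assoc, ← Functor.map_comp, h2]
  -- the images
  let aν : ∀ {V : Over S} (_ : X.obj (bT hT₀ V) ⟶ x), (Stk.sieveCat R).obj := fun ν =>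
    ⟨Over.mk (baseMor ν), ⟨ν, baseMor_lift ν⟩⟩
  have hε : ∀ {V : Over S} (ν : X.obj (bT hT₀ V) ⟶ x),
      ∃ e : VA X (bb (aν ν)), ν = e.hom.1 ≫ ν₀ (aν ν) := fun ν =>
    exists_va_eq hgX (V := Over.left (aν ν).obj) ν _ (hν₀ (aν ν)).symm
  let η : ∀ {V : Over S}, (X.obj (bT hT₀ V) ⟶ x) → (Y.obj (bT hT₀ V) ⟶ Ψ.obj (overTop (𝒳.p.obj x))) :=
    fun ν => (ι _ (hε ν).choose).hom.1 ≫ ψ (aν ν)
  have hη : ∀ (a : (Stk.sieveCat R).obj) (e : VA X (bb a)),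
      η (e.hom.1 ≫ ν₀ a) = (ι _ e).hom.1 ≫ ψ a := by
    intro a e
    let a₁ := aν (e.hom.1 ≫ ν₀ a)
    let e₁ : VA X (bb a₁) := (hε (e.hom.1 ≫ ν₀ a)).choose
    have h1 : e.hom.1 ≫ ν₀ a = e₁.hom.1 ≫ ν₀ a₁ := (hε (e.hom.1 ≫ ν₀ a)).choose_spec
    let k : a₁ ⟶ a := ObjectProperty.homMk (Over.homMk (𝟙 (Over.left a.obj)) (by
      change 𝟙 _ ≫ Over.hom a.obj = baseMor (e.hom.1 ≫ ν₀ a)
      rw [Category.id_comp, baseMor_va, hν₀]))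
    have hk : bk k = 𝟙 (bb a) := Over.OverMorphism.ext rfl
    have h2 : (e : VA X (bb a₁)) = ek k * e₁ := va_ext_comp hgX (ν₀ a) (by
      rw [h1, VA.mul_hom, Category.assoc, hek k, hk]
      erw [CategoryTheory.Functor.map_id, Category.id_comp])
    change (ι _ e₁).hom.1 ≫ ψ a₁ = _
    rw [← hψnat k]
    change (ι _ e₁).hom.1 ≫ ((ι _ (ek k)).hom.1 ≫ Y.map (bk k)) ≫ ψ a = (ι _ e).hom.1 ≫ ψ a
    rw [hk]
    erw [CategoryTheory.Functor.map_id, Category.comp_id, ← Category.assoc, ← VA.mul_hom,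
      ← map_mul]
    exact congrArg (fun t => (ι _ t).hom.1 ≫ ψ a) h2.symm
  refine ⟨⟨_, Ψ.w_obj (overTop (𝒳.p.obj x)), η,
    fun ν => va_comp_lift _ (ι _ (hε ν).choose) _ (hψ (aν ν)), fun {V' V} g ν => ?_,
    fun {V} e ν => ?_⟩⟩
  · let a := aν ν
    let a' := aν (X.map (bM hT₀ g) ≫ ν)
    let k : a' ⟶ a := ObjectProperty.homMk (Over.homMk g (baseMor_map g ν).symm)
    let e : VA X (bb a) := (hε ν).choose
    have he : ν = e.hom.1 ≫ ν₀ a := (hε ν).choose_spec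
    have h1 : X.map (bM hT₀ g) ≫ ν =
        ((ek k)⁻¹ * res hgX X (bk k) e : VA X (bb a')).hom.1 ≫ ν₀ a' := by
      rw [VA.mul_hom, Category.assoc, hek k, VA.hom_inv_comp, ← Category.assoc, res_spec,
        Category.assoc, ← he]
      rfl
    rw [h1, hη, map_mul, _root_.map_inv, ← hι, VA.mul_hom, Category.assoc, ← hψnat k]
    change _ ≫ _ ≫ ((ι _ (ek k)).hom.1 ≫ Y.map (bk k)) ≫ ψ a =
      Y.map (bM hT₀ g) ≫ (ι _ e).hom.1 ≫ ψ a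
    rw [Category.assoc, VA.hom_inv_comp, ← Category.assoc, res_spec, Category.assoc]
    rfl
  · let a := aν ν
    let e₁ : VA X (bT hT₀ V) := (hε ν).choose
    have he : ν = e₁.hom.1 ≫ ν₀ a := (hε ν).choose_spec
    have h1 : e.hom.1 ≫ ν = (e₁ * e).hom.1 ≫ ν₀ a := by
      rw [VA.mul_hom, Category.assoc, ← he]
    refine (congrArg η h1).trans ((hη a (e₁ * e)).trans ?_)
    erw [map_mul, VA.mul_hom, Category.assoc]
    rfl

variable {hT₀ X Y ι}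

include h𝒳 in
theorem Transfer.injective {x : 𝒳.obj} (D : Transfer hT₀ X Y ι x) (hgY : IsFibGrpd 𝒴.p)
    {V : Over S} {ν ν' : X.obj (bT hT₀ V) ⟶ x} (e : baseMor ν = baseMor ν')
    (he : D.η ν = D.η ν') : ν = ν' := by
  obtain ⟨ε, rfl⟩ := exists_va_eq h𝒳.1 ν ν' e
  rw [D.equiv] at he
  have h1 : ι V ε = 1 := VA.ext_of_comp hgY (baseMor ν') (D.η ν') (D.lift ν') (by
    rw [he, VA.one_hom, Category.id_comp])
  rw [show ε = 1 from (ι V).injective (h1.trans (map_one (ι V)).symm), VA.one_hom, Category.id_comp]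

include h𝒳 h𝒴 hX in
theorem Transfer.hom_ext {x : 𝒳.obj} (D : Transfer hT₀ X Y ι x) {z : 𝒴.obj}
    {f : 𝒳.p.obj x ⟶ 𝒴.p.obj z} {m m' : D.y ⟶ z} (hm : 𝒴.p.IsHomLift f m) (hm' : 𝒴.p.IsHomLift f m')
    (he : ∀ {V : Over S} (ν : X.obj (bT hT₀ V) ⟶ x), D.η ν ≫ m = D.η ν ≫ m') : m = m' := by
  obtain ⟨θ, hθ, -, hθ'⟩ := GalCohAux.GerbBasic.exists_fac h𝒴.1 f m m'
  suffices θ = 𝟙 D.y by rw [← hθ', this, Category.id_comp]
  have : 𝒴.p.IsHomLift (𝟙 (𝒳.p.obj x)) (𝟙 D.y) := IsHomLift.id D.hy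
  refine StkLib.hom_ext_of_local (StkLib.isPrestack_of_isStack h𝒴) (trivSieve hT₀ X x) (hX x) θ (𝟙 D.y)
    fun V g hg w μ hμ => ?_
  obtain ⟨ν, hν⟩ := hg
  have hl : 𝒴.p.IsHomLift g (D.η ν) := baseMor_eq hν ▸ D.lift ν
  have : 𝒴.p.IsHomLift g μ := hμ
  obtain ⟨t, -, -, ht⟩ := GalCohAux.GerbBasic.exists_fac h𝒴.1 g (D.η ν) μ
  rw [← ht, Category.assoc, Category.assoc, Category.comp_id]
  congr 1
  have : 𝒴.p.IsHomLift g (D.η ν ≫ θ) := IsHomLift.comp_lift_id_right' 𝒴.p _ _ (𝒳.p.obj x) _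
  have := sc_of_fibGrpd h𝒴.1 f m
  refine IsStronglyCartesian.ext 𝒴.p f m g ?_
  rw [Category.assoc, hθ']
  exact (he ν).symm

include h𝒳 h𝒴 hX in
theorem Transfer.exists_map {x x' : 𝒳.obj} (D : Transfer hT₀ X Y ι x)
    (D' : Transfer hT₀ X Y ι x') (χ : x ⟶ x') : ∃ m : D.y ⟶ D'.y,
      𝒴.p.IsHomLift (𝒳.p.map χ) m ∧
        ∀ {V : Over S} (ν : X.obj (bT hT₀ V) ⟶ x), D.η ν ≫ m = D'.η (ν ≫ χ) := by
  have hgX := h𝒳.1
  have hgY := h𝒴.1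
  obtain ⟨w, c, hc⟩ := exists_lift' hgY (x := D'.y) D'.hy (𝒳.p.map χ)
  let I := Σ V : Over S, (X.obj (bT hT₀ V) ⟶ x)
  have hcov : sieveFam (fun i : I => baseMor i.2) ∈ AlgSp.J S (𝒳.p.obj x) :=
    (AlgSp.J S).superset_covering (fun V g hg => by
      obtain ⟨ν, hν⟩ := hg
      exact ⟨⟨V, ν⟩, 𝟙 V, (Category.id_comp _).trans (baseMor_eq hν)⟩) (hX x)
  have hm₀ : ∀ i : I, ∃ m : Y.obj (bT hT₀ i.1) ⟶ w,
      𝒴.p.IsHomLift (baseMor i.2) m ∧ m ≫ c = D'.η (i.2 ≫ χ) := fun i =>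
    exists_factor' hgY (𝒳.p.map χ) c hc (D'.η (i.2 ≫ χ)) (baseMor i.2) _ (D'.lift _)
      (baseMor_comp i.2 χ).symm
  choose m hm hmc using hm₀
  have hagree : ∀ (i i' : I) (z : 𝒴.obj) (θ : z ⟶ Y.obj (bT hT₀ i.1))
      (θ' : z ⟶ Y.obj (bT hT₀ i'.1)), θ ≫ D.η i.2 = θ' ≫ D.η i'.2 → θ ≫ m i = θ' ≫ m i' := by
    intro i i' z θ θ' hθ
    obtain ⟨V, ν⟩ := i
    obtain ⟨V', ν'⟩ := i'
    let W := 𝒴.p.obj z
    let g : W ⟶ V := 𝒴.p.map θ ≫ eqToHom (Y.w_obj (bT hT₀ V))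
    let g' : W ⟶ V' := 𝒴.p.map θ' ≫ eqToHom (Y.w_obj (bT hT₀ V'))
    have hgl : 𝒴.p.IsHomLift g θ := IsHomLift.of_fac 𝒴.p g θ rfl (Y.w_obj _) (by simp [g])
    have hgl' : 𝒴.p.IsHomLift g' θ' := IsHomLift.of_fac 𝒴.p g' θ' rfl (Y.w_obj _) (by simp [g'])
    have hgg : g ≫ baseMor ν = g' ≫ baseMor ν' := by
      have := D.lift ν
      have := D.lift ν'
      have l1 : 𝒴.p.IsHomLift (g ≫ baseMor ν) (θ ≫ D.η ν) := inferInstance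
      have l2 : 𝒴.p.IsHomLift (g' ≫ baseMor ν') (θ ≫ D.η ν) := hθ ▸ inferInstance
      exact map_eq_of_isHomLift (p := 𝒴.p) _ _ (θ ≫ D.η ν)
    have : 𝒴.p.IsHomLift g (Y.map (bM hT₀ g)) := map_lift Y (bM hT₀ g)
    have : 𝒴.p.IsHomLift g' (Y.map (bM hT₀ g')) := map_lift Y (bM hT₀ g')
    obtain ⟨τ, hτ, hτi, hτ'⟩ := GalCohAux.GerbBasic.exists_fac hgY g (Y.map (bM hT₀ g)) θ
    obtain ⟨τ', hτl', -, hτ''⟩ := GalCohAux.GerbBasic.exists_fac hgY g' (Y.map (bM hT₀ g')) θ'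
    have hlift : 𝒴.p.IsHomLift (𝟙 W) (inv τ ≫ τ') := inferInstance
    obtain ⟨e', he'⟩ := VA.exists_of_hom hgY Y (b := bT hT₀ W) (inv τ ≫ τ') hlift
    obtain ⟨e, rfl⟩ := (ι W).surjective e'
    have hτe : τ' = τ ≫ (ι W e).hom.1 := by rw [he', IsIso.hom_inv_id_assoc]
    have key : X.map (bM hT₀ g) ≫ ν = e.hom.1 ≫ X.map (bM hT₀ g') ≫ ν' := by
      refine D.injective h𝒳 hgY ?_ ?_
      · rw [baseMor_map, baseMor_va, baseMor_map, hgg]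
      · rw [D.nat, D.equiv, D.nat, ← cancel_epi τ, ← Category.assoc τ (Y.map (bM hT₀ g)), hτ',
          ← Category.assoc τ, ← hτe, ← Category.assoc τ', hτ'', hθ]
    have hsc := sc_of_fibGrpd hgY (𝒳.p.map χ) c
    have := hm ⟨V, ν⟩
    have := hm ⟨V', ν'⟩
    have l1 : 𝒴.p.IsHomLift (g ≫ baseMor ν) (θ ≫ m ⟨V, ν⟩) := inferInstance
    have l2 : 𝒴.p.IsHomLift (g ≫ baseMor ν) (θ' ≫ m ⟨V', ν'⟩) := hgg ▸ inferInstance
    refine IsStronglyCartesian.ext 𝒴.p (𝒳.p.map χ) c (g ≫ baseMor ν) ?_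
    rw [Category.assoc, Category.assoc, hmc, hmc, ← hτ', ← hτ'', Category.assoc, Category.assoc,
      ← D'.nat, ← D'.nat, hτe, Category.assoc, ← D'.equiv]
    dsimp only
    rw [← Category.assoc (X.map (bM hT₀ g)), key]
    simp only [Category.assoc]
  obtain ⟨φ, hφ, hφ'⟩ := exists_glue_family (StkLib.isPrestack_of_isStack h𝒴)
    (fun i : I => baseMor i.2) hcov D.hy (IsHomLift.domain_eq 𝒴.p (𝒳.p.map χ) c)
    (fun i => D.η i.2) (fun i => D.lift i.2) m hm hagree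
  refine ⟨φ ≫ c, IsHomLift.comp_lift_id_left' 𝒴.p (𝒳.p.obj x) _ _ _, fun {V} ν => ?_⟩
  rw [← Category.assoc, hφ' ⟨V, ν⟩, hmc]

variable (hT₀ X Y ι)

include hT₀ h𝒳 h𝒴 hι hX in
/-- Neutral gerbes with isomorphic automorphism sheaves of the sections are equivalent. -/
theorem exists_isEquivOver_of_neutral
    (hY : ∀ y : 𝒴.obj, trivSieve hT₀ Y y ∈ AlgSp.J S (𝒴.p.obj y)) :
    ∃ F : 𝒳 ⥤ᵇ 𝒴, IsEquivOver F := by
  classical
  have hgX := h𝒳.1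
  have hgY := h𝒴.1
  let D : ∀ x, Transfer hT₀ X Y ι x := fun x =>
    (exists_transfer hT₀ X Y ι h𝒳 h𝒴 hι hX x).some
  have hex := fun {x x' : 𝒳.obj} (χ : x ⟶ x') =>
    Transfer.exists_map h𝒳 h𝒴 hX (D x) (D x') χ
  let mp : ∀ {x x' : 𝒳.obj}, (x ⟶ x') → ((D x).y ⟶ (D x').y) := fun χ => (hex χ).choose
  have hmp : ∀ {x x' : 𝒳.obj} (χ : x ⟶ x'), 𝒴.p.IsHomLift (𝒳.p.map χ) (mp χ) := fun χ =>
    (hex χ).choose_spec.1
  have hmpη : ∀ {x x' : 𝒳.obj} (χ : x ⟶ x') {V : Over S} (ν : X.obj (bT hT₀ V) ⟶ x),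
      (D x).η ν ≫ mp χ = (D x').η (ν ≫ χ) := fun {x x'} χ {V} ν => (hex χ).choose_spec.2 ν
  let F₀ : 𝒳.obj ⥤ 𝒴.obj :=
    { obj := fun x => (D x).y
      map := mp
      map_id := fun x => Transfer.hom_ext h𝒳 h𝒴 hX (D x)
        (f := eqToHom (D x).hy.symm)
        (IsHomLift.of_fac 𝒴.p _ _ (D x).hy rfl (by
          have := hmp (𝟙 x)
          rw [IsHomLift.fac' 𝒴.p (𝒳.p.map (𝟙 x)) (mp (𝟙 x))]; simp))
        (IsHomLift.of_fac 𝒴.p _ _ (D x).hy rfl (by simp))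
        (fun {V} ν => by rw [hmpη, Category.comp_id, Category.comp_id])
      map_comp := fun {x y z} f g => Transfer.hom_ext h𝒳 h𝒴 hX (D x)
        (f := 𝒳.p.map (f ≫ g) ≫ eqToHom (D z).hy.symm)
        (IsHomLift.of_fac 𝒴.p _ _ (D x).hy rfl (by
          have := hmp (f ≫ g)
          rw [IsHomLift.fac' 𝒴.p (𝒳.p.map (f ≫ g)) (mp (f ≫ g))]; simp))
        (IsHomLift.of_fac 𝒴.p _ _ (D x).hy rfl (by
          have := hmp f
          have := hmp g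
          rw [Functor.map_comp 𝒴.p, IsHomLift.fac' 𝒴.p (𝒳.p.map f) (mp f),
            IsHomLift.fac' 𝒴.p (𝒳.p.map g) (mp g)]
          simp))
        (fun {V} ν => by rw [hmpη (f ≫ g), ← Category.assoc ((D x).η ν), hmpη f, hmpη g, Category.assoc]) }
  let F : 𝒳 ⥤ᵇ 𝒴 := ⟨F₀, CategoryTheory.Functor.ext (fun x => (D x).hy) (fun x x' χ => by
    have := hmp χ
    exact IsHomLift.fac' 𝒴.p (𝒳.p.map χ) (mp χ))⟩
  -- gerbes
  have hgerb : ∀ {𝒵 : AlgSt.Cat S} (Z : overCat T₀ ⥤ᵇ 𝒵), Stk.IsStack (AlgSp.J S) 𝒵 →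
      (∀ z : 𝒵.obj, trivSieve hT₀ Z z ∈ AlgSp.J S (𝒵.p.obj z)) → Gerb.IsGerbe (AlgSp.J S) 𝒵 := by
    intro 𝒵 Z hs hZ
    refine ⟨hs, fun T => ⟨⊤, (AlgSp.J S).top_mem T, fun V f _ =>
      ⟨Z.obj (bT hT₀ V), eqToHom (Z.w_obj (bT hT₀ V)) ≫ f, ?_⟩⟩, fun z z' b hb => ?_⟩
    · exact IsHomLift.of_fac (𝟭 (Over S)) f _ (Z.w_obj (bT hT₀ V)) rfl (by simp)
    · refine ⟨trivSieve hT₀ Z z ⊓ (trivSieve hT₀ Z z').pullback b,
        (AlgSp.J S).intersection_covering (hZ z) ((AlgSp.J S).pullback_stable b (hZ z')),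
        fun V f hf => ?_⟩
      obtain ⟨⟨ν, hν⟩, ν', hν'⟩ := hf
      have hbl : (𝟭 (Over S)).IsHomLift (𝟙 (𝒵.p.obj z)) b := hb
      have hbe : 𝒵.p.obj z' = 𝒵.p.obj z :=
        IsHomLift.codomain_eq (𝟭 (Over S)) (𝟙 (𝒵.p.obj z)) b
      have hb' : b = eqToHom hbe.symm := by
        have := IsHomLift.fac' (𝟭 (Over S)) (𝟙 (𝒵.p.obj z)) b
        simpa using this
      refine ⟨Z.obj (bT hT₀ V), ν, ν', hν, ?_, ?_⟩
      · refine IsHomLift.of_fac 𝒵.p f ν' (Z.w_obj _) hbe ?_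
        rw [IsHomLift.fac' 𝒵.p (f ≫ b) ν']
        simp [hb']
      · change 𝒵.p.map ν ≫ b = 𝒵.p.map ν'
        rw [IsHomLift.fac' 𝒵.p f ν, IsHomLift.fac' 𝒵.p (f ≫ b) ν']
        simp
  refine ⟨F, GalCohAux.GerbGlue.isEquivOver_of_bijective (hgerb X h𝒳 hX) (hgerb Y h𝒴 hY) F
    (X.obj (bT hT₀ T₀)) (hT₀.ofIso (eqToIso (X.w_obj (bT hT₀ T₀)).symm)) fun x c => ?_⟩
  -- automorphisms
  let V := 𝒳.p.obj x
  let g : V ⟶ T₀ := 𝒳.p.map c ≫ eqToHom (X.w_obj (bT hT₀ T₀))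
  have hcl : 𝒳.p.IsHomLift g c := IsHomLift.of_fac 𝒳.p g c rfl (X.w_obj _) (by simp [g])
  have hXg : 𝒳.p.IsHomLift g (X.map (bM hT₀ g)) := map_lift X (bM hT₀ g)
  obtain ⟨ν, hν, hνi, -⟩ := GalCohAux.GerbBasic.exists_fac hgX g c (X.map (bM hT₀ g))
  have hbν : baseMor ν = 𝟙 V := baseMor_eq hν
  have hηl : 𝒴.p.IsHomLift (𝟙 V) ((D x).η ν) := hbν ▸ (D x).lift ν
  have : IsIso ((D x).η ν) := isIso_of_fibGrpd hgY (𝟙 V) _
  have key : ∀ (α : Gerb.AutO x) (e : VA X (bT hT₀ V)), ν ≫ α.hom.1 = e.hom.1 ≫ ν →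
      (D x).η ν ≫ F.map α.hom.1 = (ι V e).hom.1 ≫ (D x).η ν := fun α e he => by
    change (D x).η ν ≫ mp α.hom.1 = _
    rw [hmpη, he, (D x).equiv]
  have hex' : ∀ α : Gerb.AutO x, ∃ e : VA X (bT hT₀ V), ν ≫ α.hom.1 = e.hom.1 ≫ ν := fun α => by
    have : 𝒳.p.IsHomLift (𝟙 V) α.hom.1 := α.hom.2
    have : 𝒳.p.IsHomLift (𝟙 V) (ν ≫ α.hom.1) := inferInstance
    exact exists_va_eq hgX _ ν ((baseMor_eq this).trans hbν.symm)
  refine ⟨fun α α' hαα => ?_, fun β => ?_⟩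
  · obtain ⟨e, he⟩ := hex' α
    obtain ⟨e', he'⟩ := hex' α'
    have h1 : F.map α.hom.1 = F.map α'.hom.1 := congrArg (fun t : Gerb.AutO (F.obj x) => t.hom.1) hαα
    have h2 : ι V e = ι V e' := va_ext_comp (X := Y) hgY ((D x).η ν) (by
      rw [← key α e he, ← key α' e' he', h1])
    refine Aut.ext (Fiber.hom_ext ((cancel_epi ν).1 ?_))
    change ν ≫ α.hom.1 = ν ≫ α'.hom.1
    rw [he, he', (ι V).injective h2]
  · have hβ : 𝒴.p.IsHomLift (𝟙 V) β.hom.1 := by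
      have h1 : 𝒴.p.IsHomLift (𝟙 (𝒴.p.obj (F.obj x))) β.hom.1 := β.hom.2
      refine IsHomLift.of_fac 𝒴.p _ _ (D x).hy (D x).hy ?_
      rw [IsHomLift.fac' 𝒴.p (𝟙 (𝒴.p.obj (F.obj x))) β.hom.1]
      simp
    have hl₀ : 𝒴.p.IsHomLift (𝟙 V) ((D x).η ν ≫ β.hom.1 ≫ inv ((D x).η ν)) := inferInstance
    obtain ⟨e', he'⟩ := VA.exists_of_hom hgY Y (b := bT hT₀ V)
      ((D x).η ν ≫ β.hom.1 ≫ inv ((D x).η ν)) hl₀
    obtain ⟨e, rfl⟩ := (ι V).surjective e'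
    have hel : 𝒳.p.IsHomLift (𝟙 V) e.hom.1 := e.hom.2
    have hνl : 𝒳.p.IsHomLift (𝟙 V) ν := hν
    have hl : 𝒳.p.IsHomLift (𝟙 V) (inv ν ≫ e.hom.1 ≫ ν) := inferInstance
    have := isIso_of_fibGrpd hgX (𝟙 V) (inv ν ≫ e.hom.1 ≫ ν)
    let α : Gerb.AutO x := GalCohAux.GerbGlue.autOf (inv ν ≫ e.hom.1 ≫ ν) hl
    refine ⟨α, Aut.ext (Fiber.hom_ext ((cancel_epi ((D x).η ν)).1 ?_))⟩
    change (D x).η ν ≫ F.map α.hom.1 = _
    rw [key α e (show ν ≫ (inv ν ≫ e.hom.1 ≫ ν) = e.hom.1 ≫ ν by rw [IsIso.hom_inv_id_assoc]), he',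
      Category.assoc, Category.assoc, IsIso.inv_hom_id, Category.comp_id]
    rfl

end Groth.Agent.IsoCls
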