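import Groth.Agent.IsoCls.ThetaFam
import Groth.Agent.IsoCls.Neutral
import Groth.Prelude.Def_AlgSt5

/-!
The classifying stack of a commutative group is determined by its isomorphism classes.
-/

set_option autoImplicit false
set_option backward.isDefEq.respectTransparency false
set_option backward.isDefEq.respectTransparency.types false

universe u

open CategoryTheory CategoryTheory.Limits AlgebraicGeometry FibCat
open CategoryTheory.Functor Groth.Agent.FibC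
open MonoidalCategory CartesianMonoidalCategory MonObj

namespace Groth.Agent.IsoCls

variable {S : Scheme.{u}}

/-- The classifying stack. -/
noncomputable abbrev BGc (G : Over S) [GrpObj G] : AlgSt.Cat S := AlgSt.BG Scheme.fppfPrecoverage G

section torsors

variable {G : Over S} [GrpObj G]


/-- An equivariant map over the base is the translation by a function to the group. -/
theorem exists_translate (A : (BGc G).obj) (s : A ⟶ A) (hs : (BGc G).p.map s = 𝟙 ((BGc G).p.obj A)) :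
    ∃ a : A.P ⟶ G, s.top = lift a (𝟙 A.P) ≫ A.act.act := by
  have hb : s.base = 𝟙 A.base := hs
  have hw : s.top ≫ A.π = 𝟙 A.P ≫ A.π := by
    rw [s.cart.w, hb, Category.comp_id, Category.id_comp]
  obtain ⟨l, hl, hl'⟩ := A.cart.exists_lift s.top (𝟙 A.P) hw
  refine ⟨l ≫ fst G A.P, ?_⟩
  have : lift (l ≫ fst G A.P) (𝟙 A.P) = l := by
    apply CartesianMonoidalCategory.hom_ext
    · rw [lift_fst]
    · rw [lift_snd, hl']
  rw [this, hl]

/-- Composition of translations is translation by the product. -/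
theorem translate_comp (A : (BGc G).obj) (t : A ⟶ A) (a b : A.P ⟶ G)
    (ht : t.top = lift b (𝟙 A.P) ≫ A.act.act) :
    (lift a (𝟙 A.P) ≫ A.act.act) ≫ t.top = lift (a * b) (𝟙 A.P) ≫ A.act.act := by
  rw [Category.assoc, t.eqv, ht]
  have h : lift a (𝟙 A.P) ≫ (G ◁ (lift b (𝟙 A.P) ≫ A.act.act)) ≫ A.act.act =
      lift a (lift b (𝟙 A.P)) ≫ (G ◁ A.act.act) ≫ A.act.act := by
    rw [MonoidalCategory.whiskerLeft_comp, Category.assoc, ← Category.assoc (lift a (𝟙 A.P)),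
      lift_whiskerLeft, Category.id_comp]
  have hm : (G ◁ A.act.act) ≫ A.act.act = (α_ G G A.P).inv ≫ (μ[G] ▷ A.P) ≫ A.act.act := by
    rw [A.act.mul_act, Iso.inv_hom_id_assoc]
  rw [h, hm, ← Category.assoc, ← Category.assoc]
  congr 1
  apply CartesianMonoidalCategory.hom_ext
  · simp [Hom.mul_def, comp_lift_assoc]
  · simp

/-- The automorphisms of a torsor under a commutative group commute. -/
theorem commute_endo [IsCommMonObj G] (A : (BGc G).obj) (s t : A ⟶ A)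
    (hs : (BGc G).p.map s = 𝟙 ((BGc G).p.obj A)) (ht : (BGc G).p.map t = 𝟙 ((BGc G).p.obj A)) : s ≫ t = t ≫ s := by
  refine AlgSt.QuotObj.hom_ext ?_ ?_
  · change s.base ≫ t.base = t.base ≫ s.base
    rw [show s.base = 𝟙 A.base from hs, show t.base = 𝟙 A.base from ht]
  · obtain ⟨a, ha⟩ := exists_translate A s hs
    obtain ⟨b, hb⟩ := exists_translate A t ht
    change s.top ≫ t.top = t.top ≫ s.top
    conv_lhs => rw [ha]
    conv_rhs => rw [hb]
    rw [translate_comp A t a b hb, translate_comp A s b a ha, mul_comm]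

theorem va_comm [IsCommMonObj G] {T : Over S} (X : overCat T ⥤ᵇ BGc G) (c : (overCat T).obj)
    (e e' : VA X c) : e * e' = e' * e := by
  refine VA.ext ?_
  rw [VA.mul_hom, VA.mul_hom]
  have h : ∀ e : VA X c, (BGc G).p.map e.hom.1 = 𝟙 ((BGc G).p.obj (X.obj c)) := fun e => by
    have : (BGc G).p.IsHomLift (𝟙 (Over.left c)) e.hom.1 := e.hom.2
    rw [IsHomLift.fac' (BGc G).p (𝟙 (Over.left c)) e.hom.1]
    simp
  exact commute_endo _ _ _ (h e') (h e)

variable (G)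

/-- The trivial torsor over `V`. -/
noncomputable def trivTors (V : Over S) : (AlgSt.BG Scheme.fppfPrecoverage G).obj where
  base := V
  P := G ⊗ V
  act := AlgSt.leftMul G V
  π := snd G V
  cart := AlgSt.isPullback_leftMul V
  loc := by
    refine ⟨Presieve.singleton (𝟙 _), Scheme.fppfPrecoverage.mem_coverings_of_isIso (𝟙 _), ?_⟩
    rintro S' f ⟨⟩
    refine ⟨(lift (toUnit V ≫ η[G]) (𝟙 V)).left, ?_⟩
    have h : lift (toUnit V ≫ η[G]) (𝟙 V) ≫ snd G V = 𝟙 _ := lift_snd _ _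
    have := congrArg CommaMorphism.left h
    simpa using this
  φ := toUnit _
  eqv := toUnit_unique _ _

variable {G}

/-- Sections give morphisms from trivial torsors. -/
noncomputable def homOfSection {V : Over S} (A : (BGc G).obj) (σ : V ⟶ A.P) : trivTors G V ⟶ A where
  base := σ ≫ A.π
  top := (G ◁ σ) ≫ A.act.act
  eqv := by
    have hm : (G ◁ A.act.act) ≫ A.act.act = (α_ G G A.P).inv ≫ (μ[G] ▷ A.P) ≫ A.act.act := by
      rw [A.act.mul_act, Iso.inv_hom_id_assoc]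
    change (AlgSt.leftMul G V).act ≫ (G ◁ σ) ≫ A.act.act = (G ◁ ((G ◁ σ) ≫ A.act.act)) ≫ A.act.act
    rw [MonoidalCategory.whiskerLeft_comp, Category.assoc, hm, ← Category.assoc,
      ← Category.assoc (G ◁ G ◁ σ), ← Category.assoc]
    congr 1
    have hμ : fst (G ⊗ G) A.P ≫ μ[G] = (fst _ _ ≫ fst G G) * (fst _ _ ≫ snd G G) := by
      rw [Hom.mul_def, ← comp_lift, lift_fst_snd, Category.comp_id]
    apply CartesianMonoidalCategory.hom_ext
    · simp [AlgSt.leftMul, hμ, MonObj.comp_mul]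
    · simp [AlgSt.leftMul]
  cart := (AlgSt.isPullback_whiskerLeft σ).paste_horiz A.cart
  wφ := toUnit_unique _ _

theorem homOfSection_lift {V : Over S} (A : (BGc G).obj) (σ : V ⟶ A.P) :
    (BGc G).p.IsHomLift (σ ≫ A.π) (homOfSection A σ) :=
  IsHomLift.of_fac (BGc G).p _ _ rfl rfl (by
    change σ ≫ A.π = 𝟙 _ ≫ (homOfSection A σ).base ≫ 𝟙 _
    rw [Category.comp_id, Category.id_comp]
    rfl)

/-- Every torsor is locally trivial, for the section of the final object. -/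
theorem trivSieve_mem {T₀ : Over S} (hT₀ : IsTerminal T₀) (h : IsFibGrpd (BGc G).p)
    (X : overCat T₀ ⥤ᵇ BGc G) (e : X.obj (overTop T₀) ⟶ trivTors G T₀)
    (he : (BGc G).p.IsHomLift (𝟙 T₀) e) (A : (BGc G).obj) :
    trivSieve hT₀ X A ∈ AlgSp.J S ((BGc G).p.obj A) := by
  obtain ⟨R, hR, hs⟩ := A.loc
  refine Groth.Agent.AlgSp.mem_of_cover (U := A.base) hR fun W g hg => ?_
  obtain ⟨s, hsπ⟩ := hs g hg
  let V : Over S := Over.mk (g ≫ A.base.hom)
  let σ : V ⟶ A.P := Over.homMk s (by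
    change s ≫ A.P.hom = g ≫ A.base.hom
    rw [← Over.w A.π, ← Category.assoc]
    exact congrArg (· ≫ A.base.hom) hsπ)
  have hσ : σ ≫ A.π = (Over.homMk g rfl : V ⟶ A.base) := Over.OverMorphism.ext hsπ
  let τ : trivTors G V ⟶ trivTors G T₀ :=
    { base := hT₀.from V
      top := G ◁ hT₀.from V
      eqv := by
        apply CartesianMonoidalCategory.hom_ext
        · simp [trivTors, AlgSt.leftMul, MonObj.comp_mul]
        · simp [trivTors, AlgSt.leftMul]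
      cart := AlgSt.isPullback_whiskerLeft _
      wφ := toUnit_unique _ _ }
  have hτ : (BGc G).p.IsHomLift (hT₀.from V) τ := IsHomLift.of_fac (BGc G).p _ _ rfl rfl (by
    change hT₀.from V = 𝟙 _ ≫ τ.base ≫ 𝟙 _
    rw [Category.comp_id, Category.id_comp])
  have h1 : (BGc G).p.IsHomLift (hT₀.from V) (X.map (toTop (bT hT₀ V)) ≫ e) := by
    have : (BGc G).p.IsHomLift (hT₀.from V) (X.map (toTop (bT hT₀ V))) := map_lift X (toTop (bT hT₀ V))
    exact IsHomLift.comp_lift_id_right' (BGc G).p _ _ T₀ _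
  obtain ⟨θ, hθ, -, -⟩ := GalCohAux.GerbBasic.exists_fac h (hT₀.from V) τ
    (X.map (toTop (bT hT₀ V)) ≫ e)
  have := homOfSection_lift A σ
  refine ⟨θ ≫ homOfSection A σ, ?_⟩
  have hl : (BGc G).p.IsHomLift (σ ≫ A.π) (θ ≫ homOfSection A σ) :=
    IsHomLift.comp_lift_id_left' (BGc G).p V _ _ _
  rw [hσ] at hl
  exact hl

end torsors

variable {𝒳 𝒴 : AlgSt.Cat S}

/-- Local triviality transfers along isomorphisms of classes. -/
theorem trivSieve_mem_of_fIso {T₀ : Over S} (hT₀ : IsTerminal T₀) (hgX : IsFibGrpd 𝒳.p)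
    (hgY : IsFibGrpd 𝒴.p) (φ : IsoNat.FIso 𝒳 𝒴) (X : overCat T₀ ⥤ᵇ 𝒳) (Y : overCat T₀ ⥤ᵇ 𝒴)
    (hcls : φ.toEquiv T₀ (IsoNat.cls (vfib X (overTop T₀))) = IsoNat.cls (vfib Y (overTop T₀)))
    (hX : ∀ x : 𝒳.obj, trivSieve hT₀ X x ∈ AlgSp.J S (𝒳.p.obj x)) (y : 𝒴.obj) :
    trivSieve hT₀ Y y ∈ AlgSp.J S (𝒴.p.obj y) := by
  let U := 𝒴.p.obj y
  let yF : 𝒴.p.Fiber U := ⟨y, rfl⟩
  let x := ((φ.toEquiv U).symm (IsoNat.cls yF)).out
  have hx : φ.toEquiv U (IsoNat.cls x) = IsoNat.cls yF := by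
    rw [show IsoNat.cls x = _ from Quotient.out_eq _]
    exact Equiv.apply_symm_apply _ _
  refine (AlgSp.J S).superset_covering ?_
    ((AlgSp.J S).pullback_stable (eqToHom x.2.symm) (hX x.1))
  rintro V f ⟨ν, hν⟩
  have hν' : 𝒳.p.IsHomLift f ν := by
    refine IsHomLift.of_fac 𝒳.p f ν (X.w_obj _) x.2 ?_
    rw [IsHomLift.fac' 𝒳.p (f ≫ eqToHom x.2.symm) ν]
    simp
  obtain ⟨y', b, hb⟩ := exists_lift' hgY (x := y) rfl f
  have hy' : 𝒴.p.obj y' = V := IsHomLift.domain_eq 𝒴.p f b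
  have h1 : φ.toEquiv V (IsoNat.cls (vfib X (bT hT₀ V))) = IsoNat.cls (⟨y', hy'⟩ : 𝒴.p.Fiber V) :=
    toEquiv_eq_of_lifts hgY φ f (x' := vfib X (bT hT₀ V)) (x := x) (y' := ⟨y', hy'⟩) (y := yF)
      ν b hν' hb hx
  have h2 : φ.toEquiv V (IsoNat.cls (vfib X (bT hT₀ V))) = IsoNat.cls (vfib Y (bT hT₀ V)) :=
    toEquiv_eq_of_lifts hgY φ (toTop (bT hT₀ V)).left (X.map (toTop (bT hT₀ V)))
      (Y.map (toTop (bT hT₀ V))) (map_lift X _) (map_lift Y _) hcls
  obtain ⟨i⟩ := iso_of_cls_eq (h2.symm.trans h1)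
  have : 𝒴.p.IsHomLift (𝟙 V) i.hom.1 := i.hom.2
  exact ⟨i.hom.1 ≫ b, IsHomLift.comp_lift_id_left' 𝒴.p V _ _ _⟩

/-- The recovered isomorphisms commute with base change, for pullbacks of one pair. -/
theorem autMap_natural' (h𝒳 : Stk.IsStack (AlgSp.J S) 𝒳) (h𝒴 : Stk.IsStack (AlgSp.J S) 𝒴)
    (hd𝒳 : AlgSt.RepByAlgSpWith (AlgSp.RepWith @IsClosedImmersion) (diag (diag (toSelf 𝒳))))
    (hd𝒴 : AlgSt.RepByAlgSpWith (AlgSp.RepWith @IsClosedImmersion) (diag (diag (toSelf 𝒴))))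
    (φ : IsoNat.FIso 𝒳 𝒴) {T₀ T' T : Over S} {g : T' ⟶ T} {G' : Theta' T'} {G : Theta' T}
    (F : ThetaHom g G' G) {a : T ⟶ T₀} {a' : T' ⟶ T₀} (ha : g ≫ a = a')
    {X : overCat T₀ ⥤ᵇ 𝒳} {Y : overCat T₀ ⥤ᵇ 𝒴}
    (hcls : φ.toEquiv T (IsoNat.cls (vfib (bch a X) (overTop T))) =
      IsoNat.cls (vfib (bch a Y) (overTop T)))
    (hcls' : φ.toEquiv T' (IsoNat.cls (vfib (bch a' X) (overTop T'))) =
      IsoNat.cls (vfib (bch a' Y) (overTop T')))
    (habX : ∀ (c : (overCat T₀).obj) (e e' : VA X c), e * e' = e' * e)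
    (habY : ∀ (c : (overCat T₀).obj) (e e' : VA Y c), e * e' = e' * e)
    (u : (Over.map a').obj (overTop T') ⟶ (Over.map a).obj (overTop T)) (hu : u.left = g)
    (e : VA X ((Over.map a).obj (overTop T))) :
    res h𝒴.1 Y u (autMap h𝒳 h𝒴 hd𝒳 hd𝒴 φ G hcls (fun c => habY ((Over.map a).obj c)) e) =
      autMap h𝒳 h𝒴 hd𝒳 hd𝒴 φ G' hcls' (fun c => habY ((Over.map a').obj c))
        (res h𝒳.1 X u e) := by
  subst ha
  have hu' : u = (Over.map a).map (toTop ((Over.map g).obj (overTop T'))) :=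
    Over.OverMorphism.ext (hu.trans (Category.id_comp g).symm)
  subst hu'
  have h1 := autMap_natural h𝒳 h𝒴 hd𝒳 hd𝒴 φ F hcls hcls' (fun c => habX ((Over.map a).obj c))
    (fun c => habY ((Over.map a).obj c)) e
  exact (res_bch h𝒴.1 a Y (toTop ((Over.map g).obj (overTop T'))) _).symm.trans
    (h1.symm.trans (congrArg _ (res_bch h𝒳.1 a X (toTop ((Over.map g).obj (overTop T'))) e)))

/-- A neutral gerbe with abelian automorphisms is determined by its isomorphism classes. -/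
theorem exists_isEquivOver_of_fIso_neutral (h𝒳 : Stk.IsStack (AlgSp.J S) 𝒳)
    (h𝒴 : Stk.IsStack (AlgSp.J S) 𝒴)
    (hd𝒳 : AlgSt.RepByAlgSpWith (AlgSp.RepWith @IsClosedImmersion) (diag (diag (toSelf 𝒳))))
    (hd𝒴 : AlgSt.RepByAlgSpWith (AlgSp.RepWith @IsClosedImmersion) (diag (diag (toSelf 𝒴))))
    (φ : IsoNat.FIso 𝒳 𝒴) {T₀ : Over S} (hT₀ : IsTerminal T₀) (X : overCat T₀ ⥤ᵇ 𝒳)
    (hab : ∀ (c : (overCat T₀).obj) (e e' : VA X c), e * e' = e' * e)
    (hX : ∀ x : 𝒳.obj, trivSieve hT₀ X x ∈ AlgSp.J S (𝒳.p.obj x)) :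
    ∃ F : 𝒳 ⥤ᵇ 𝒴, IsEquivOver F := by
  obtain ⟨Y, hY⟩ := (show ∃ Y : overCat T₀ ⥤ᵇ 𝒴, φ.toEquiv T₀ (IsoNat.cls (vfib X (overTop T₀))) =
      IsoNat.cls (vfib Y (overTop T₀)) from by
    let c := (φ.toEquiv T₀ (IsoNat.cls (vfib X (overTop T₀)))).out
    obtain ⟨Y, eY, heY⟩ := exists_overLift_fibGrpd h𝒴.1 c.1 c.2
    obtain ⟨i⟩ := fiber_iso_of_hom h𝒴.1 (x := vfib Y (overTop T₀)) (y := c) eY.hom heY
    exact ⟨Y, (Quotient.out_eq _).symm.trans
      (Quotient.sound (show Nonempty (c ≅ vfib Y (overTop T₀)) from ⟨i.symm⟩))⟩)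
  have hb : ∀ V, φ.toEquiv V (IsoNat.cls (vfib (bch (hT₀.from V) X) (overTop V))) =
      IsoNat.cls (vfib (bch (hT₀.from V) Y) (overTop V)) := fun V =>
    toEquiv_eq_of_lifts h𝒴.1 φ (toTop ((Over.map (hT₀.from V)).obj (overTop V))).left
      (x' := vfib (bch (hT₀.from V) X) (overTop V)) (x := vfib X (overTop T₀))
      (y' := vfib (bch (hT₀.from V) Y) (overTop V)) (y := vfib Y (overTop T₀))
      (X.map (toTop ((Over.map (hT₀.from V)).obj (overTop V))))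
      (Y.map (toTop ((Over.map (hT₀.from V)).obj (overTop V))))
      (map_lift X _) (map_lift Y _) hY
  have habY : ∀ (c : (overCat T₀).obj) (e e' : VA Y c), e * e' = e' * e := by
    intro c e e'
    have hc : φ.toEquiv (Over.left c) (IsoNat.cls (vfib X c)) = IsoNat.cls (vfib Y c) :=
      toEquiv_eq_of_lifts h𝒴.1 φ (toTop c).left (X.map (toTop c)) (Y.map (toTop c))
        (map_lift X _) (map_lift Y _) hY
    exact commute_of_fIso' h𝒳 h𝒴 hd𝒳 hd𝒴 φ (bch (Over.hom c) X) (bch (Over.hom c) Y) hc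
      (fun d => hab ((Over.map (Over.hom c)).obj d)) e e'
  obtain ⟨G, hG⟩ := exists_thetaFamily S
  let habV : ∀ V (c : (overCat V).obj) (e e' : VA (bch (hT₀.from V) X) c), e * e' = e' * e :=
    fun V c => hab ((Over.map (hT₀.from V)).obj c)
  let habV' : ∀ V (c : (overCat V).obj) (e e' : VA (bch (hT₀.from V) Y) c), e * e' = e' * e :=
    fun V c => habY ((Over.map (hT₀.from V)).obj c)
  let hb' := fun V => ((φ.toEquiv V).symm_apply_eq).2 (hb V).symm
  let κι : ∀ V, VA X (bT hT₀ V) ≃* VA Y (bT hT₀ V) := fun V =>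
    { toFun := autMap h𝒳 h𝒴 hd𝒳 hd𝒴 φ (G V) (hb V) (habV' V)
      invFun := autMap h𝒴 h𝒳 hd𝒴 hd𝒳 (fisoSymm h𝒳.1 h𝒴.1 φ) (G V) (hb' V) (habV V)
      left_inv := autMap_symm h𝒳 h𝒴 hd𝒳 hd𝒴 φ (G V) (hb V) (habV V) (habV' V)
      right_inv := autMap_symm h𝒴 h𝒳 hd𝒴 hd𝒳 (fisoSymm h𝒳.1 h𝒴.1 φ) (G V) (hb' V) (habV' V)
        (habV V)
      map_mul' := autMap_mul h𝒳 h𝒴 hd𝒳 hd𝒴 φ (G V) (hb V) (habV V) (habV' V) }
  refine exists_isEquivOver_of_neutral hT₀ X Y κι h𝒳 h𝒴 (fun {V' V} g e => ?_) hX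
    (trivSieve_mem_of_fIso hT₀ h𝒳.1 h𝒴.1 φ X Y hY hX)
  obtain ⟨F⟩ := hG g
  exact autMap_natural' h𝒳 h𝒴 hd𝒳 hd𝒴 φ F (hT₀.hom_ext _ _) (hb V) (hb V') hab habY (bM hT₀ g) rfl e

/-- The classifying stack of a commutative group is determined by its isomorphism classes. -/
theorem exists_isEquivOver_BG_of_fIso (G : Over S) [GrpObj G] [IsCommMonObj G]
    (hB : Stk.IsStack (AlgSp.J S) (AlgSt.BG Scheme.fppfPrecoverage G))
    (hdB : AlgSt.RepByAlgSpWith (AlgSp.RepWith @IsClosedImmersion)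
      (diag (diag (toSelf (AlgSt.BG Scheme.fppfPrecoverage G)))))
    (h𝒴 : Stk.IsStack (AlgSp.J S) 𝒴)
    (hd𝒴 : AlgSt.RepByAlgSpWith (AlgSp.RepWith @IsClosedImmersion) (diag (diag (toSelf 𝒴))))
    (φ : IsoNat.FIso (AlgSt.BG Scheme.fppfPrecoverage G) 𝒴) :
    ∃ F : AlgSt.BG Scheme.fppfPrecoverage G ⥤ᵇ 𝒴, IsEquivOver F := by
  let T₀ : Over S := Over.mk (𝟙 S)
  obtain ⟨X, eX, heX⟩ := exists_overLift_fibGrpd hB.1 (trivTors G T₀) rfl
  exact exists_isEquivOver_of_fIso_neutral hB h𝒴 hdB hd𝒴 φ Over.mkIdTerminal X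
    (fun c e e' => va_comm X c e e')
    (trivSieve_mem Over.mkIdTerminal hB.1 X eX.hom heX)

end Groth.Agent.IsoCls
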