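import Groth.Agent.IsoCls.SmoothLift
import Groth.Agent.StFib.DescCriteria
import Groth.Agent.StFib.PointsTop
import Groth.Agent.AlgSp.LimLPCrit
import Groth.Agent.AlgSp.LimLP
import Groth.Agent.AlgSpCov.FpqcBase
import Groth.Agent.AlgSp.InfEtale
import Groth.Agent.S10544
import Groth.Agent.StFib.DiagLft

/-!
Local finite presentation and smoothness of charts are detected by isomorphism classes.
-/

set_option autoImplicit false
set_option linter.unusedVariables false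
set_option backward.isDefEq.respectTransparency false
set_option backward.isDefEq.respectTransparency.types false

universe u

open CategoryTheory CategoryTheory.Limits AlgebraicGeometry Opposite FibCat
open Groth.Agent.FibC

namespace Groth.Agent.IsoCls

open Groth.Agent.StFib

variable {S : Scheme.{u}} {𝒳 𝒴 : AlgSt.Cat S} {U V : Over S}

/-- The base change of a chart to any chart is locally of finite presentation when the corresponding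
chart is so. -/
theorem locP_lfp_of_corr (h𝒳 : IsFibGrpd 𝒳.p) (h𝒴 : IsFibGrpd 𝒴.p)
    (h𝒴i : AlgSt.RepByAlgSpWith (AlgSp.LocP @LocallyOfFinitePresentation) (inertiaToBase (toSelf 𝒴)))
    (φ : IsoNat.FIso 𝒳 𝒴) {x : overCat U ⥤ᵇ 𝒳} {y : overCat U ⥤ᵇ 𝒴}
    (hxy : φ.toEquiv U (IsoNat.cls (vfib x (overTop U))) = IsoNat.cls (vfib y (overTop U)))
    (hx : AlgSt.RepByAlgSpWith (AlgSp.LocP @LocallyOfFinitePresentation) x)
    (v : overCat V ⥤ᵇ 𝒴) (F : AlgSp.Space S) (e : AlgSt.ofSp F.obj ⥤ᵇ fp v y) (he : IsEquivOver e) :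
    AlgSp.LocP @LocallyOfFinitePresentation (AlgSt.spMapOfOver (BasedFunctor.comp e (fpFst v y))) := by
  let a := AlgSt.spMapOfOver (BasedFunctor.comp e (fpFst v y))
  obtain ⟨ev, hev, hnat⟩ := exists_pairDict h𝒴 v y F e he
  refine Groth.Agent.AlgSp.LimLPCrit.locP_of_lifts a fun I _ _ D c hc hD hT r i b w => ?_
  obtain ⟨h, rfl⟩ := (AlgSp.yon S).map_surjective b
  obtain ⟨g, β, hgβ⟩ : ∃ g β, ev (c.π.app i ≫ h) ⟨r, w.trans ((AlgSp.yon S).map_comp _ _).symm⟩ =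
      ⟨g, β⟩ := ⟨_, _, rfl⟩
  -- the corresponding object over the stage
  obtain ⟨z, hz⟩ := exists_corr_chart h𝒳 (fisoSymm h𝒳 h𝒴 φ)
    (BasedFunctor.comp (AlgSt.overMap h) v)
  have hz' : φ.toEquiv (D.obj i) (IsoNat.cls (vfib z (overTop _))) =
      IsoNat.cls (vfib (BasedFunctor.comp (AlgSt.overMap h) v) (overTop _)) :=
    ((Equiv.symm_apply_eq _).1 hz).symm
  let cT : (Over.map h).obj (Over.mk (c.π.app i)) ⟶ Over.mk (c.π.app i ≫ h) :=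
    Over.homMk (𝟙 _) (by simp)
  obtain ⟨α⟩ := (vhom_of_corr h𝒳 h𝒴 φ hz' hxy (c.π.app i) g).2
    ⟨⟨v.map cT ≫ β.1, ((show Vert (𝒳 := overCat V) cT from ⟨rfl, rfl⟩).map v).comp β.2⟩⟩
  -- descend the morphism to a stage
  obtain ⟨G, eG, heG, hG⟩ := hx (D.obj i) z
  obtain ⟨evG, hevG, hnatG⟩ := exists_pairDict h𝒳 z x G eG heG
  let aG := AlgSt.spMapOfOver (BasedFunctor.comp eG (fpFst z x))
  obtain ⟨rα, hrα⟩ := (hevG (c.π.app i)).2 ⟨g, α⟩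
  obtain ⟨j, ψ, rj, hj₁, hj₂⟩ := Groth.Agent.AlgSp.LimLP.exists_stage_affine G.property
    (isAlgSpace_yon _) aG hG (Groth.Agent.AlgSp.LimLP.locP_lft_of_lfp hG) hc hD hT
    (i := i) (𝟙 _) rα.1 (by rw [rα.2]; exact (Category.comp_id _).symm)
  have hj₂' : rj ≫ aG = (AlgSp.yon S).map (D.map ψ) := hj₂.trans (Category.comp_id _)
  obtain ⟨gj, αj, hgαj⟩ : ∃ gj αj, evG (D.map ψ) ⟨rj, hj₂'⟩ = ⟨gj, αj⟩ := ⟨_, _, rfl⟩
  have hres := hnatG (c.π.app j) (D.map ψ) (c.π.app i) ⟨rj, hj₂'⟩ rα (c.w ψ) hj₁.symm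
  rw [hrα, hgαj] at hres
  have hg : c.π.app j ≫ gj = g := hres.right_eq
  obtain ⟨γ₀⟩ := (vhom_of_corr h𝒳 h𝒴 φ hz' hxy (D.map ψ) gj).1 ⟨αj⟩
  let cj : Over.mk (D.map ψ ≫ h) ⟶ (Over.map h).obj (Over.mk (D.map ψ)) :=
    Over.homMk (𝟙 _) (by simp)
  let γ : VHom v y (D.map ψ ≫ h) gj :=
    ⟨v.map cj ≫ γ₀.1, ((show Vert (𝒳 := overCat V) cj from ⟨rfl, rfl⟩).map v).comp γ₀.2⟩
  -- the difference over the limit is an automorphism, and descends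
  obtain ⟨γT, hγT⟩ := exists_isRes h𝒴 (c.π.app j)
    (show c.π.app j ≫ D.map ψ ≫ h = c.π.app i ≫ h by rw [← Category.assoc, c.w ψ]) hg γ
  let δ : VHom y y g g := ⟨(γT.inv h𝒴).1 ≫ β.1, (γT.inv h𝒴).2.comp β.2⟩
  obtain ⟨eδ, heδ⟩ := exists_vaHom_eq h𝒴 δ
  obtain ⟨A, aA, hA, -, au, hau, hnatA⟩ := exists_autDict
    (good_locP Groth.Agent.AlgSpCov.standard_locallyOfFinitePresentation) h𝒴 h𝒴i h𝒴i y
  obtain ⟨rA, hrA⟩ := (hau (Over.mk g)).2 eδ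
  obtain ⟨k, χ, rk, hk₁, hk₂⟩ := Groth.Agent.AlgSp.LimLP.exists_stage_affine A.property
    (isAlgSpace_yon _) aA hA (Groth.Agent.AlgSp.LimLP.locP_lft_of_lfp hA) hc hD hT
    (i := j) ((AlgSp.yon S).map gj) rA.1 (by rw [← Functor.map_comp, hg]; exact rA.2)
  let κ : Over.mk g ⟶ Over.mk (D.map χ ≫ gj) := Over.homMk (c.π.app k) (by
    change c.π.app k ≫ D.map χ ≫ gj = g
    rw [← Category.assoc, c.w χ, hg])
  let ek := au (Over.mk (D.map χ ≫ gj)) ⟨rk, hk₂.trans ((AlgSp.yon S).map_comp _ _).symm⟩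
  have hek : IsRes (c.π.app k) δ (vaHom ek) := by
    have h1 := hnatA κ ⟨rk, hk₂.trans ((AlgSp.yon S).map_comp _ _).symm⟩ rA hk₁.symm
    rw [hrA] at h1
    have h2 := isRes_vaHom h𝒴 κ ek
    rw [← h1, heδ] at h2
    exact h2
  -- the section at the stage
  obtain ⟨γk, hγk⟩ := exists_isRes h𝒴 (D.map χ) (rfl : D.map χ ≫ D.map ψ ≫ h = _)
    (rfl : D.map χ ≫ gj = _) γ
  let βk : VHom v y (D.map χ ≫ D.map ψ ≫ h) (D.map χ ≫ gj) :=
    ⟨γk.1 ≫ (vaHom ek).1, γk.2.comp (vaHom ek).2⟩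
  obtain ⟨rk', hrk'⟩ := (hev (D.map χ ≫ D.map ψ ≫ h)).2 ⟨_, βk⟩
  have heq : D.map χ ≫ D.map ψ ≫ h = D.map (χ ≫ ψ) ≫ h := by rw [D.map_comp, Category.assoc]
  refine ⟨k, χ ≫ ψ, rk'.1, ?_, ?_⟩
  · obtain ⟨γT', hγT'⟩ := exists_isRes h𝒴 (c.π.app k)
      (show c.π.app k ≫ D.map χ ≫ D.map ψ ≫ h = c.π.app i ≫ h by
        rw [← Category.assoc, c.w χ, ← Category.assoc, c.w ψ])
      (show c.π.app k ≫ D.map χ ≫ gj = g by rw [← Category.assoc, c.w χ, hg]) γk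
    have h1 : γT' = γT := by
      have r1 := hγT'.trans hγk
      rw [c.w χ] at r1
      exact r1.unique h𝒴 hγT
    have h2 := hγT'.comp hek
    have h3 : (⟨γT'.1 ≫ δ.1, γT'.2.comp δ.2⟩ : VHom v y (c.π.app i ≫ h) g) = β := by
      refine Subtype.ext ?_
      rw [h1]
      change γT.1 ≫ (γT.inv h𝒴).1 ≫ β.1 = β.1
      rw [← Category.assoc, γT.comp_inv h𝒴, Category.id_comp]
    rw [h3] at h2
    have hπ : c.π.app k ≫ D.map χ ≫ D.map ψ ≫ h = c.π.app i ≫ h := by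
      rw [← Category.assoc, c.w χ, ← Category.assoc, c.w ψ]
    let rres : Sec a (Over.mk (c.π.app i ≫ h)) :=
      ⟨(AlgSp.yon S).map (c.π.app k) ≫ rk'.1, by
        rw [Category.assoc, rk'.2, ← Functor.map_comp]
        exact congrArg _ hπ⟩
    have h4 := hnat (c.π.app k) _ _ rk' rres hπ rfl
    rw [hrk'] at h4
    obtain ⟨g', β', hgβ'⟩ : ∃ g' β', ev _ rres = ⟨g', β'⟩ := ⟨_, _, rfl⟩
    rw [hgβ'] at h4
    obtain rfl : g' = g := h4.right_eq.symm.trans h2.right_eq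
    have h5 : β' = β := h4.unique h𝒴 h2
    exact congrArg Subtype.val ((hev _).1 (hgβ'.trans (by rw [h5, hgβ])) : rres = ⟨r, _⟩)
  · refine rk'.2.trans ?_
    rw [← Functor.map_comp]
    exact congrArg _ heq

theorem repByAlgSpWith_lfp_of_corr (h𝒳 : IsFibGrpd 𝒳.p)
    (h𝒴 : AlgSt.IsAlgStack Scheme.fppfPrecoverage 𝒴)
    (h𝒴i : AlgSt.RepByAlgSpWith (AlgSp.LocP @LocallyOfFinitePresentation) (inertiaToBase (toSelf 𝒴)))
    (φ : IsoNat.FIso 𝒳 𝒴) {x : overCat U ⥤ᵇ 𝒳} {y : overCat U ⥤ᵇ 𝒴}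
    (hxy : φ.toEquiv U (IsoNat.cls (vfib x (overTop U))) = IsoNat.cls (vfib y (overTop U)))
    (hx : AlgSt.RepByAlgSpWith (AlgSp.LocP @LocallyOfFinitePresentation) x) :
    AlgSt.RepByAlgSpWith (AlgSp.LocP @LocallyOfFinitePresentation) y := fun W v => by
  obtain ⟨F, e, he⟩ := repByAlgSp1_chart h𝒴 y W v
  exact ⟨F, e, he, locP_lfp_of_corr h𝒳 h𝒴.isStack.1 h𝒴i φ hxy hx v F e he⟩

/-- The base change of a chart to a smooth chart is smooth when the corresponding chart is so. -/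
theorem locP_smooth_of_corr (h𝒳 : IsFibGrpd 𝒳.p) (h𝒴 : IsFibGrpd 𝒴.p) (φ : IsoNat.FIso 𝒳 𝒴)
    {x : overCat U ⥤ᵇ 𝒳} {y : overCat U ⥤ᵇ 𝒴}
    (hxy : φ.toEquiv U (IsoNat.cls (vfib x (overTop U))) = IsoNat.cls (vfib y (overTop U)))
    (hx : AlgSt.RepByAlgSpWith (AlgSp.LocP @Smooth) x) {v : overCat V ⥤ᵇ 𝒴}
    (hv : AlgSt.RepByAlgSpWith (AlgSp.LocP @Smooth) v)
    (F : AlgSp.Space S) (e : AlgSt.ofSp F.obj ⥤ᵇ fp v y) (he : IsEquivOver e)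
    (hlfp : AlgSp.LocP @LocallyOfFinitePresentation
      (AlgSt.spMapOfOver (BasedFunctor.comp e (fpFst v y)))) :
    AlgSp.LocP @Smooth (AlgSt.spMapOfOver (BasedFunctor.comp e (fpFst v y))) := by
  let a := AlgSt.spMapOfOver (BasedFunctor.comp e (fpFst v y))
  obtain ⟨ev, hev, hnat⟩ := exists_pairDict h𝒴 v y F e he
  refine ((Groth.Agent.S10629.result (X := F) (Y := ⟨(AlgSp.yon S).obj V, isAlgSpace_yon V⟩) ⟨a⟩).2
    ⟨hlfp, ?_⟩)
  obtain ⟨U', a', ha, has⟩ := F.property.atlas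
  obtain ⟨h', hh'⟩ := (AlgSp.yon S).map_surjective (a' ≫ a)
  have w : a' ≫ a = (AlgSp.yon S).map h' ≫ 𝟙 _ := by rw [Category.comp_id, hh']
  refine Groth.Agent.AlgSp.SmoothCharts.formallySmooth_of_chart (f := a) a' (𝟙 _) h' ha has
    (AlgSp.repWith_id _ _) w ?_
  obtain ⟨g', β', hgβ'⟩ : ∃ g' β', ev h' ⟨a', hh'.symm⟩ = ⟨g', β'⟩ := ⟨_, _, rfl⟩
  have hlfp' : LocallyOfFinitePresentation h'.left :=
    hlfp a' (𝟙 _) h' ha (AlgSp.repWith_id _ _) w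
  refine ((Groth.Agent.S1488.result h'.left).1 ?_).2
  rw [HasRingHomProperty.iff_exists_appLE (P := @Smooth)
    (RingHom.Smooth.stableUnderComposition.stableUnderCompositionWithLocalizationAway
      RingHom.Smooth.holdsForLocalizationAway).1]
  intro p
  obtain ⟨_, ⟨W, hW, rfl⟩, hpW, -⟩ := S.isBasis_affineOpens.exists_subset_of_mem_open
    (Set.mem_univ (U'.hom p)) isOpen_univ
  obtain ⟨_, ⟨OU, hOU, rfl⟩, hpOU, -⟩ := U.left.isBasis_affineOpens.exists_subset_of_mem_open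
    (Set.mem_univ (g'.left p)) isOpen_univ
  have hpWV : h'.left p ∈ V.hom ⁻¹ᵁ W := by
    change V.hom (h'.left p) ∈ W
    rw [← Scheme.Hom.comp_apply, Over.w h']
    exact hpW
  obtain ⟨_, ⟨V₁, hV₁, rfl⟩, hpV₁, hV₁W⟩ := V.left.isBasis_affineOpens.exists_subset_of_mem_open
    hpWV (V.hom ⁻¹ᵁ W).2
  obtain ⟨_, ⟨U₁, hU₁, rfl⟩, hpU₁, hU₁le⟩ := U'.left.isBasis_affineOpens.exists_subset_of_mem_open
    (show p ∈ h'.left ⁻¹ᵁ V₁ ⊓ g'.left ⁻¹ᵁ OU from ⟨hpV₁, hpOU⟩)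
    (h'.left ⁻¹ᵁ V₁ ⊓ g'.left ⁻¹ᵁ OU).2
  have hle : U₁ ≤ h'.left ⁻¹ᵁ V₁ := fun q hq => (hU₁le hq).1
  refine ⟨⟨V₁, hV₁⟩, ⟨U₁, hU₁⟩, hpU₁, hle, ?_⟩
  let ψ := h'.left.appLE V₁ U₁ hle
  change ψ.hom.Smooth
  have hfp : ψ.hom.FinitePresentation :=
    HasRingHomProperty.appLE @LocallyOfFinitePresentation h'.left hlfp' ⟨V₁, hV₁⟩ ⟨U₁, hU₁⟩ hle
  algebraize [ψ.hom]
  refine (RingHom.smooth_algebraMap).2 ⟨Algebra.FormallySmooth.iff_comp_surjective.2 ?_, ?_⟩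
  swap
  · assumption
  intro C _ _ J hJ f
  let α : Γ(V.left, V₁) ⟶ CommRingCat.of C := CommRingCat.ofHom (algebraMap _ C)
  let f₀ : Γ(U'.left, U₁) ⟶ CommRingCat.of (C ⧸ J) := CommRingCat.ofHom f.toRingHom
  have hf₀ : ψ ≫ f₀ = α ≫ CommRingCat.ofHom (Ideal.Quotient.mk J) := by
    ext r
    exact f.commutes r
  let hL : Spec (CommRingCat.of C) ⟶ V.left := Spec.map α ≫ hV₁.fromSpec
  have hLr : Set.range hL ⊆ (V₁ : Set V.left) := by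
    rintro _ ⟨q, rfl⟩
    rw [← hV₁.range_fromSpec]
    exact ⟨_, rfl⟩
  let D : Thick S :=
    { A := C
      I := J
      sq_zero := hJ
      str := hL ≫ V.hom
      W := W
      hW := hW
      hr := by
        rintro _ ⟨q, rfl⟩
        exact hV₁W (hLr ⟨q, rfl⟩) }
  let hT : D.T ⟶ V := Over.homMk hL rfl
  let uL : Spec (CommRingCat.of (C ⧸ J)) ⟶ U'.left := Spec.map f₀ ≫ hU₁.fromSpec
  have huh : uL ≫ h'.left = Spec.map (CommRingCat.ofHom (Ideal.Quotient.mk J)) ≫ hL := by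
    rw [Category.assoc, ← IsAffineOpen.SpecMap_appLE_fromSpec h'.left hV₁ hU₁ hle, ← Category.assoc,
      ← Spec.map_comp, hf₀, Spec.map_comp, Category.assoc]
  let u : D.T₀ ⟶ U' := Over.homMk uL (by
    rw [← Over.w h', ← Category.assoc, huh, Category.assoc]
    rfl)
  have hu : u ≫ h' = D.j ≫ hT := Over.OverMorphism.ext huh
  have hur : Set.range u.left ⊆ (U₁ : Set U'.left) := by
    rintro _ ⟨q, rfl⟩
    rw [← hU₁.range_fromSpec]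
    exact ⟨_, rfl⟩
  obtain ⟨β₀, hβ₀⟩ := exists_isRes h𝒴 u hu rfl β'
  obtain ⟨g, β, -, hres⟩ := exists_lift_pair h𝒳 h𝒴 φ hxy hx hv D hT (u ≫ g') β₀ hOU
    (by rintro _ ⟨q, rfl⟩; exact (hU₁le (hur ⟨q, rfl⟩)).2) hV₁
    (by rintro _ ⟨q, rfl⟩; exact hLr ⟨_, rfl⟩)
  obtain ⟨r, hr⟩ := (hev hT).2 ⟨g, β⟩
  -- the two sections over the closed part agree
  have hsec : (AlgSp.yon S).map u ≫ a' = (AlgSp.yon S).map D.j ≫ r.1 := by
    let r₁ : Sec a (Over.mk (D.j ≫ hT)) := ⟨(AlgSp.yon S).map u ≫ a', by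
      rw [Category.assoc, ← hh', ← Functor.map_comp, hu]; rfl⟩
    let r₂ : Sec a (Over.mk (D.j ≫ hT)) := ⟨(AlgSp.yon S).map D.j ≫ r.1, by
      rw [Category.assoc, r.2, ← Functor.map_comp]; rfl⟩
    have e1 := hnat u h' (D.j ≫ hT) ⟨a', hh'.symm⟩ r₁ hu rfl
    have e2 := hnat D.j hT (D.j ≫ hT) r r₂ rfl rfl
    rw [hgβ'] at e1
    rw [hr] at e2
    obtain ⟨g₁, β₁, h1⟩ : ∃ g₁ β₁, ev _ r₁ = ⟨g₁, β₁⟩ := ⟨_, _, rfl⟩
    obtain ⟨g₂, β₂, h2⟩ : ∃ g₂ β₂, ev _ r₂ = ⟨g₂, β₂⟩ := ⟨_, _, rfl⟩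
    rw [h1] at e1
    rw [h2] at e2
    obtain rfl : u ≫ g' = g₁ := e1.right_eq
    obtain rfl : u ≫ g' = g₂ := hres.right_eq.symm.trans e2.right_eq
    exact congrArg Subtype.val ((hev _).1 (h1.trans ((congrArg (Sigma.mk (u ≫ g'))
      ((e1.unique h𝒴 hβ₀).trans (hres.unique h𝒴 e2))).trans h2.symm)) : r₁ = r₂)
  obtain ⟨l, ⟨hl₁, hl₂⟩, -⟩ := Groth.Agent.AlgSp.InfEtale.formallyEtale_of_repWith_etale ha
    { A := D.A, I := D.I, sq_zero := D.sq_zero, str := D.str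
      top := (AlgSp.yon S).map u, bot := r.1, comm := hsec }
  obtain ⟨lh, rfl⟩ : ∃ lh : D.T ⟶ U', (AlgSp.yon S).map lh = l := (AlgSp.yon S).map_surjective l
  have hl₁' : D.j ≫ lh = u := (AlgSp.yon S).map_injective (by rw [Functor.map_comp]; exact hl₁)
  have hl₂b : (AlgSp.yon S).map lh ≫ a' = r.1 := hl₂
  have hl₂' : lh ≫ h' = hT := by
    apply (AlgSp.yon S).map_injective
    rw [Functor.map_comp, hh', ← Category.assoc, hl₂b]
    exact r.2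
  have hlr : Set.range lh.left ⊆ (U₁ : Set U'.left) :=
    D.range_subset lh.left (by
      rw [show Spec.map (CommRingCat.ofHom (Ideal.Quotient.mk D.I)) ≫ lh.left = u.left from
        congrArg Over.Hom.left hl₁']
      exact hur)
  obtain ⟨χ, hχ⟩ := Spec.map_surjective
    (IsOpenImmersion.lift hU₁.fromSpec lh.left (by rwa [hU₁.range_fromSpec]))
  have hχ' : Spec.map χ ≫ hU₁.fromSpec = lh.left := by rw [hχ, IsOpenImmersion.lift_fac]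
  have hχ₁ : ψ ≫ χ = α := by
    apply Spec.map_injective
    rw [Spec.map_comp, ← cancel_mono hV₁.fromSpec, Category.assoc,
      IsAffineOpen.SpecMap_appLE_fromSpec h'.left hV₁ hU₁ hle, ← Category.assoc, hχ']
    exact congrArg Over.Hom.left hl₂'
  have hχ₂ : χ ≫ CommRingCat.ofHom (Ideal.Quotient.mk J) = f₀ := by
    apply Spec.map_injective
    rw [Spec.map_comp, ← cancel_mono hU₁.fromSpec, Category.assoc, hχ']
    exact congrArg Over.Hom.left hl₁'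
  refine ⟨⟨χ.hom, fun r => congrArg (fun k : _ ⟶ CommRingCat.of C => k r) hχ₁⟩, AlgHom.ext fun b => ?_⟩
  exact congrArg (fun k : _ ⟶ CommRingCat.of (C ⧸ J) => k b) hχ₂

/-- A property local on the base holds for a chart as soon as it holds after base change to an atlas. -/
theorem repByAlgSpWith_of_atlas {P : MorphismProperty (AlgSp.Sp S)} (hPb : StableBC P)
    (hP : AlgSp.IsLocalOnBase AlgSp.IsFppfCover P) (h𝒴 : AlgSt.IsAlgStack Scheme.fppfPrecoverage 𝒴)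
    (y : overCat U ⥤ᵇ 𝒴) {v : overCat V ⥤ᵇ 𝒴} (hv : AlgSt.RepByAlgSpWith (AlgSp.LocP @Smooth) v)
    (hvs : AlgSt.RepByAlgSpWith AlgSp.IsSurjectiveMor v)
    (H : ∀ (F : AlgSp.Space S) (e : AlgSt.ofSp F.obj ⥤ᵇ fp v y), IsEquivOver e →
      P (AlgSt.spMapOfOver (BasedFunctor.comp e (fpFst v y)))) :
    AlgSt.RepByAlgSpWith P y := by
  refine (repByAlgSpWith_iff_fpFst_cover hPb hP h𝒴.isStack.1 (isFibGrpd_overCat V)
    (repByAlgSp1_chart h𝒴 y) (repByAlgSpWith_flat_of_smooth hv)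
    (repByAlgSpWith_lfp_of_smooth hv) hvs).2 ?_
  obtain ⟨F, e, he⟩ := repByAlgSp1_chart h𝒴 y V v
  obtain ⟨i⟩ := exists_iso_ofSpMap_toOverCat (A := F.obj) (BasedFunctor.comp e (fpFst v y))
  exact (repByAlgSpWith_iff_of_equiv P e (AlgSt.toOverCat V) he (toOverCat_isEquivOver V)
    (f := fpFst v y) i).2
      (repByAlgSpWith_ofSpMap hPb F.property (isAlgSpace_yon V) _ (H F e he))

theorem repByAlgSpWith_smooth_of_corr (h𝒳 : IsFibGrpd 𝒳.p)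
    (h𝒴 : AlgSt.IsAlgStack Scheme.fppfPrecoverage 𝒴)
    (h𝒴i : AlgSt.RepByAlgSpWith (AlgSp.LocP @LocallyOfFinitePresentation) (inertiaToBase (toSelf 𝒴)))
    (φ : IsoNat.FIso 𝒳 𝒴) {x : overCat U ⥤ᵇ 𝒳} {y : overCat U ⥤ᵇ 𝒴}
    (hxy : φ.toEquiv U (IsoNat.cls (vfib x (overTop U))) = IsoNat.cls (vfib y (overTop U)))
    (hx : AlgSt.RepByAlgSpWith (AlgSp.LocP @Smooth) x) :
    AlgSt.RepByAlgSpWith (AlgSp.LocP @Smooth) y := by
  obtain ⟨V, v, hv, hvs⟩ := h𝒴.atlas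
  refine repByAlgSpWith_of_atlas good_smooth.bc
    (fppfLocal_of_fpqc (Groth.Agent.AlgSpCov.isLocalOnBase_locP
      Groth.Agent.AlgSpCov.standard_smooth.etaleLocal)) h𝒴 y hv hvs fun F e he => ?_
  exact locP_smooth_of_corr h𝒳 h𝒴.isStack.1 φ hxy hx hv F e he
    (locP_lfp_of_corr h𝒳 h𝒴.isStack.1 h𝒴i φ hxy (repByAlgSpWith_lfp_of_smooth hx) v F e he)

end Groth.Agent.IsoCls
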