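import Groth.Agent.IsoCls.TransferOfVMap
import Groth.Agent.IsoCls.AutLocus
import Groth.Agent.IsoCls.SmoothChart
import Groth.Agent.AlgSp.DenseFlat

/-!
Rigidity of charts with dense clean locus, and covering by charts.
-/

set_option autoImplicit false
set_option linter.unusedVariables false
set_option backward.isDefEq.respectTransparency false
set_option backward.isDefEq.respectTransparency.types false

universe u

open CategoryTheory CategoryTheory.Limits AlgebraicGeometry Opposite FibCat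
open CategoryTheory.Functor Groth.Agent.FibC

namespace Groth.Agent.IsoCls

open Groth.Agent.StFib

variable {S : Scheme.{u}} {𝒴 : AlgSt.Cat S} {U : Over S} {y : overCat U ⥤ᵇ 𝒴}

/-- A schematically dense open is scheme-theoretically dominant. -/
theorem isSchemeTheoreticallyDominant_ι {X : Scheme.{u}} (V : X.Opens)
    (hV : CInt.IsSchematicallyDense V) : IsSchemeTheoreticallyDominant V.ι := by
  refine ⟨le_bot_iff.1 fun W => ?_⟩
  intro s hs
  have h1 : V.ι.app W.1 s = 0 := V.ι.ideal_ker_le W hs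
  rw [Scheme.IdealSheafData.ideal_bot, Pi.bot_apply, Ideal.mem_bot]
  apply hV W.1
  rw [map_zero]
  rw [Scheme.Opens.ι_app] at h1
  have h2 : (W.1 : X.Opens) ⊓ V ≤ V.ι ''ᵁ V.ι ⁻¹ᵁ W.1 := by
    rw [V.ι.image_preimage_eq_opensRange_inf, Scheme.Opens.opensRange_ι, inf_comm]
  have h3 := congrArg (X.presheaf.map (homOfLE h2).op) h1
  rw [map_zero] at h3
  change X.presheaf.map _ s = 0
  rw [← h3]
  change _ = (X.presheaf.map _ ≫ X.presheaf.map _) s
  rw [← Functor.map_comp]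
  rfl

/-- A chart whose clean locus is an open schematically dense part is rigid. -/
theorem rigid_of_clean (h𝒴 : IsFibGrpd 𝒴.p)
    (hd : AlgSt.RepByAlgSpWith (AlgSp.RepWith @IsClosedImmersion) (diag (diag (toSelf 𝒴))))
    (V : U.left.Opens)
    (hclean : ∀ (T : Over S) (g : T ⟶ U),
      (∃ g' : T.left ⟶ ↑V, g' ≫ V.ι = g.left) ↔ IsoNat.IsClean (y.obj (Over.mk g)))
    (hV : CInt.IsSchematicallyDense V) : Rigid y := by
  intro T h g _ _ β β'
  let O : T.left.Opens := h.left ⁻¹ᵁ V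
  have hO : CInt.IsSchematicallyDense O := Groth.Agent.AlgSp.DenseFlat.preimage h.left V hV
  let T₀ : Over S := Over.mk (O.ι ≫ T.hom)
  let j : T₀ ⟶ T := Over.homMk O.ι rfl
  have : IsSchemeTheoreticallyDominant j.left := isSchemeTheoreticallyDominant_ι O hO
  obtain ⟨b, hb⟩ := exists_isRes h𝒴 j (rfl : j ≫ h = _) (rfl : j ≫ g = _) β
  obtain ⟨b', hb'⟩ := exists_isRes h𝒴 j (rfl : j ≫ h = _) (rfl : j ≫ g = _) β'
  have hcl : IsoNat.IsClean (y.obj (Over.mk (j ≫ h))) :=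
    (hclean T₀ (j ≫ h)).1 ⟨h.left ∣_ V, morphismRestrict_ι _ _⟩
  have he : b = b' := by
    let φ : y.obj (Over.mk (j ≫ h)) ⟶ y.obj (Over.mk (j ≫ h)) := b.1 ≫ (b'.inv h𝒴).1
    have hφ : StFib.Vert φ := b.2.comp (b'.inv h𝒴).2
    have h1 : φ = 𝟙 _ := hcl _ (𝟙 _) φ (by obtain ⟨_, e⟩ := hφ; simpa using e)
    refine Subtype.ext ?_
    calc b.1 = φ ≫ b'.1 := by
          change _ = (b.1 ≫ (b'.inv h𝒴).1) ≫ b'.1
          rw [Category.assoc, VHom.inv_comp, Category.comp_id]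
      _ = b'.1 := by rw [h1, Category.id_comp]
  subst he
  obtain ⟨p, q, hp, hq, e⟩ := hb
  obtain ⟨p', q', hp', hq', e'⟩ := hb'
  obtain rfl : p' = p := over_mk_ext (hp'.trans hp.symm)
  obtain rfl : q' = q := over_mk_ext (hq'.trans hq.symm)
  refine Subtype.ext (hom_eq_of_dense h𝒴 hd (𝟙 T) β.1 β'.1 (β.2.isHomLift (y.w_obj _))
    (β'.2.isHomLift (y.w_obj _)) j (y.map p') (lift_congr hp' (map_lift y p')) (e.symm.trans e'))

/-- Every object is locally a value of a smooth surjective chart. -/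
theorem imSieve_mem (h𝒴 : IsFibGrpd 𝒴.p) (hy : AlgSt.RepByAlgSpWith (AlgSp.LocP @Smooth) y)
    (hys : AlgSt.RepByAlgSpWith AlgSp.IsSurjectiveMor y) (η : 𝒴.obj) :
    imSieve y η ∈ AlgSp.J S (𝒴.p.obj η) := by
  let T := 𝒴.p.obj η
  obtain ⟨t, i, hi⟩ := exists_overLift_fibGrpd h𝒴 η rfl
  obtain ⟨F, e, he, hsm⟩ := hy T t
  have hsur := mem_of_rep_chart StFib.good_surjective.bc StFib.good_surjective.det hys t F e he
  obtain ⟨ev, hev, -⟩ := exists_pairDict h𝒴 t y F e he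
  let a := AlgSt.spMapOfOver (BasedFunctor.comp e (fpFst t y))
  obtain ⟨W, a', ha, has⟩ := F.property.atlas
  obtain ⟨h, hh⟩ := (AlgSp.yon S).map_surjective (a' ≫ a)
  have : Smooth h.left :=
    hsm a' (𝟙 _) h ha (AlgSp.repWith_id _ _) (by rw [Category.comp_id, hh])
  have : Surjective h.left := by
    refine ⟨(Groth.Agent.AlgSp.surjective_map_iff_of_schemes h).1 ?_⟩
    intro p
    obtain ⟨q, hq⟩ := hsur p
    obtain ⟨r, hr⟩ := (Groth.Agent.AlgSp.repWith_surjective_iff a' ha.1).1 has q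
    refine ⟨r, ?_⟩
    rw [hh, AlgSp.Points.map_comp, hr, hq]
  obtain ⟨g, β, hgβ⟩ : ∃ g β, ev h ⟨a', hh.symm⟩ = ⟨g, β⟩ := ⟨_, _, rfl⟩
  refine Groth.Agent.AlgSp.mem_of_fppf h ?_
  refine ⟨Over.mk g, (β.inv h𝒴).1 ≫ t.map (toTop (Over.mk h)) ≫ i.hom, ?_⟩
  have h1 : 𝒴.p.IsHomLift (𝟙 W) (β.inv h𝒴).1 := (β.inv h𝒴).2.isHomLift (y.w_obj _)
  have h2 : 𝒴.p.IsHomLift h (t.map (toTop (Over.mk h))) := map_lift t (toTop (Over.mk h))
  simpa using lift_comp h1 (lift_comp h2 hi)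

end Groth.Agent.IsoCls
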