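import Groth.Agent.IsoCls.Abelian
import Groth.Agent.StFib.Compact
import Groth.Agent.StFib.SpPoints
import Groth.Agent.StFib.DescBase
import Groth.Agent.StFib.RepPoints
import Groth.Agent.AlgSp.QCMor

/-!
Quasi-compactness is detected by isomorphism classes.
-/

set_option autoImplicit false
set_option backward.isDefEq.respectTransparency false
set_option backward.isDefEq.respectTransparency.types false

universe u

open CategoryTheory CategoryTheory.Limits AlgebraicGeometry FibCat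
open CategoryTheory.Functor Groth.Agent.FibC

namespace Groth.Agent.IsoCls

variable {S : Scheme.{u}} {𝒳 𝒴 𝒵 𝒳' 𝒴' : AlgSt.Cat S}

/-- A chart corresponds to a chart. -/
theorem exists_corr_chart (h𝒴 : IsFibGrpd 𝒴.p) (φ : IsoNat.FIso 𝒳 𝒴) {U : Over S}
    (x : overCat U ⥤ᵇ 𝒳) : ∃ y : overCat U ⥤ᵇ 𝒴,
      φ.toEquiv U (IsoNat.cls (vfib x (overTop U))) = IsoNat.cls (vfib y (overTop U)) := by
  let c := (φ.toEquiv U (IsoNat.cls (vfib x (overTop U)))).out
  obtain ⟨y, e, he⟩ := exists_overLift_fibGrpd h𝒴 c.1 c.2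
  obtain ⟨i⟩ := fiber_iso_of_hom h𝒴 (x := vfib y (overTop U)) (y := c) e.hom he
  exact ⟨y, (Quotient.out_eq _).symm.trans
    (Quotient.sound (show Nonempty (c ≅ vfib y (overTop U)) from ⟨i.symm⟩))⟩

/-- Corresponding charts have corresponding values. -/
theorem corr_chart_obj (h𝒴 : IsFibGrpd 𝒴.p) (φ : IsoNat.FIso 𝒳 𝒴) {U : Over S}
    (x : overCat U ⥤ᵇ 𝒳) (y : overCat U ⥤ᵇ 𝒴)
    (h : φ.toEquiv U (IsoNat.cls (vfib x (overTop U))) = IsoNat.cls (vfib y (overTop U)))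
    (b : (overCat U).obj) :
    φ.toEquiv (Over.left b) (IsoNat.cls (vfib x b)) = IsoNat.cls (vfib y b) :=
  toEquiv_eq_of_lifts h𝒴 φ (toTop b).left (x' := vfib x b) (x := vfib x (overTop U))
    (y' := vfib y b) (y := vfib y (overTop U)) (x.map (toTop b)) (y.map (toTop b))
    (map_lift x (toTop b)) (map_lift y (toTop b)) h

/-- Corresponding charts give corresponding points. -/
theorem points_ofChart (h𝒴 : IsFibGrpd 𝒴.p) (φ : IsoNat.FIso 𝒳 𝒴) {U : Over S}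
    (x : overCat U ⥤ᵇ 𝒳) (y : overCat U ⥤ᵇ 𝒴)
    (h : φ.toEquiv U (IsoNat.cls (vfib x (overTop U))) = IsoNat.cls (vfib y (overTop U)))
    (t : U.left) : points φ (AlgSt.Points.ofChart x t) = AlgSt.Points.ofChart y t := by
  let a : (overCat U).obj := Over.mk (Over.homMk (U.left.fromSpecResidueField t) rfl :
    Over.mk (U.left.fromSpecResidueField t ≫ U.hom) ⟶ U)
  exact mk_eq_of_iso (x := (φ.toEquiv (Over.left a) (IsoNat.cls (vfib x a))).out)
    (y := vfib y a) (iso_of_cls_eq ((Quotient.out_eq _).trans (corr_chart_obj h𝒴 φ x y h a)))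

theorem isQuasiCompact_of_fIso (h𝒳 : AlgSt.IsAlgStack Scheme.fppfPrecoverage 𝒳)
    (h𝒴 : AlgSt.IsAlgStack Scheme.fppfPrecoverage 𝒴) (φ : IsoNat.FIso 𝒳 𝒴)
    (hqc : AlgSt.IsQuasiCompact 𝒳) : AlgSt.IsQuasiCompact 𝒴 := by
  obtain ⟨U, x, hU, -, hxs⟩ := hqc
  obtain ⟨y, hy⟩ := exists_corr_chart h𝒴.isStack.1 φ x
  have hsurj : Function.Surjective (AlgSt.Points.ofChart y) := fun q => by
    obtain ⟨p, rfl⟩ := points_surjective φ q
    obtain ⟨t, rfl⟩ := StFib.ofChart_surjective h𝒳.isStack.1 hxs p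
    exact ⟨t, (points_ofChart h𝒴.isStack.1 φ x y hy t).symm⟩
  have := hsurj.compactSpace (StFib.continuous_ofChart h𝒴 y)
  exact StFib.isQuasiCompact_of_compactSpace h𝒴

/-- An affine scheme is quasi-compact as a stack. -/
theorem isQuasiCompact_overCat (V : Over S) [IsAffine V.left] :
    AlgSt.IsQuasiCompact (overCat V) := by
  have h := StFib.isAlgStack_of_repByAlgSp (StFib.repByAlgSp_overCat V)
  have := StFib.ofChart_id_surjective (U := V)
  have := this.compactSpace (StFib.continuous_ofChart h (BasedFunctor.id (overCat V)))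
  exact StFib.isQuasiCompact_of_compactSpace h

/-- Base change to a chart is surjective on points. -/
theorem compactSpace_fp_of_chart (h𝒵 : AlgSt.IsAlgStack Scheme.fppfPrecoverage 𝒵)
    (h𝒳 : AlgSt.IsAlgStack Scheme.fppfPrecoverage 𝒳) (h𝒴 : AlgSt.IsAlgStack Scheme.fppfPrecoverage 𝒴)
    (g : 𝒵 ⥤ᵇ 𝒴) (f : 𝒳 ⥤ᵇ 𝒴) {V : Over S} (z : overCat V ⥤ᵇ 𝒵)
    (hz : AlgSt.RepByAlgSpWith AlgSp.IsSurjectiveMor z)
    [CompactSpace (AlgSt.Points (fp (BasedFunctor.comp z g) f))] :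
    CompactSpace (AlgSt.Points (fp g f)) := by
  have hV := StFib.isAlgStack_of_repByAlgSp (StFib.repByAlgSp_overCat V)
  have hzs : AlgSt.IsSurjective z := by
    intro p
    obtain ⟨t, rfl⟩ := StFib.ofChart_surjective h𝒵.isStack.1 hz p
    exact ⟨_, (StFib.ofChart_eq_map z t).symm⟩
  have hW : IsFibGrpd (fp g f).p :=
    StFib.isFibGrpd_fp h𝒵.isStack.1 h𝒳.isStack.1 h𝒴.isStack.1 g f
  let M : fp (BasedFunctor.comp z g) f ⥤ᵇ fp g f :=
    fpLift (BasedFunctor.comp (fpFst (BasedFunctor.comp z g) f) z) (fpSnd (BasedFunctor.comp z g) f)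
      (fpIso (BasedFunctor.comp z g) f)
  have hM : Function.Surjective (AlgSt.Points.map M) := by
    intro P
    obtain ⟨Q, hQ⟩ := StFib.isSurjective_fpFst hV.isStack.1 hW h𝒵.isStack.1 z (fpFst g f) hzs P
    let N : fp (fpFst g f) z ⥤ᵇ fp (BasedFunctor.comp z g) f :=
      fpLift (fpSnd (fpFst g f) z) (BasedFunctor.comp (fpFst (fpFst g f) z) (fpSnd g f))
        (StFib.isoWhiskerRight (fpIso (fpFst g f) z).symm g ≪≫
          StFib.isoWhiskerLeft (fpFst (fpFst g f) z) (fpIso g f))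
    let ν : BasedFunctor.comp N M ≅ fpFst (fpFst g f) z :=
      StFib.isoMk (F := BasedFunctor.comp N M) (G := fpFst (fpFst g f) z)
        (fun k => StFib.fpIsoMk k.obj.iso.symm (Iso.refl _) (by
          change g.map k.obj.iso.inv ≫ k.obj.fst.obj.iso.hom =
            (g.map k.obj.iso.inv ≫ k.obj.fst.obj.iso.hom) ≫ f.map (𝟙 _)
          rw [CategoryTheory.Functor.map_id, Category.comp_id]))
        (fun k => StFib.vert_fp_iff.2 (StFib.vert_fp_iso k).inv)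
        (fun {k k'} m => StFib.fp_hom_ext
          (show z.map m.hom.snd ≫ k'.obj.iso.inv = k.obj.iso.inv ≫ m.hom.fst.hom.fst by
            rw [Iso.comp_inv_eq, Category.assoc, Iso.eq_inv_comp]
            exact m.hom.w.symm)
          ((Category.comp_id m.hom.fst.hom.snd).trans (Category.id_comp m.hom.fst.hom.snd).symm))
    refine ⟨AlgSt.Points.map N Q, ?_⟩
    rw [← hQ, ← StFib.points_map_congr ν, StFib.points_map_comp]
    rfl
  exact hM.compactSpace (StFib.continuous_points_map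
    (StFib.isAlgStack_fp h𝒴.isStack h𝒴.diag h𝒵 h𝒳 g f) M)

/-- The base change of a morphism with corresponding classes to a chart is compact on points. -/
theorem compactSpace_fp_of_fIsoSq (h𝒳' : AlgSt.IsAlgStack Scheme.fppfPrecoverage 𝒳')
    (h𝒴' : AlgSt.IsAlgStack Scheme.fppfPrecoverage 𝒴')
    (h𝒴'd : AlgSt.RepByAlgSpWith AlgSp.IsQuasiCompactMor (diag (toSelf 𝒴')))
    (h𝒳 : AlgSt.IsAlgStack Scheme.fppfPrecoverage 𝒳) (h𝒴 : AlgSt.IsAlgStack Scheme.fppfPrecoverage 𝒴)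
    (f : 𝒳 ⥤ᵇ 𝒴) (f' : 𝒳' ⥤ᵇ 𝒴') (φ : IsoNat.FIsoSq f f')
    (hf : AlgSt.IsQuasiCompactMor Scheme.fppfPrecoverage f) {V : Over S} [IsAffine V.left]
    (v' : overCat V ⥤ᵇ 𝒴') : CompactSpace (AlgSt.Points (fp v' f')) := by
  have hgX := h𝒳.isStack.1
  have hgY := h𝒴.isStack.1
  have hgX' := h𝒳'.isStack.1
  have hgY' := h𝒴'.isStack.1
  have hV := StFib.isAlgStack_of_repByAlgSp (StFib.repByAlgSp_overCat V)
  obtain ⟨v, hv₀⟩ := exists_corr_chart hgY (fisoSymm hgY hgY' φ.tgt) v'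
  have hv : φ.tgt.toEquiv V (IsoNat.cls (vfib v (overTop V))) = IsoNat.cls (vfib v' (overTop V)) :=
    ((Equiv.symm_apply_eq _).1 hv₀).symm
  obtain ⟨U, u, hU, -, hus⟩ := hf (overCat V) hV (isQuasiCompact_overCat V) v
  obtain ⟨a, ⟨ia⟩⟩ := StFib.exists_iso_overMap (BasedFunctor.comp u (fpFst v f))
  let uX := BasedFunctor.comp u (fpSnd v f)
  obtain ⟨u', hu'⟩ := exists_corr_chart hgX' φ.src uX
  let e₀ : BasedFunctor.comp (AlgSt.overMap a) v ≅ BasedFunctor.comp uX f :=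
    StFib.isoWhiskerRight ia.symm v ≪≫ StFib.isoWhiskerLeft u (fpIso v f)
  let w' := BasedFunctor.comp (AlgSt.overMap a) v'
  obtain ⟨θ₁⟩ : Nonempty (vfib w' (overTop U) ≅ (IsoNat.fibFun f' U).obj (vfib u' (overTop U))) := by
    refine iso_of_cls_eq ?_
    have h1 : φ.tgt.toEquiv U (IsoNat.cls (vfib (BasedFunctor.comp (AlgSt.overMap a) v) (overTop U))) =
        IsoNat.cls (vfib w' (overTop U)) :=
      corr_chart_obj hgY' φ.tgt v v' hv ((AlgSt.overMap a).obj (overTop U))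
    obtain ⟨j⟩ := fiber_iso_of_hom hgY (x := vfib (BasedFunctor.comp (AlgSt.overMap a) v) (overTop U))
      (y := (IsoNat.fibFun f U).obj (vfib uX (overTop U))) (StFib.isoApp e₀ (overTop U)).hom
      (BasedNatTrans.app_isHomLift e₀.hom (overTop U))
    rw [← h1, show IsoNat.cls (vfib (BasedFunctor.comp (AlgSt.overMap a) v) (overTop U)) =
      IsoNat.cls ((IsoNat.fibFun f U).obj (vfib uX (overTop U))) from Quotient.sound ⟨j⟩]
    have h2 := φ.comm U (IsoNat.cls (vfib uX (overTop U)))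
    rw [hu'] at h2
    exact h2
  obtain ⟨θ, -⟩ := yoneda_iso (G := w') (H := BasedFunctor.comp u' f') (preserves_overCat hgY' _)
    (preserves_overCat hgY' _)
    ⟨θ₁.hom.1, θ₁.inv.1, congrArg Subtype.val θ₁.hom_inv_id, congrArg Subtype.val θ₁.inv_hom_id⟩
    θ₁.hom.2
  -- automorphisms of `w'`
  let y₂ : overCat U ⥤ᵇ fp (toSelf 𝒴') (toSelf 𝒴') := fpLift w' w' (Iso.refl _)
  obtain ⟨F, E, hE, hFqc⟩ := h𝒴'd U y₂
  let J := fp y₂ (diag (toSelf 𝒴'))
  let c₁ : BasedFunctor.comp (fpFst y₂ (diag (toSelf 𝒴'))) w' ≅ fpSnd y₂ (diag (toSelf 𝒴')) :=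
    StFib.isoWhiskerRight (fpIso y₂ (diag (toSelf 𝒴'))) (fpFst (toSelf 𝒴') (toSelf 𝒴'))
  let c₂ : BasedFunctor.comp (fpFst y₂ (diag (toSelf 𝒴'))) w' ≅ fpSnd y₂ (diag (toSelf 𝒴')) :=
    StFib.isoWhiskerRight (fpIso y₂ (diag (toSelf 𝒴'))) (fpSnd (toSelf 𝒴') (toSelf 𝒴'))
  let Ψ : J ⥤ᵇ fp v' f' :=
    fpLift (BasedFunctor.comp (fpFst y₂ (diag (toSelf 𝒴'))) (AlgSt.overMap a))
      (BasedFunctor.comp (fpFst y₂ (diag (toSelf 𝒴'))) u')
      ((c₁ ≪≫ c₂.symm) ≪≫ StFib.isoWhiskerLeft (fpFst y₂ (diag (toSelf 𝒴'))) θ)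
  have hFc : CompactSpace (AlgSp.Points F.obj) := by
    have := hFqc (AlgSp.IsAlgSpace.yon_obj U) (Groth.Agent.AlgSp.isQuasiCompactSp_yon U) (𝟙 _)
      (𝟙 _) (AlgSt.spMapOfOver (BasedFunctor.comp E (fpFst y₂ (diag (toSelf 𝒴')))))
      (IsPullback.of_horiz_isIso ⟨by simp⟩)
    exact Groth.Agent.AlgSp.compactSpace_points this
  have hFalg := StFib.isAlgStack_of_repByAlgSp (StFib.repByAlgSp_ofSp F.property)
  have : CompactSpace (AlgSt.Points (AlgSt.ofSp F.obj)) :=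
    (StFib.isHomeomorph_toSpPt F.property).homeomorph.symm.compactSpace
  have hfp := StFib.isAlgStack_fp h𝒴'.isStack h𝒴'.diag hV h𝒳' v' f'
  suffices hs : Function.Surjective (AlgSt.Points.map (BasedFunctor.comp E Ψ)) from
    hs.compactSpace (StFib.continuous_points_map hfp _)
  rw [StFib.points_map_comp]
  refine Function.Surjective.comp ?_ (StFib.points_bijective_of_isEquivOver hE).surjective
  intro P
  obtain ⟨p, rfl⟩ := AlgSt.Points.mk_surjective P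
  -- the corresponding point upstairs
  let T := Over.mk p.str
  let q : (overCat V).obj := p.obj.obj.fst
  have hq : Over.left q = T := p.lies
  let x'F : 𝒳'.p.Fiber T :=
    ⟨p.obj.obj.snd, (StFib.fp_base_eq p.obj).symm.trans p.lies⟩
  let qF : (overCat V).p.Fiber T := ⟨q, hq⟩
  let x := ((φ.src.toEquiv T).symm (IsoNat.cls x'F)).out
  have hx : φ.src.toEquiv T (IsoNat.cls x) = IsoNat.cls x'F := by
    rw [show IsoNat.cls x = _ from Quotient.out_eq _]
    exact Equiv.apply_symm_apply _ _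
  obtain ⟨k₁⟩ := fiber_iso_of_hom hgY' (x := (IsoNat.fibFun v' T).obj qF)
    (y := (IsoNat.fibFun f' T).obj x'F) p.obj.obj.iso.hom
    ((StFib.vert_fp_iso p.obj).isHomLift ((v'.w_obj _).trans p.lies))
  obtain ⟨i₁⟩ : Nonempty ((IsoNat.fibFun v T).obj qF ≅ (IsoNat.fibFun f T).obj x) := by
    refine iso_of_cls_eq ((φ.tgt.toEquiv T).injective ?_)
    have h1 : φ.tgt.toEquiv T (IsoNat.cls ((IsoNat.fibFun v T).obj qF)) =
        IsoNat.cls ((IsoNat.fibFun v' T).obj qF) :=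
      toEquiv_eq_of_lifts hgY' φ.tgt (eqToHom hq.symm ≫ (toTop q).left)
        (x' := (IsoNat.fibFun v T).obj qF) (x := vfib v (overTop V))
        (y' := (IsoNat.fibFun v' T).obj qF) (y := vfib v' (overTop V))
        (v.map (toTop q)) (v'.map (toTop q))
        (by
          have := map_lift v (toTop q)
          exact (IsHomLift.lift_eqToHom_comp_iff 𝒴.p _ _ hq.symm).2 this)
        (by
          have := map_lift v' (toTop q)
          exact (IsHomLift.lift_eqToHom_comp_iff 𝒴'.p _ _ hq.symm).2 this)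
        hv
    have h2 := φ.comm T (IsoNat.cls x)
    rw [hx] at h2
    rw [h1, show φ.tgt.toEquiv T (IsoNat.cls ((IsoNat.fibFun f T).obj x)) =
      IsoNat.cls ((IsoNat.fibFun f' T).obj x'F) from h2]
    exact Quotient.sound ⟨k₁⟩
  let pt : AlgSt.FPt (fp v f) :=
    { K := p.K
      str := p.str
      obj := StFib.fpMk q x.1 ⟨i₁.hom.1, i₁.inv.1, congrArg Subtype.val i₁.hom_inv_id,
        congrArg Subtype.val i₁.inv_hom_id⟩ (StFib.vert_of_isHomLift i₁.hom.2)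
      lies := hq }
  have hM : IsFibGrpd (fp v f).p := StFib.isFibGrpd_fp hV.isStack.1 hgX hgY v f
  obtain ⟨t, ht⟩ := StFib.ofChart_surjective hM hus (AlgSt.Points.mk pt)
  obtain ⟨r₀, hr₀⟩ := AlgSt.Points.mk_surjective
    (AlgSt.Points.ofChart (BasedFunctor.id (overCat U)) t)
  have hr : AlgSt.Points.map u (AlgSt.Points.mk r₀) = AlgSt.Points.map (BasedFunctor.id _)
      (AlgSt.Points.mk pt) := by
    rw [hr₀, ← StFib.ofChart_eq_map, ht, StFib.points_map_id]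
    rfl
  obtain ⟨Ω, _, w, r, pt', er, ept, -, ap, i, hi⟩ :=
    StFib.exists_vert_of_map_eq hM (StFib.isFibGrpd_overCat U) hM (BasedFunctor.id _) u r₀ pt hr
  -- restrict `p` to the larger field
  obtain ⟨p'', ep'', l, hl⟩ := StFib.exists_fpt_lift
    (StFib.isFibGrpd_fp hV.isStack.1 hgX' hgY' v' f') p w
    (StFib.fptBase (p := ⟨Ω, w, pt', ept⟩) (q := pt) ap)
  let d := StFib.fptBase (p := ⟨Ω, w, pt', ept⟩) (q := pt) ap
  have hd : (fp v f).p.IsHomLift d ap :=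
    IsHomLift.of_fac' _ d ap ept pt.lies (by simp [d, StFib.fptBase])
  have hl' : (fp v' f').p.IsHomLift d l :=
    IsHomLift.of_fac' _ d l ep'' p.lies (by rw [hl])
  -- first component
  have hlf : (overCat V).p.IsHomLift d l.hom.fst :=
    (BasedFunctor.isHomLift_iff (fpFst v' f') (f := d) (φ := l)).2 hl'
  have hif : (overCat V).p.IsHomLift d
      ((StFib.isoApp ia r).inv ≫ i.hom.hom.fst ≫ ap.hom.fst) := by
    have h1 : (overCat V).p.IsHomLift (𝟙 (Over.mk w)) (StFib.isoApp ia r).inv :=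
      (StFib.vert_isoApp_inv ia r).isHomLift er
    have h2 : (fp v f).p.IsHomLift (𝟙 (Over.mk w)) i.hom :=
      hi.isHomLift ((u.w_obj r).trans er)
    have h3 : (overCat V).p.IsHomLift (𝟙 (Over.mk w)) i.hom.hom.fst :=
      (BasedFunctor.isHomLift_iff (fpFst v f) (f := 𝟙 (Over.mk w)) (φ := i.hom)).2 h2
    have h4 : (overCat V).p.IsHomLift d ap.hom.fst :=
      (BasedFunctor.isHomLift_iff (fpFst v f) (f := d) (φ := ap)).2 hd
    infer_instance
  obtain ⟨γ, hγ, hγi, -⟩ := GalCohAux.GerbBasic.exists_fac hV.isStack.1 d l.hom.fst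
    ((StFib.isoApp ia r).inv ≫ i.hom.hom.fst ≫ ap.hom.fst)
  -- second component
  let rF : (overCat U).p.Fiber (Over.mk w) := ⟨r, er⟩
  let x''F : 𝒳'.p.Fiber (Over.mk w) :=
    ⟨p''.obj.snd, (StFib.fp_base_eq p'').symm.trans ep''⟩
  obtain ⟨β⟩ : Nonempty ((IsoNat.fibFun u' (Over.mk w)).obj rF ≅ x''F) := by
    refine iso_of_cls_eq ?_
    have h1 : φ.src.toEquiv (Over.mk w) (IsoNat.cls ((IsoNat.fibFun uX (Over.mk w)).obj rF)) =
        IsoNat.cls ((IsoNat.fibFun u' (Over.mk w)).obj rF) :=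
      toEquiv_eq_of_lifts hgX' φ.src (eqToHom er.symm ≫ (toTop r).left)
        (x' := (IsoNat.fibFun uX (Over.mk w)).obj rF) (x := vfib uX (overTop U))
        (y' := (IsoNat.fibFun u' (Over.mk w)).obj rF) (y := vfib u' (overTop U))
        (uX.map (toTop r)) (u'.map (toTop r))
        ((IsHomLift.lift_eqToHom_comp_iff 𝒳.p _ _ er.symm).2 (map_lift uX (toTop r)))
        ((IsHomLift.lift_eqToHom_comp_iff 𝒳'.p _ _ er.symm).2 (map_lift u' (toTop r)))
        hu'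
    rw [← h1]
    refine toEquiv_eq_of_lifts hgX' φ.src d (x := x) (y := x'F)
      (x' := (IsoNat.fibFun uX (Over.mk w)).obj rF) (y' := x''F)
      (i.hom.hom.snd ≫ ap.hom.snd) l.hom.snd ?_ ?_ hx
    · have h2 : (fp v f).p.IsHomLift d (i.hom ≫ ap) := by
        have : (fp v f).p.IsHomLift (𝟙 (Over.mk w)) i.hom := hi.isHomLift ((u.w_obj r).trans er)
        exact IsHomLift.comp_lift_id_left' _ (Over.mk w) _ _ _
      exact (BasedFunctor.isHomLift_iff (fpSnd v f) (f := d) (φ := i.hom ≫ ap)).2 h2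
    · exact (BasedFunctor.isHomLift_iff (fpSnd v' f') (f := d) (φ := l)).2 hl'
  -- the automorphism
  let β₀ : u'.obj r ≅ p''.obj.snd := ⟨β.hom.1, β.inv.1, congrArg Subtype.val β.hom_inv_id,
    congrArg Subtype.val β.inv_hom_id⟩
  let α : w'.obj r ≅ w'.obj r :=
    v'.toFunctor.mapIso (asIso γ) ≪≫ p''.obj.iso ≪≫ (f'.toFunctor.mapIso β₀).symm ≪≫
      (StFib.isoApp θ r).symm
  have hα : StFib.Vert α.hom :=
    ((StFib.vert_of_isHomLift hγ).map v').comp ((StFib.vert_fp_iso p'').comp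
      (((StFib.vert_of_isHomLift β.inv.2).map f').comp (StFib.vert_isoApp_inv θ r)))
  let jr : J.obj := StFib.fpMk r (w'.obj r)
    (StFib.fpIsoMk α (Iso.refl _) (by
      obtain ⟨h1, h2⟩ := hα
      change 𝒴'.p.map α.hom ≫ 𝟙 _ = 𝟙 _ ≫ 𝒴'.p.map (𝟙 (w'.obj r))
      rw [h2]
      simp))
    (StFib.vert_fp_iff.2 hα)
  let m : Ψ.obj jr ⟶ p'' := StFib.fpHom γ β₀.hom (by
    change v'.map γ ≫ p''.obj.iso.hom =
      ((α.hom ≫ 𝟙 _) ≫ (StFib.isoApp θ r).hom) ≫ f'.map β₀.hom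
    simp only [α, Iso.trans_hom, Iso.symm_hom, Functor.mapIso_hom, Functor.mapIso_inv, asIso_hom,
      Category.assoc, Category.id_comp]
    rw [(StFib.isoApp θ r).inv_hom_id_assoc, ← f'.map_comp, β₀.inv_hom_id,
      CategoryTheory.Functor.map_id, Category.comp_id])
  refine ⟨AlgSt.Points.mk ⟨Ω, w, jr, er⟩, ?_⟩
  exact AlgSt.Points.sound ⟨⟨Ω, w, Ψ.obj jr, (Ψ.w_obj jr).trans er⟩, 𝟙 _, m ≫ l, trivial⟩

/-- Quasi-compactness of morphisms is detected by isomorphism classes. -/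
theorem isQuasiCompactMor_of_fIsoSq (h𝒳' : AlgSt.IsAlgStack Scheme.fppfPrecoverage 𝒳')
    (h𝒴' : AlgSt.IsAlgStack Scheme.fppfPrecoverage 𝒴')
    (h𝒴'd : AlgSt.RepByAlgSpWith AlgSp.IsQuasiCompactMor (diag (toSelf 𝒴')))
    (h𝒳 : AlgSt.IsAlgStack Scheme.fppfPrecoverage 𝒳) (h𝒴 : AlgSt.IsAlgStack Scheme.fppfPrecoverage 𝒴)
    (f : 𝒳 ⥤ᵇ 𝒴) (f' : 𝒳' ⥤ᵇ 𝒴') (φ : IsoNat.FIsoSq f f')
    (hf : AlgSt.IsQuasiCompactMor Scheme.fppfPrecoverage f) :
    AlgSt.IsQuasiCompactMor Scheme.fppfPrecoverage f' := by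
  intro 𝒵 h𝒵 hc g
  obtain ⟨V, z, hV, -, hzs⟩ := hc
  have := compactSpace_fp_of_fIsoSq h𝒳' h𝒴' h𝒴'd h𝒳 h𝒴 f f' φ hf (BasedFunctor.comp z g)
  have := compactSpace_fp_of_chart h𝒵 h𝒳' h𝒴' g f' z hzs
  exact StFib.isQuasiCompact_of_compactSpace (StFib.isAlgStack_fp h𝒴'.isStack h𝒴'.diag h𝒵 h𝒳' g f')

end Groth.Agent.IsoCls
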