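import Groth.Agent.IsoCls.FpSections
import Groth.Agent.IsoCls.QuasiCompact

/-!
Vertical isomorphisms between values of two charts: restriction, and the dictionary with sections of
a presentation of their fibre product.
-/

set_option autoImplicit false
set_option linter.unusedVariables false
set_option backward.isDefEq.respectTransparency false
set_option backward.isDefEq.respectTransparency.types false

universe u

open CategoryTheory CategoryTheory.Limits AlgebraicGeometry Opposite FibCat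
open Groth.Agent.FibC

namespace Groth.Agent.IsoCls

open Groth.Agent.StFib

variable {S : Scheme.{u}} {𝒳 𝒴 : AlgSt.Cat S} {U V W : Over S}
  {P : overCat V ⥤ᵇ 𝒳} {Q : overCat U ⥤ᵇ 𝒳} {R : overCat W ⥤ᵇ 𝒳}

/-- A vertical morphism between the values of two charts on points with one source. -/
abbrev VHom (P : overCat V ⥤ᵇ 𝒳) (Q : overCat U ⥤ᵇ 𝒳) {T : Over S} (h : T ⟶ V) (g : T ⟶ U) :
    Type u :=
  {β : P.obj (Over.mk h) ⟶ Q.obj (Over.mk g) // Vert β}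

/-- `β'` is the restriction of `β` along `κ`. -/
def IsRes {T' T : Over S} (κ : T' ⟶ T) {h : T ⟶ V} {g : T ⟶ U} {h' : T' ⟶ V} {g' : T' ⟶ U}
    (β' : VHom P Q h' g') (β : VHom P Q h g) : Prop :=
  ∃ (p : Over.mk h' ⟶ Over.mk h) (q : Over.mk g' ⟶ Over.mk g),
    p.left = κ ∧ q.left = κ ∧ β'.1 ≫ Q.map q = P.map p ≫ β.1

theorem over_mk_ext {X : Over S} {T' T : Over S} {h' : T' ⟶ X} {h : T ⟶ X}
    {p p' : Over.mk h' ⟶ Over.mk h} (e : p.left = p'.left) : p = p' :=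
  Over.OverMorphism.ext e

theorem IsRes.left_eq {T' T : Over S} {κ : T' ⟶ T} {h : T ⟶ V} {g : T ⟶ U} {h' : T' ⟶ V}
    {g' : T' ⟶ U} {β' : VHom P Q h' g'} {β : VHom P Q h g} (r : IsRes κ β' β) : κ ≫ h = h' := by
  obtain ⟨p, q, rfl, -, -⟩ := r
  exact Over.w p

theorem IsRes.right_eq {T' T : Over S} {κ : T' ⟶ T} {h : T ⟶ V} {g : T ⟶ U} {h' : T' ⟶ V}
    {g' : T' ⟶ U} {β' : VHom P Q h' g'} {β : VHom P Q h g} (r : IsRes κ β' β) : κ ≫ g = g' := by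
  obtain ⟨p, q, -, rfl, -⟩ := r
  exact Over.w q

theorem exists_isRes (h𝒳 : IsFibGrpd 𝒳.p) {T' T : Over S} (κ : T' ⟶ T) {h : T ⟶ V} {g : T ⟶ U}
    {h' : T' ⟶ V} {g' : T' ⟶ U} (eh : κ ≫ h = h') (eg : κ ≫ g = g') (β : VHom P Q h g) :
    ∃ β' : VHom P Q h' g', IsRes κ β' β := by
  let p : Over.mk h' ⟶ Over.mk h := Over.homMk κ eh
  let q : Over.mk g' ⟶ Over.mk g := Over.homMk κ eg
  obtain ⟨χ, hχ, hχ'⟩ := grpd_exists_vert_fac h𝒳 (Q.map q) (P.map p ≫ β.1)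
    ((P.w_obj _).trans (Q.w_obj (Over.mk g')).symm)
    (by obtain ⟨_, hb⟩ := β.2; simp [StFib.w_map, hb, p, q]; rfl)
  exact ⟨⟨χ.hom, hχ⟩, p, q, rfl, rfl, hχ'⟩

theorem IsRes.unique (h𝒳 : IsFibGrpd 𝒳.p) {T' T : Over S} {κ : T' ⟶ T} {h : T ⟶ V} {g : T ⟶ U}
    {h' : T' ⟶ V} {g' : T' ⟶ U} {β₁ β₂ : VHom P Q h' g'} {β : VHom P Q h g}
    (r₁ : IsRes κ β₁ β) (r₂ : IsRes κ β₂ β) : β₁ = β₂ := by
  obtain ⟨p, q, hp, hq, e₁⟩ := r₁
  obtain ⟨p', q', hp', hq', e₂⟩ := r₂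
  obtain rfl : p' = p := over_mk_ext (hp'.trans hp.symm)
  obtain rfl : q' = q := over_mk_ext (hq'.trans hq.symm)
  refine Subtype.ext (grpd_cancel h𝒳 (Q.map q') (e₁.trans e₂.symm) ?_)
  obtain ⟨_, h1⟩ := β₁.2
  obtain ⟨_, h2⟩ := β₂.2
  rw [h1, h2]

theorem IsRes.trans {T'' T' T : Over S} {κ' : T'' ⟶ T'} {κ : T' ⟶ T} {h : T ⟶ V} {g : T ⟶ U}
    {h' : T' ⟶ V} {g' : T' ⟶ U} {h'' : T'' ⟶ V} {g'' : T'' ⟶ U} {β'' : VHom P Q h'' g''}
    {β' : VHom P Q h' g'} {β : VHom P Q h g} (r' : IsRes κ' β'' β') (r : IsRes κ β' β) :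
    IsRes (κ' ≫ κ) β'' β := by
  obtain ⟨p', q', hp', hq', e'⟩ := r'
  obtain ⟨p, q, hp, hq, e⟩ := r
  refine ⟨p' ≫ p, q' ≫ q, by rw [Over.comp_left, hp', hp], by rw [Over.comp_left, hq', hq], ?_⟩
  rw [Functor.map_comp, Functor.map_comp, ← Category.assoc, e', Category.assoc, e, Category.assoc]

theorem IsRes.comp {T' T : Over S} {κ : T' ⟶ T} {h : T ⟶ V} {g : T ⟶ U} {k : T ⟶ W}
    {h' : T' ⟶ V} {g' : T' ⟶ U} {k' : T' ⟶ W} {β' : VHom P Q h' g'} {β : VHom P Q h g}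
    {δ' : VHom Q R g' k'} {δ : VHom Q R g k} (r : IsRes κ β' β) (s : IsRes κ δ' δ) :
    IsRes κ (⟨β'.1 ≫ δ'.1, β'.2.comp δ'.2⟩ : VHom P R h' k') ⟨β.1 ≫ δ.1, β.2.comp δ.2⟩ := by
  obtain ⟨p, q, hp, hq, e⟩ := r
  obtain ⟨q', s, hq', hs, e'⟩ := s
  obtain rfl : q' = q := over_mk_ext (hq'.trans hq.symm)
  refine ⟨p, s, hp, hs, ?_⟩
  change (β'.1 ≫ δ'.1) ≫ R.map s = P.map p ≫ β.1 ≫ δ.1
  rw [Category.assoc, e', ← Category.assoc, e, Category.assoc]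

/-- The inverse. -/
noncomputable def VHom.inv (h𝒳 : IsFibGrpd 𝒳.p) {T : Over S} {h : T ⟶ V} {g : T ⟶ U}
    (β : VHom P Q h g) : VHom Q P g h :=
  have := β.2.isIso h𝒳
  ⟨CategoryTheory.inv β.1, (Vert.inv (φ := asIso β.1) β.2 :)⟩

theorem VHom.comp_inv (h𝒳 : IsFibGrpd 𝒳.p) {T : Over S} {h : T ⟶ V} {g : T ⟶ U}
    (β : VHom P Q h g) : β.1 ≫ (β.inv h𝒳).1 = 𝟙 _ := by
  have := β.2.isIso h𝒳
  exact IsIso.hom_inv_id β.1

theorem VHom.inv_comp (h𝒳 : IsFibGrpd 𝒳.p) {T : Over S} {h : T ⟶ V} {g : T ⟶ U}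
    (β : VHom P Q h g) : (β.inv h𝒳).1 ≫ β.1 = 𝟙 _ := by
  have := β.2.isIso h𝒳
  exact IsIso.inv_hom_id β.1

theorem IsRes.inv (h𝒳 : IsFibGrpd 𝒳.p) {T' T : Over S} {κ : T' ⟶ T} {h : T ⟶ V} {g : T ⟶ U}
    {h' : T' ⟶ V} {g' : T' ⟶ U} {β' : VHom P Q h' g'} {β : VHom P Q h g} (r : IsRes κ β' β) :
    IsRes κ (β'.inv h𝒳) (β.inv h𝒳) := by
  obtain ⟨p, q, hp, hq, e⟩ := r
  refine ⟨q, p, hq, hp, ?_⟩
  calc (β'.inv h𝒳).1 ≫ P.map p
      = (β'.inv h𝒳).1 ≫ (P.map p ≫ β.1) ≫ (β.inv h𝒳).1 := by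
        rw [Category.assoc, VHom.comp_inv, Category.comp_id]
    _ = Q.map q ≫ (β.inv h𝒳).1 := by
        rw [← e, Category.assoc, ← Category.assoc, VHom.inv_comp, Category.id_comp]

theorem isRes_id {T' T : Over S} (κ : T' ⟶ T) {h : T ⟶ V} {h' : T' ⟶ V} (eh : κ ≫ h = h') :
    IsRes κ (⟨𝟙 _, Vert.id _⟩ : VHom P P h' h') (⟨𝟙 _, Vert.id _⟩ : VHom P P h h) :=
  ⟨Over.homMk κ eh, Over.homMk κ eh, rfl, rfl, by rw [Category.id_comp, Category.comp_id]⟩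

/-- Charts with corresponding values have vertical morphisms at the same points. -/
theorem vhom_of_corr (h𝒳 : IsFibGrpd 𝒳.p) (h𝒴 : IsFibGrpd 𝒴.p) (φ : IsoNat.FIso 𝒳 𝒴)
    {p : overCat V ⥤ᵇ 𝒳} {p' : overCat V ⥤ᵇ 𝒴} {q : overCat U ⥤ᵇ 𝒳} {q' : overCat U ⥤ᵇ 𝒴}
    (hp : φ.toEquiv V (IsoNat.cls (vfib p (overTop V))) = IsoNat.cls (vfib p' (overTop V)))
    (hq : φ.toEquiv U (IsoNat.cls (vfib q (overTop U))) = IsoNat.cls (vfib q' (overTop U)))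
    {T : Over S} (h : T ⟶ V) (g : T ⟶ U) : Nonempty (VHom p q h g) ↔ Nonempty (VHom p' q' h g) := by
  have e1 : φ.toEquiv T (IsoNat.cls (vfib p (Over.mk h))) = IsoNat.cls (vfib p' (Over.mk h)) :=
    corr_chart_obj h𝒴 φ p p' hp (Over.mk h)
  have e2 : φ.toEquiv T (IsoNat.cls (vfib q (Over.mk g))) = IsoNat.cls (vfib q' (Over.mk g)) :=
    corr_chart_obj h𝒴 φ q q' hq (Over.mk g)
  constructor
  · rintro ⟨α, hα⟩
    have h1 : IsoNat.cls (vfib p (Over.mk h)) = IsoNat.cls (vfib q (Over.mk g)) :=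
      Quotient.sound (fiber_iso_of_hom h𝒳 (T := T) (x := vfib p (Over.mk h))
        (y := vfib q (Over.mk g)) α (hα.isHomLift (p.w_obj (Over.mk h))))
    obtain ⟨i⟩ := iso_of_cls_eq (e1.symm.trans ((congrArg _ h1).trans e2))
    exact ⟨⟨i.hom.1, vert_of_isHomLift (R := T) i.hom.2⟩⟩
  · rintro ⟨β, hβ⟩
    have h1 : IsoNat.cls (vfib p' (Over.mk h)) = IsoNat.cls (vfib q' (Over.mk g)) :=
      Quotient.sound (fiber_iso_of_hom h𝒴 (T := T) (x := vfib p' (Over.mk h))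
        (y := vfib q' (Over.mk g)) β (hβ.isHomLift (p'.w_obj (Over.mk h))))
    obtain ⟨i⟩ := iso_of_cls_eq ((φ.toEquiv T).injective (e1.trans (h1.trans e2.symm)))
    exact ⟨⟨i.hom.1, vert_of_isHomLift (R := T) i.hom.2⟩⟩

/-- Vertical morphisms at a point as sections. -/
theorem exists_pairDict (h𝒳 : IsFibGrpd 𝒳.p) (P : overCat V ⥤ᵇ 𝒳) (Q : overCat U ⥤ᵇ 𝒳)
    (A : AlgSp.Space S) (e : AlgSt.ofSp A.obj ⥤ᵇ fp P Q) (he : IsEquivOver e) :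
    ∃ ev : ∀ {T : Over S} (h : T ⟶ V),
        Sec (AlgSt.spMapOfOver (BasedFunctor.comp e (fpFst P Q))) (Over.mk h) →
          Σ g : T ⟶ U, VHom P Q h g,
      (∀ {T : Over S} (h : T ⟶ V), Function.Bijective (ev h)) ∧
        ∀ {T' T : Over S} (κ : T' ⟶ T) (h : T ⟶ V) (h' : T' ⟶ V)
          (r : Sec (AlgSt.spMapOfOver (BasedFunctor.comp e (fpFst P Q))) (Over.mk h))
          (r' : Sec (AlgSt.spMapOfOver (BasedFunctor.comp e (fpFst P Q))) (Over.mk h')),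
          κ ≫ h = h' → r'.1 = (AlgSp.yon S).map κ ≫ r.1 →
            IsRes κ (ev h' r').2 (ev h r).2 := by
  obtain ⟨zo, Wz, hWz, hsurj, hinj, hnat⟩ := exists_fpSections P Q A e he
  let a := AlgSt.spMapOfOver (BasedFunctor.comp e (fpFst P Q))
  have hbase : ∀ {T : Over S} (h : T ⟶ V) (r : Sec a (Over.mk h)),
      Over.left (zo (Over.mk h) r).obj.snd = T := fun {T} h r =>
    (fp_base_eq (zo (Over.mk h) r)).symm.trans (hWz _ r).base_eq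
  let gg : ∀ {T : Over S} (h : T ⟶ V) (r : Sec a (Over.mk h)), T ⟶ U := fun {T} h r =>
    eqToHom (hbase h r).symm ≫ Over.hom (zo (Over.mk h) r).obj.snd
  let mm : ∀ {T : Over S} (h : T ⟶ V) (r : Sec a (Over.mk h)),
      (zo (Over.mk h) r).obj.snd ≅ Over.mk (gg h r) := fun {T} h r =>
    Over.isoMk (eqToIso (hbase h r)) (by simp [gg])
  have hmm : ∀ {T : Over S} (h : T ⟶ V) (r : Sec a (Over.mk h)), Vert (mm h r).hom :=
    fun {T} h r => ⟨hbase h r, rfl⟩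
  let bb : ∀ {T : Over S} (h : T ⟶ V) (r : Sec a (Over.mk h)), VHom P Q h (gg h r) := fun {T} h r =>
    ⟨P.map (Wz _ r).inv ≫ (zo (Over.mk h) r).obj.iso.hom ≫ Q.map (mm h r).hom,
      ((hWz _ r).inv.map P).comp ((vert_fp_iso _).comp ((hmm h r).map Q))⟩
  refine ⟨fun {T} h r => ⟨gg h r, bb h r⟩, fun {T} h => ⟨?_, ?_⟩, ?_⟩
  · intro r₁ r₂ h12
    obtain ⟨hg, hb⟩ := Sigma.mk.inj h12
    have key : ∀ (g₁ g₂ : T ⟶ U) (β₁ : VHom P Q h g₁) (β₂ : VHom P Q h g₂), g₁ = g₂ → HEq β₁ β₂ →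
        ∃ c : Over.mk g₁ ⟶ Over.mk g₂, c.left = 𝟙 T ∧ β₁.1 ≫ Q.map c = β₂.1 := by
      rintro g₁ _ β₁ β₂ rfl hh
      obtain rfl := eq_of_heq hh
      exact ⟨𝟙 _, rfl, by rw [CategoryTheory.Functor.map_id, Category.comp_id]⟩
    obtain ⟨c, hc, hcc⟩ := key _ _ _ _ hg hb
    refine hinj (Over.mk h) r₁ r₂
      (StFib.fpHom ((Wz _ r₁).hom ≫ (Wz _ r₂).inv) ((mm h r₁).hom ≫ c ≫ (mm h r₂).inv) ?_)
      (vert_fp_iff.2 ((hWz _ r₁).comp (hWz _ r₂).inv))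
    have hcc' : (P.map (Wz _ r₁).inv ≫ (zo (Over.mk h) r₁).obj.iso.hom ≫ Q.map (mm h r₁).hom) ≫
        Q.map c = P.map (Wz _ r₂).inv ≫ (zo (Over.mk h) r₂).obj.iso.hom ≫ Q.map (mm h r₂).hom := hcc
    rw [← cancel_epi (P.map (Wz _ r₁).inv), ← cancel_mono (Q.map (mm h r₂).hom)]
    simp only [Category.assoc, Functor.map_comp] at hcc' ⊢
    rw [← Functor.map_comp Q.toFunctor (mm h r₂).inv, Iso.inv_hom_id, CategoryTheory.Functor.map_id,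
      Category.comp_id, hcc', ← Functor.map_comp_assoc, Iso.inv_hom_id, CategoryTheory.Functor.map_id,
      Category.id_comp]
  · rintro ⟨g, β⟩
    have hβi := β.2.isIso h𝒳
    let z : (fp P Q).obj := fpMk (F := P) (G := Q) (Over.mk h) (Over.mk g) (asIso β.1) β.2
    obtain ⟨r, m, hm⟩ := hsurj (Over.mk h) z rfl
    refine ⟨r, ?_⟩
    obtain ⟨_, hm1⟩ := vert_fp_iff.1 hm
    obtain ⟨hm2, hm2'⟩ := vert_fp_snd hm
    have hgeq : gg h r = g := by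
      have hw : m.hom.hom.snd.left ≫ g = Over.hom (zo (Over.mk h) r).obj.snd := Over.w m.hom.hom.snd
      have hm2'' : m.hom.hom.snd.left = eqToHom hm2 := hm2'
      change eqToHom _ ≫ Over.hom (zo (Over.mk h) r).obj.snd = g
      rw [← hw, hm2'', eqToHom_trans_assoc, eqToHom_refl, Category.id_comp]
    subst hgeq
    refine Sigma.ext rfl (heq_of_eq (Subtype.ext ?_))
    have hmf : m.hom.hom.fst = (Wz _ r).hom := by
      obtain ⟨_, h2⟩ := hWz _ r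
      exact Over.OverMorphism.ext (hm1.trans h2.symm)
    have hms : m.hom.hom.snd = (mm h r).hom := Over.OverMorphism.ext hm2'
    have hw : P.map m.hom.hom.fst ≫ β.1 =
        (zo (Over.mk h) r).obj.iso.hom ≫ Q.map m.hom.hom.snd := m.hom.hom.w
    change P.map (Wz _ r).inv ≫ (zo (Over.mk h) r).obj.iso.hom ≫ Q.map (mm h r).hom = β.1
    rw [← hms, ← hw, hmf, ← Functor.map_comp_assoc, Iso.inv_hom_id, CategoryTheory.Functor.map_id,
      Category.id_comp]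
  · intro T' T κ h h' r r' eh hr
    let κo : Over.mk h' ⟶ Over.mk h := Over.homMk κ eh
    obtain ⟨Z, hZ⟩ := hnat κo r r' hr
    let q : Over.mk (gg h' r') ⟶ Over.mk (gg h r) := (mm h' r').inv ≫ Z.hom.snd ≫ (mm h r).hom
    refine ⟨κo, q, rfl, ?_, ?_⟩
    · change eqToHom (hbase h' r').symm ≫ Z.hom.snd.left ≫ eqToHom (hbase h r) = κ
      have h2 : Z.hom.snd.left = _ := fp_snd_map Z
      have h1 : (Wz _ r').inv.left ≫ Z.hom.fst.left ≫ (Wz _ r).hom.left = κ := by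
        exact congrArg Over.Hom.left hZ
      obtain ⟨_, w1⟩ := (hWz _ r').inv
      obtain ⟨_, w2⟩ := hWz _ r
      rw [show (Wz _ r').inv.left = _ from w1, show (Wz _ r).hom.left = _ from w2] at h1
      rw [h2]
      change eqToHom _ ≫ (eqToHom _ ≫ Z.hom.fst.left ≫ eqToHom _) ≫ eqToHom _ = κ
      rw [← h1]
      simp
    · have hw : P.map Z.hom.fst ≫ (zo (Over.mk h) r).obj.iso.hom =
          (zo (Over.mk h') r').obj.iso.hom ≫ Q.map Z.hom.snd := Z.hom.w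
      change (P.map (Wz _ r').inv ≫ (zo (Over.mk h') r').obj.iso.hom ≫ Q.map (mm h' r').hom) ≫
          Q.map ((mm h' r').inv ≫ Z.hom.snd ≫ (mm h r).hom) =
        P.map κo ≫ P.map (Wz _ r).inv ≫ (zo (Over.mk h) r).obj.iso.hom ≫ Q.map (mm h r).hom
      simp only [Category.assoc, Functor.map_comp]
      rw [← Functor.map_comp_assoc Q.toFunctor (mm h' r').hom, Iso.hom_inv_id,
        CategoryTheory.Functor.map_id, Category.id_comp, ← reassoc_of% hw, ← hZ]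
      simp only [Functor.map_comp, Category.assoc]
      rw [← Functor.map_comp_assoc P.toFunctor (Wz _ r).hom, Iso.hom_inv_id,
        CategoryTheory.Functor.map_id, Category.id_comp]

/-- Automorphisms as vertical morphisms. -/
def vaHom {X : overCat U ⥤ᵇ 𝒳} {T : Over S} {g : T ⟶ U} (e : VA X (Over.mk g)) :
    VHom X X g g :=
  ⟨e.hom.1, vert_of_isHomLift (R := T) e.hom.2⟩

theorem exists_vaHom_eq (h𝒳 : IsFibGrpd 𝒳.p) {X : overCat U ⥤ᵇ 𝒳} {T : Over S} {g : T ⟶ U}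
    (β : VHom X X g g) : ∃ e : VA X (Over.mk g), vaHom e = β := by
  obtain ⟨e, he⟩ := VA.exists_of_hom h𝒳 X (b := Over.mk g) β.1 (β.2.isHomLift (X.w_obj _))
  exact ⟨e, Subtype.ext he⟩

theorem isRes_vaHom (h𝒳 : IsFibGrpd 𝒳.p) {X : overCat U ⥤ᵇ 𝒳} {T' T : Over S} {g : T ⟶ U}
    {g' : T' ⟶ U} (κ : Over.mk g' ⟶ Over.mk g) (e : VA X (Over.mk g)) :
    IsRes κ.left (vaHom (res h𝒳 X κ e)) (vaHom e) :=
  ⟨κ, κ, rfl, rfl, res_spec h𝒳 κ e⟩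

theorem res_eq_of_isRes (h𝒳 : IsFibGrpd 𝒳.p) {X : overCat U ⥤ᵇ 𝒳} {T' T : Over S} {g : T ⟶ U}
    {g' : T' ⟶ U} {κ : Over.mk g' ⟶ Over.mk g} {e' : VA X (Over.mk g')} {e : VA X (Over.mk g)}
    (r : IsRes κ.left (vaHom e') (vaHom e)) : res h𝒳 X κ e = e' :=
  VA.ext (X := X) (congrArg (fun b : VHom X X g' g' => b.1) ((isRes_vaHom h𝒳 κ e).unique h𝒳 r))

end Groth.Agent.IsoCls
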