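import Groth.Agent.IsoCls.SmoothChart
import Groth.Agent.S12819

/-!
Surjectivity of charts and squares of charts are transferred along isomorphisms of isomorphism
classes.
-/

set_option autoImplicit false
set_option linter.unusedVariables false
set_option backward.isDefEq.respectTransparency false
set_option backward.isDefEq.respectTransparency.types false

universe u

open CategoryTheory CategoryTheory.Limits AlgebraicGeometry FibCat
open CategoryTheory.Functor Groth.Agent.FibC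

namespace Groth.Agent.IsoCls

variable {S : Scheme.{u}} {𝒳 𝒴 𝒳' 𝒴' : AlgSt.Cat S}

/-- A chart corresponding to a surjective one is surjective. -/
theorem repByAlgSpWith_surjective_of_corr (h𝒳 : AlgSt.IsAlgStack Scheme.fppfPrecoverage 𝒳)
    (h𝒴 : AlgSt.IsAlgStack Scheme.fppfPrecoverage 𝒴) (φ : IsoNat.FIso 𝒳 𝒴) {U : Over S}
    {x : overCat U ⥤ᵇ 𝒳} {y : overCat U ⥤ᵇ 𝒴}
    (hxy : φ.toEquiv U (IsoNat.cls (vfib x (overTop U))) = IsoNat.cls (vfib y (overTop U)))
    (hx : AlgSt.RepByAlgSpWith AlgSp.IsSurjectiveMor x) :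
    AlgSt.RepByAlgSpWith AlgSp.IsSurjectiveMor y := by
  have hU := StFib.isAlgStack_of_repByAlgSp (StFib.repByAlgSp_overCat U)
  refine (Groth.Agent.S12819.result hU h𝒴 y (StFib.repByAlgSp1_chart h𝒴 y)).1 ?_
  intro q
  obtain ⟨p, rfl⟩ := points_surjective φ q
  obtain ⟨t, rfl⟩ := StFib.ofChart_surjective h𝒳.isStack.1 hx p
  exact ⟨_, (StFib.ofChart_eq_map y t).symm.trans
    (points_ofChart h𝒴.isStack.1 φ x y hxy t).symm⟩

/-- A square of charts gives a square of corresponding charts. -/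
theorem exists_iso_square (h𝒴 : IsFibGrpd 𝒴.p) (h𝒴' : IsFibGrpd 𝒴'.p) {f : 𝒳 ⥤ᵇ 𝒴} {f' : 𝒳' ⥤ᵇ 𝒴'}
    (φ : IsoNat.FIsoSq f f') {U V : Over S} {x : overCat U ⥤ᵇ 𝒳} {x' : overCat U ⥤ᵇ 𝒳'}
    {y : overCat V ⥤ᵇ 𝒴} {y' : overCat V ⥤ᵇ 𝒴'}
    (hx : φ.src.toEquiv U (IsoNat.cls (vfib x (overTop U))) = IsoNat.cls (vfib x' (overTop U)))
    (hy : φ.tgt.toEquiv V (IsoNat.cls (vfib y (overTop V))) = IsoNat.cls (vfib y' (overTop V)))
    (h : U ⟶ V) (α : BasedFunctor.comp x f ≅ BasedFunctor.comp (AlgSt.overMap h) y) :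
    Nonempty (BasedFunctor.comp x' f' ≅ BasedFunctor.comp (AlgSt.overMap h) y') := by
  let w := BasedFunctor.comp (AlgSt.overMap h) y
  let w' := BasedFunctor.comp (AlgSt.overMap h) y'
  obtain ⟨θ₁⟩ : Nonempty ((IsoNat.fibFun f' U).obj (vfib x' (overTop U)) ≅ vfib w' (overTop U)) := by
    refine iso_of_cls_eq ?_
    have h1 : φ.tgt.toEquiv U (IsoNat.cls (vfib w (overTop U))) = IsoNat.cls (vfib w' (overTop U)) :=
      corr_chart_obj h𝒴' φ.tgt y y' hy ((AlgSt.overMap h).obj (overTop U))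
    obtain ⟨j⟩ := fiber_iso_of_hom h𝒴 (x := (IsoNat.fibFun f U).obj (vfib x (overTop U)))
      (y := vfib w (overTop U)) (StFib.isoApp α (overTop U)).hom
      (BasedNatTrans.app_isHomLift α.hom (overTop U))
    have h2 : φ.tgt.toEquiv U (IsoNat.cls ((IsoNat.fibFun f U).obj (vfib x (overTop U)))) =
        IsoNat.cls ((IsoNat.fibFun f' U).obj (vfib x' (overTop U))) := by
      have h3 := φ.comm U (IsoNat.cls (vfib x (overTop U)))
      rw [hx] at h3
      exact h3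
    rw [← h2, ← h1]
    exact congrArg _ (Quotient.sound ⟨j⟩)
  obtain ⟨θ, -⟩ := yoneda_iso (G := BasedFunctor.comp x' f') (H := w') (preserves_overCat h𝒴' _)
    (preserves_overCat h𝒴' _)
    ⟨θ₁.hom.1, θ₁.inv.1, congrArg Subtype.val θ₁.hom_inv_id, congrArg Subtype.val θ₁.inv_hom_id⟩
    θ₁.hom.2
  exact ⟨θ⟩

end Groth.Agent.IsoCls
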