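import Groth.Agent.IsoCls.AutLocus
import Groth.Agent.GalCohAux.GerbGlue
import Groth.Agent.AlgSp.Basic

/-!
Isomorphism classes of a stack being separated, against the triviality of automorphisms: the
abstract part.
-/

set_option autoImplicit false
set_option backward.isDefEq.respectTransparency false
set_option backward.isDefEq.respectTransparency.types false

universe u

open CategoryTheory CategoryTheory.Limits AlgebraicGeometry FibCat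
open CategoryTheory.Functor Groth.Agent.FibC

namespace Groth.Agent.IsoCls

variable {S : Scheme.{u}} {𝒳 : AlgSt.Cat S}

/-- The sieve generated by two arrows. -/
def sieve2 {T A B : Over S} (f : A ⟶ T) (g : B ⟶ T) : Sieve T where
  arrows V h := (∃ u : V ⟶ A, u ≫ f = h) ∨ (∃ u : V ⟶ B, u ≫ g = h)
  downward_closed := by
    rintro V V' h (⟨u, rfl⟩ | ⟨u, rfl⟩) k
    · exact Or.inl ⟨k ≫ u, Category.assoc _ _ _⟩
    · exact Or.inr ⟨k ≫ u, Category.assoc _ _ _⟩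

/-- Factorisations through a lift of a monomorphism are unique. -/
theorem fac_unique (h : IsFibGrpd 𝒳.p) {A T : Over S} (f : A ⟶ T) [Mono f] {z a x : 𝒳.obj}
    (φ : a ⟶ x) (hφ : 𝒳.p.IsHomLift f φ) (θ θ' : z ⟶ a) (he : θ ≫ φ = θ' ≫ φ) : θ = θ' := by
  have hb := IsHomLift.domain_eq 𝒳.p f φ
  subst hb
  have hc := IsHomLift.codomain_eq 𝒳.p f φ
  subst hc
  have hf : f = 𝒳.p.map φ := IsHomLift.eq_of_isHomLift 𝒳.p f φ
  have hp : 𝒳.p.map θ = 𝒳.p.map θ' := by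
    rw [← cancel_mono f]
    conv_lhs => rw [hf, ← Functor.map_comp, he, Functor.map_comp, ← hf]
  have := sc_of_fibGrpd h f φ
  have : 𝒳.p.IsHomLift (𝒳.p.map θ) θ' := hp ▸ IsHomLift.map 𝒳.p θ'
  exact IsStronglyCartesian.ext 𝒳.p f φ (𝒳.p.map θ) he

/-- A factorisation through a lift. -/
theorem exists_factor' (h : IsFibGrpd 𝒳.p) {A T : Over S} (f : A ⟶ T) {z a x : 𝒳.obj}
    (φ : a ⟶ x) (hφ : 𝒳.p.IsHomLift f φ) (ν : z ⟶ x) {V : Over S} (u : V ⟶ A) (g : V ⟶ T)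
    (hν : 𝒳.p.IsHomLift g ν) (hu : u ≫ f = g) :
    ∃ θ : z ⟶ a, 𝒳.p.IsHomLift u θ ∧ θ ≫ φ = ν := by
  have := sc_of_fibGrpd h f φ
  obtain ⟨θ, ⟨h1, h2⟩, -⟩ := IsStronglyCartesian.universal_property 𝒳.p f φ u g hu.symm ν
  exact ⟨θ, h1, h2⟩

/-- Morphisms over an identity glue along two disjoint pieces. -/
theorem exists_glue_disjoint {J : GrothendieckTopology (Over S)} (hP : Stk.IsPrestack J 𝒳)
    (hd : AlgSt.RepByAlgSpWith (AlgSp.RepWith @IsClosedImmersion) (diag (diag (toSelf 𝒳))))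
    {T A B : Over S} (f : A ⟶ T) (g : B ⟶ T) [Mono f] [Mono g] (hcov : sieve2 f g ∈ J T)
    (hdisj : ∀ {V : Over S} (u : V ⟶ A) (u' : V ⟶ B), u ≫ f = u' ≫ g → IsEmpty V.left)
    {x x' za zb : 𝒳.obj} (hx : 𝒳.p.obj x = T) (hx' : 𝒳.p.obj x' = T)
    (νa : za ⟶ x) (hνa : 𝒳.p.IsHomLift f νa) (fa : za ⟶ x') (hfa : 𝒳.p.IsHomLift f fa)
    (νb : zb ⟶ x) (hνb : 𝒳.p.IsHomLift g νb) (fb : zb ⟶ x') (hfb : 𝒳.p.IsHomLift g fb) :
    ∃ φ : x ⟶ x', 𝒳.p.IsHomLift (𝟙 T) φ ∧ νa ≫ φ = fa ∧ νb ≫ φ = fb := by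
  subst hx
  have hex : ∀ ⦃z : 𝒳.obj⦄ (ν : z ⟶ x), (sieve2 f g) (𝒳.p.map ν) →
      ∃ m : z ⟶ x', 𝒳.p.IsHomLift (𝒳.p.map ν) m ∧
        (∀ θ : z ⟶ za, θ ≫ νa = ν → θ ≫ fa = m) ∧ (∀ θ : z ⟶ zb, θ ≫ νb = ν → θ ≫ fb = m) := by
    intro z ν hν
    have hliftν : 𝒳.p.IsHomLift (𝒳.p.map ν) ν := IsHomLift.map 𝒳.p ν
    rcases hν with ⟨u, hu⟩ | ⟨u, hu⟩
    · obtain ⟨θ, hθ, hθ'⟩ := exists_factor' hP.1 f νa hνa ν u _ hliftν hu
      have hm : 𝒳.p.IsHomLift (𝒳.p.map ν) (θ ≫ fa) := hu ▸ inferInstance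
      refine ⟨θ ≫ fa, hm, fun θ' h' => by rw [fac_unique hP.1 f νa hνa θ' θ (h'.trans hθ'.symm)],
        fun θ' h' => ?_⟩
      have hzb : 𝒳.p.obj zb = B := IsHomLift.domain_eq 𝒳.p g νb
      have hg : (𝒳.p.map θ' ≫ eqToHom hzb) ≫ g = 𝒳.p.map ν := by
        rw [← h', Functor.map_comp, IsHomLift.fac' 𝒳.p g νb]
        simp
      have : IsEmpty (𝒳.p.obj z).left := hdisj u _ (hu.trans hg.symm)
      have h2 : 𝒳.p.IsHomLift (𝒳.p.map ν) (θ' ≫ fb) := by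
        rw [← hg]
        have : 𝒳.p.IsHomLift (𝒳.p.map θ' ≫ eqToHom hzb) θ' :=
          IsHomLift.of_fac 𝒳.p _ θ' rfl (by assumption) (by simp)
        infer_instance
      exact hom_eq_of_isEmpty hP.1 hd _ _ _ h2 hm
    · obtain ⟨θ, hθ, hθ'⟩ := exists_factor' hP.1 g νb hνb ν u _ hliftν hu
      have hm : 𝒳.p.IsHomLift (𝒳.p.map ν) (θ ≫ fb) := hu ▸ inferInstance
      refine ⟨θ ≫ fb, hm, fun θ' h' => ?_,
        fun θ' h' => by rw [fac_unique hP.1 g νb hνb θ' θ (h'.trans hθ'.symm)]⟩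
      have hza : 𝒳.p.obj za = A := IsHomLift.domain_eq 𝒳.p f νa
      have hf : (𝒳.p.map θ' ≫ eqToHom hza) ≫ f = 𝒳.p.map ν := by
        rw [← h', Functor.map_comp, IsHomLift.fac' 𝒳.p f νa]
        simp
      have : IsEmpty (𝒳.p.obj z).left := hdisj _ u (hf.trans hu.symm)
      have h2 : 𝒳.p.IsHomLift (𝒳.p.map ν) (θ' ≫ fa) := by
        rw [← hf]
        have : 𝒳.p.IsHomLift (𝒳.p.map θ' ≫ eqToHom hza) θ' :=
          IsHomLift.of_fac 𝒳.p _ θ' rfl (by assumption) (by simp)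
        infer_instance
      exact hom_eq_of_isEmpty hP.1 hd _ _ _ h2 hm
  choose m hm hma hmb using hex
  obtain ⟨φ, hφ, hφ'⟩ := GalCohAux.GerbGlue.exists_glue_hom hP hx' (sieve2 f g) hcov m hm
    (fun z w k ν hν hkν => by
      rcases hν with ⟨u, hu⟩ | ⟨u, hu⟩
      · obtain ⟨θ, -, hθ⟩ := exists_factor' hP.1 f νa hνa ν u _ (IsHomLift.map 𝒳.p ν) hu
        rw [← hma ν (Or.inl ⟨u, hu⟩) θ hθ, ← hma _ hkν (k ≫ θ) (by rw [Category.assoc, hθ]),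
          Category.assoc]
      · obtain ⟨θ, -, hθ⟩ := exists_factor' hP.1 g νb hνb ν u _ (IsHomLift.map 𝒳.p ν) hu
        rw [← hmb ν (Or.inr ⟨u, hu⟩) θ hθ, ← hmb _ hkν (k ≫ θ) (by rw [Category.assoc, hθ]),
          Category.assoc])
  refine ⟨φ, hφ, ?_, ?_⟩
  · have hza : 𝒳.p.obj za = A := IsHomLift.domain_eq 𝒳.p f νa
    have h : (sieve2 f g) (𝒳.p.map νa) :=
      Or.inl ⟨eqToHom hza, by rw [IsHomLift.fac' 𝒳.p f νa]; simp⟩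
    rw [hφ' νa h, ← hma νa h (𝟙 za) (Category.id_comp _), Category.id_comp]
  · have hzb : 𝒳.p.obj zb = B := IsHomLift.domain_eq 𝒳.p g νb
    have h : (sieve2 f g) (𝒳.p.map νb) :=
      Or.inr ⟨eqToHom hzb, by rw [IsHomLift.fac' 𝒳.p g νb]; simp⟩
    rw [hφ' νb h, ← hmb νb h (𝟙 zb) (Category.id_comp _), Category.id_comp]

/-- Separatedness of isomorphism classes. -/
def SepCls (𝒳 : AlgSt.Cat S) : Prop :=
  ∀ (T T' : Over S) (π : T' ⟶ T) [Flat π.left] [Surjective π.left]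
    [LocallyOfFinitePresentation π.left]
    (x₁ x₂ : 𝒳.p.Fiber T) (x₁' x₂' : 𝒳.p.Fiber T') (a₁ : x₁'.1 ⟶ x₁.1) (a₂ : x₂'.1 ⟶ x₂.1),
    𝒳.p.IsHomLift π a₁ → 𝒳.p.IsHomLift π a₂ → Nonempty (x₁' ≅ x₂') → Nonempty (x₁ ≅ x₂)

theorem fiber_iso_of_hom (h : IsFibGrpd 𝒳.p) {T : Over S} {x y : 𝒳.p.Fiber T} (φ : x.1 ⟶ y.1)
    (hφ : 𝒳.p.IsHomLift (𝟙 T) φ) : Nonempty (x ≅ y) := by
  have : IsIso φ := isIso_of_fibGrpd h (𝟙 T) φ
  exact ⟨⟨⟨φ, hφ⟩, ⟨inv φ, inferInstance⟩, Fiber.hom_ext (IsIso.hom_inv_id φ),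
    Fiber.hom_ext (IsIso.inv_hom_id φ)⟩⟩

/-- Without automorphisms the isomorphism classes are separated. -/
theorem sepCls_of_trivial_endo {J : GrothendieckTopology (Over S)} (hP : Stk.IsPrestack J 𝒳)
    (hJ : ∀ {T T' : Over S} (π : T' ⟶ T) [Flat π.left] [Surjective π.left]
      [LocallyOfFinitePresentation π.left], Sieve.generate (Presieve.singleton π) ∈ J T)
    (hclean : ∀ (x : 𝒳.obj) (s : x ⟶ x), 𝒳.p.map s = 𝟙 (𝒳.p.obj x) → s = 𝟙 x) :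
    SepCls 𝒳 := by
  intro T T' π _ _ _ x₁ x₂ x₁' x₂' a₁ a₂ ha₁ ha₂ hiso
  obtain ⟨θ⟩ := hiso
  have huniq : ∀ {R T₀ : Over S} {z y : 𝒳.obj} (g : R ⟶ T₀) (m m' : z ⟶ y),
      𝒳.p.IsHomLift g m → 𝒳.p.IsHomLift g m' → m = m' := fun {R T₀ z y} g m m' hm hm' => by
    obtain ⟨χ, hχ, -, hχ'⟩ := GalCohAux.GerbBasic.exists_fac hP.1 g m' m
    have hz : 𝒳.p.obj z = R := IsHomLift.domain_eq 𝒳.p g m
    subst hz
    rw [← hχ', hclean z χ ((IsHomLift.eq_of_isHomLift 𝒳.p (𝟙 _) χ).symm), Category.id_comp]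
  obtain ⟨x, hx⟩ := x₁
  subst hx
  have hR : Sieve.generate (Presieve.singleton π) ∈ J (𝒳.p.obj x) := hJ π
  have hex : ∀ ⦃z : 𝒳.obj⦄ (ν : z ⟶ x), Sieve.generate (Presieve.singleton π) (𝒳.p.map ν) →
      ∃ m : z ⟶ x₂.1, 𝒳.p.IsHomLift (𝒳.p.map ν) m := by
    rintro z ν ⟨_, u, _, ⟨⟩, hu⟩
    obtain ⟨θ₀, hθ₀, -⟩ := exists_factor' hP.1 π a₁ ha₁ ν u _ (IsHomLift.map 𝒳.p ν) hu
    have := θ.hom.2
    refine ⟨θ₀ ≫ θ.hom.1 ≫ a₂, ?_⟩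
    rw [← hu]
    infer_instance
  choose m hm using hex
  obtain ⟨φ, hφ, -⟩ := GalCohAux.GerbGlue.exists_glue_hom hP x₂.2 _ hR m hm
    (fun z w k ν hν hkν => huniq (𝒳.p.map (k ≫ ν)) _ _ (hm _ hkν) (by
      have := hm ν hν
      rw [Functor.map_comp]
      infer_instance))
  exact fiber_iso_of_hom hP.1 φ hφ

end Groth.Agent.IsoCls
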