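import Groth.Agent.TrivLocus.Space
import Groth.Agent.StFib.SourceLocal
import Groth.Agent.StFib.InertiaProps
import Groth.Agent.StFib.OpenLocus
import Groth.Prelude.Def_W4c2isonaturalstkIso

/-!
The automorphism space of a chart and the clean locus of a stack with proper inertia.
-/

set_option autoImplicit false
set_option linter.unusedVariables false
set_option backward.isDefEq.respectTransparency false
set_option backward.isDefEq.respectTransparency.types false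

universe u

open CategoryTheory CategoryTheory.Limits AlgebraicGeometry Opposite FibCat

namespace Groth.Agent.IsoCls

open Groth.Agent.StFib

variable {S : Scheme.{u}} {𝒳 : AlgSt.Cat S}

/-- Only the identity is a vertical endomorphism. -/
def EndTriv (η : 𝒳.obj) : Prop := ∀ φ : η ⟶ η, Vert φ → φ = 𝟙 η

theorem isClean_of_hom {η η' : 𝒳.obj} (a : η' ⟶ η) (h : IsoNat.IsClean η) : IsoNat.IsClean η' :=
  fun x b => h x (b ≫ a)

theorem isClean_chart_iff (h𝒳 : IsFibGrpd 𝒳.p) {U : Over S} (y : overCat U ⥤ᵇ 𝒳)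
    (g : (overCat U).obj) :
    IsoNat.IsClean (y.obj g) ↔ ∀ (w : (overCat U).obj) (_ : w ⟶ g), EndTriv (y.obj w) := by
  refine ⟨fun h w κ φ hφ => ?_, fun h x a s hs => ?_⟩
  · obtain ⟨e, he⟩ := hφ
    exact h _ (y.map κ) φ (by simpa using he)
  · let d : 𝒳.p.obj x ⟶ g.left := 𝒳.p.map a ≫ eqToHom (y.w_obj g)
    let w : (overCat U).obj := Over.mk (d ≫ g.hom)
    let κ : w ⟶ g := Over.homMk d rfl
    obtain ⟨χ, hχ, -⟩ := grpd_exists_vert_fac h𝒳 (y.map κ) a (y.w_obj w).symm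
      (by rw [w_map, show (overCat U).p.map κ = d from rfl]; simp [d])
    have h1 := h w κ (χ.inv ≫ s ≫ χ.hom) (hχ.inv.comp (Vert.comp (show Vert s from ⟨rfl, by simpa using hs⟩) hχ))
    calc s = χ.hom ≫ (χ.inv ≫ s ≫ χ.hom) ≫ χ.inv := by simp
      _ = 𝟙 x := by rw [h1]; simp

/-- The automorphism space of a chart. -/
theorem exists_autSpace {P : MorphismProperty (AlgSp.Sp S)}
    {Q : MorphismProperty (AlgSp.Sp S)} (hQ : Good Q) (h𝒳 : IsFibGrpd 𝒳.p)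
    (hP : AlgSt.RepByAlgSpWith P (inertiaToBase (toSelf 𝒳)))
    (hQr : AlgSt.RepByAlgSpWith Q (inertiaToBase (toSelf 𝒳)))
    {U : Over S} (y : overCat U ⥤ᵇ 𝒳) :
    ∃ (A : AlgSp.Space S) (a : A.obj ⟶ (AlgSp.yon S).obj U) (ε : (AlgSp.yon S).obj U ⟶ A.obj),
      ε ≫ a = 𝟙 _ ∧ P a ∧ Q a ∧ ∀ g : (overCat U).obj,
        TrivLocus.TrivOn a ε g.hom ↔ ∀ (w : (overCat U).obj) (_ : w ⟶ g), EndTriv (y.obj w) := by
  let ι₀ := inertiaToBase (toSelf 𝒳)
  obtain ⟨A, e, he, hPa⟩ := hP U y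
  let Φ := BasedFunctor.comp e (fpFst y ι₀)
  let a := AlgSt.spMapOfOver Φ
  have := full_of_isEquivOver he
  let sec : {X : Over S} → ((AlgSp.yon S).obj X ⟶ A.obj) → A.obj.obj.obj (op X) :=
    fun {X} r => r.hom.app (op X) ⟨𝟙 X⟩
  have hsec : ∀ {X : Over S} (r : (AlgSp.yon S).obj X ⟶ A.obj) (f : X ⟶ U),
      r ≫ a = (AlgSp.yon S).map f → AlgSt.secHom Φ ⟨X, sec r⟩ = f := fun {X} r f hr => by
    have := congrArg (fun m => ULift.down (m.hom.app (op X) ⟨𝟙 X⟩)) hr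
    exact this.trans (Category.id_comp f :)
  -- the image of a section over `f` lies over `f`
  have hw : ∀ {X : Over S} (r : (AlgSp.yon S).obj X ⟶ A.obj) (f : X ⟶ U),
      r ≫ a = (AlgSp.yon S).map f →
      ∃ w : (e.obj ⟨X, sec r⟩).obj.fst ≅ Over.mk f, Vert w.hom := fun {X} r f hr => by
    refine ⟨Over.isoMk (eqToIso (Φ.w_obj ⟨X, sec r⟩)) ?_, ⟨Φ.w_obj ⟨X, sec r⟩, rfl⟩⟩
    change eqToHom (Φ.w_obj ⟨X, sec r⟩) ≫ f = _
    rw [← hsec r f hr, AlgSt.secHom, eqToHom_trans_assoc]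
    exact Category.id_comp _
  -- every object over `f` is the image of a section over `f`
  have hex : ∀ {X : Over S} (f : X ⟶ U) (z : (fp y ι₀).obj), z.obj.fst = Over.mk f →
      ∃ (r : (AlgSp.yon S).obj X ⟶ A.obj) (m : e.obj ⟨X, sec r⟩ ≅ z),
        Vert m.hom ∧ r ≫ a = (AlgSp.yon S).map f := by
    intro X f z hz
    obtain ⟨⟨X', s⟩, m, hm⟩ := exists_vert_iso_of_isEquivOver he z
    have hX : X' = X := by
      have h1 : (fp y ι₀).p.obj (e.obj ⟨X', s⟩) = X' := e.w_obj _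
      have h2 : (fp y ι₀).p.obj z = X := congrArg (fun o : (overCat U).obj => o.left) hz
      exact h1.symm.trans (hm.base_eq.trans h2)
    subst hX
    obtain ⟨r, rfl⟩ : ∃ r, sec r = s :=
      ⟨(GrothendieckTopology.uliftYonedaEquiv.{u + 1} (AlgSp.J S)).symm s, (GrothendieckTopology.uliftYonedaEquiv.{u + 1} (AlgSp.J S)).apply_symm_apply s⟩
    refine ⟨r, m, hm, ?_⟩
    obtain ⟨f', hf'⟩ := (AlgSp.yon S).map_surjective (r ≫ a)
    have h3 := hsec r f' hf'.symm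
    rw [← hf']
    congr 1
    rw [← h3]
    have hv : Vert m.hom.hom.fst := vert_fp_iff.1 hm
    obtain ⟨hb, hb'⟩ := hv
    have h4 : m.hom.hom.fst.left ≫ z.obj.fst.hom = (e.obj ⟨X', sec r⟩).obj.fst.hom :=
      Over.w m.hom.hom.fst
    change m.hom.hom.fst.left = eqToHom hb at hb'
    change eqToHom _ ≫ (e.obj ⟨X', sec r⟩).obj.fst.hom = f
    rw [← h4, hb']
    have h5 : z.obj.fst.hom = eqToHom (congrArg (fun o : (overCat U).obj => o.left) hz) ≫ f := by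
      generalize z.obj.fst = o at hz ⊢
      subst hz
      simp
    rw [h5]
    simp
  obtain ⟨ε, m₀, -, hε⟩ := hex (𝟙 U)
    (fpMk (F := y) (G := ι₀) (Over.mk (𝟙 U))
      (⟨y.obj (Over.mk (𝟙 U)), Iso.refl _, (toSelf 𝒳).toFunctor.map_id _⟩ : InertiaObj (toSelf 𝒳))
      (Iso.refl _) (Vert.id _)) rfl
  have hε' : ε ≫ a = 𝟙 _ := hε.trans ((AlgSp.yon S).map_id U)
  refine ⟨A, a, ε, hε', hPa, mem_of_rep_chart hQ.bc hQ.det hQr y A e he, fun g => ⟨?_, ?_⟩⟩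
  · intro htriv w κ φ hφ
    have hφi := hφ.isIso h𝒳
    have hφ' : 𝒳.p.map φ = 𝟙 _ := by
      obtain ⟨h0, h0'⟩ := hφ
      simpa using h0'
    let z₁ : (fp y ι₀).obj := fpMk (F := y) (G := ι₀) w
      (⟨y.obj w, asIso φ, hφ'⟩ : InertiaObj (toSelf 𝒳)) (Iso.refl _) (Vert.id _)
    let z₂ : (fp y ι₀).obj := fpMk (F := y) (G := ι₀) w
      (⟨y.obj w, Iso.refl _, (toSelf 𝒳).toFunctor.map_id _⟩ : InertiaObj (toSelf 𝒳))
      (Iso.refl _) (Vert.id _)
    obtain ⟨r₁, m₁, hm₁, hr₁⟩ := hex w.hom z₁ rfl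
    obtain ⟨r₂, m₂, hm₂, hr₂⟩ := hex w.hom z₂ rfl
    have hwg : κ.left ≫ g.hom = w.hom := Over.w κ
    have e₁ := htriv κ.left r₁ (hr₁.trans (congrArg (AlgSp.yon S).map hwg.symm))
    have e₂ := htriv κ.left r₂ (hr₂.trans (congrArg (AlgSp.yon S).map hwg.symm))
    have : r₁ = r₂ := e₁.trans e₂.symm
    subst this
    let M : z₁ ⟶ z₂ := m₁.inv ≫ m₂.hom
    have hM : Vert M := hm₁.inv.comp hm₂
    have hfst : M.hom.fst = 𝟙 w := by
      obtain ⟨h0, h0'⟩ := vert_fp_iff.1 hM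
      exact Over.OverMorphism.ext (h0'.trans (eqToHom_refl _ _))
    have hcw : y.map M.hom.fst ≫ 𝟙 _ = 𝟙 _ ≫ M.hom.snd.hom := M.hom.w
    rw [hfst] at hcw
    have hcw' : 𝟙 (y.obj w) = M.hom.snd.hom :=
      (y.toFunctor.map_id w).symm.trans
        ((Category.comp_id _).symm.trans (hcw.trans (Category.id_comp _)))
    have hc : φ ≫ M.hom.snd.hom = M.hom.snd.hom ≫ 𝟙 (y.obj w) := M.hom.snd.comm
    rw [← hcw', Category.comp_id] at hc
    exact hc.trans (Category.comp_id _)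
  · intro hend T' k r hr
    let f := k ≫ g.hom
    let w : (overCat U).obj := Over.mk f
    have htw : EndTriv (y.obj w) := hend w (Over.homMk k rfl)
    have hr₂ : ((AlgSp.yon S).map f ≫ ε) ≫ a = (AlgSp.yon S).map f := by
      rw [Category.assoc, hε', Category.comp_id]
    let r₂ := (AlgSp.yon S).map f ≫ ε
    obtain ⟨w₁, hw₁⟩ := hw r f hr
    obtain ⟨w₂, hw₂⟩ := hw r₂ f hr₂
    let z₁ := e.obj ⟨T', sec r⟩
    let z₂ := e.obj ⟨T', sec r₂⟩
    have haut : ∀ (z : (fp y ι₀).obj) (v : z.obj.fst ≅ w), Vert v.hom →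
        z.obj.snd.aut.hom = 𝟙 z.obj.snd.pt := by
      intro z v hv
      let c : y.obj w ≅ z.obj.snd.pt := (y.toFunctor.mapIso v).symm ≪≫ z.obj.iso
      have hc : Vert c.hom := (hv.map y).inv.comp (vert_fp_iso z)
      have hs : Vert z.obj.snd.aut.hom := inertia_vert_aut z.obj.snd
      have h1 := htw (c.hom ≫ z.obj.snd.aut.hom ≫ c.inv) (hc.comp (hs.comp hc.inv))
      rw [← cancel_epi c.hom, ← cancel_mono c.inv, Category.assoc, h1]
      simp
    let v : z₁.obj.fst ≅ z₂.obj.fst := w₁ ≪≫ w₂.symm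
    have hv : Vert v.hom := hw₁.comp hw₂.inv
    let u : z₁.obj.snd.pt ⟶ z₂.obj.snd.pt := z₁.obj.iso.inv ≫ y.map v.hom ≫ z₂.obj.iso.hom
    let Z : z₁ ⟶ z₂ := fpHom v.hom (⟨u, by
        rw [haut z₁ w₁ hw₁, haut z₂ w₂ hw₂]
        exact (Category.id_comp u).trans (Category.comp_id u).symm⟩ : InertiaObj.Hom z₁.obj.snd z₂.obj.snd)
      (by
        change y.map v.hom ≫ z₂.obj.iso.hom = z₁.obj.iso.hom ≫ u
        simp [u])
    have hZ : Vert Z := vert_fp_iff.2 hv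
    obtain ⟨q, hq⟩ := e.toFunctor.map_surjective Z
    have hqv : Vert (𝒳 := AlgSt.ofSp A.obj) q := Vert.of_map e (hq.symm ▸ hZ)
    exact (GrothendieckTopology.uliftYonedaEquiv.{u + 1} (AlgSp.J S)).injective (ofPsh_eq_of_vert hqv)

/-- The clean locus on a chart of a stack with proper inertia. -/
theorem exists_cleanLocus (h𝒳 : IsFibGrpd 𝒳.p)
    (hpr : AlgSt.RepByAlgSpWith AlgSp.IsProperMor (inertiaToBase (toSelf 𝒳)))
    (hlfp : AlgSt.RepByAlgSpWith (AlgSp.LocP @LocallyOfFinitePresentation)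
      (inertiaToBase (toSelf 𝒳))) (U : Over S) (y : overCat U ⥤ᵇ 𝒳) :
    ∃ V : U.left.Opens, QuasiCompact V.ι ∧ ∀ g : (overCat U).obj,
      IsoNat.IsClean (y.obj g) ↔ Set.range g.hom.left ⊆ (V : Set U.left) := by
  obtain ⟨A, a, ε, hε, hp, hl, h⟩ := exists_autSpace
    (good_locP Groth.Agent.AlgSpCov.standard_locallyOfFinitePresentation) h𝒳 hpr hlfp y
  obtain ⟨V, hV, hVg⟩ := TrivLocus.exists_trivLocus A.property a ε hε hp hl
  exact ⟨V, hV, fun g => ((isClean_chart_iff h𝒳 y g).trans (h g).symm).trans (hVg g.hom)⟩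

end Groth.Agent.IsoCls
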