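import Groth.Agent.IsoCls.Clean

/-!
Twisting an object on a scheme with a loop: separated isomorphism classes force trivial
automorphisms, given the geometric input.
-/

set_option autoImplicit false
set_option backward.isDefEq.respectTransparency false
set_option backward.isDefEq.respectTransparency.types false

universe u

open CategoryTheory CategoryTheory.Limits AlgebraicGeometry FibCat
open CategoryTheory.Functor Groth.Agent.FibC

namespace Groth.Agent.IsoCls

variable {S : Scheme.{u}} {𝒳 : AlgSt.Cat S}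

/-- The geometric input: a scheme `C` covered by two copies of `U` glued along `W = Wa ⊔ Wb`, and two
lines through one point of `U` meeting `Wa`, resp. `Wb`, densely. -/
structure Loop (J : GrothendieckTopology (Over S)) (T : Over S) where
  C : (overCat T).obj
  U : (overCat T).obj
  W : (overCat T).obj
  Wa : (overCat T).obj
  Wb : (overCat T).obj
  P : (overCat T).obj
  A : (overCat T).obj
  D : (overCat T).obj
  j₁ : U ⟶ C
  j₂ : U ⟶ C
  mono₁ : Mono j₁.left
  mono₂ : Mono j₂.left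
  cov : sieve2 j₁.left j₂.left ∈ J C.left
  v : W ⟶ U
  monov : Mono v.left
  glue : v ≫ j₁ = v ≫ j₂
  overlap : ∀ {V : Over S} (u u' : V ⟶ U.left), u ≫ j₁.left = u' ≫ j₂.left →
    ∃ w : V ⟶ W.left, w ≫ v.left = u ∧ w ≫ v.left = u'
  wa : Wa ⟶ W
  wb : Wb ⟶ W
  monoa : Mono wa.left
  monob : Mono wb.left
  covW : sieve2 wa.left wb.left ∈ J W.left
  disjW : ∀ {V : Over S} (u : V ⟶ Wa.left) (u' : V ⟶ Wb.left),
    u ≫ wa.left = u' ≫ wb.left → IsEmpty V.left
  i₁ : U ⟶ P
  i₂ : U ⟶ P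
  monoi₁ : Mono i₁.left
  monoi₂ : Mono i₂.left
  covP : sieve2 i₁.left i₂.left ∈ J P.left
  disjP : ∀ {V : Over S} (u : V ⟶ U.left) (u' : V ⟶ U.left),
    u ≫ i₁.left = u' ≫ i₂.left → IsEmpty V.left
  π : P ⟶ C
  hπ₁ : i₁ ≫ π = j₁
  hπ₂ : i₂ ≫ π = j₂
  flat : Flat π.left.left
  surj : Surjective π.left.left
  lfp : LocallyOfFinitePresentation π.left.left
  la : A ⟶ U
  lb : A ⟶ U
  o : overTop T ⟶ A
  ho : o ≫ la = o ≫ lb
  d : D ⟶ A
  dense : IsSchemeTheoreticallyDominant d.left.left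
  da : D ⟶ Wa
  db : D ⟶ Wb
  hda : d ≫ la = da ≫ wa ≫ v
  hdb : d ≫ lb = db ≫ wb ≫ v

/-- The loop kills every vertical endomorphism. -/
theorem app_eq_id_of_loop {J : GrothendieckTopology (Over S)} (h : Stk.IsStack J 𝒳)
    (hd : AlgSt.RepByAlgSpWith (AlgSp.RepWith @IsClosedImmersion) (diag (diag (toSelf 𝒳))))
    (hsep : SepCls 𝒳) {T : Over S} (L : Loop J T) (X : overCat T ⥤ᵇ 𝒳) (α : X ⟶ X) :
    α.toNatTrans.app (overTop T) = 𝟙 (X.obj (overTop T)) := by
  classical
  have hP : Stk.IsPrestack J 𝒳 := StkLib.isPrestack_of_isStack h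
  have hg : IsFibGrpd 𝒳.p := h.1
  have hXsc := preserves_overCat hg X
  have hlift : ∀ {b c : (overCat T).obj} (k : b ⟶ c), 𝒳.p.IsHomLift k.left (X.map k) :=
    fun k => map_lift X k
  have hS : ∀ b : (overCat T).obj, 𝒳.p.IsHomLift (𝟙 (Over.left b)) (α.toNatTrans.app b) :=
    fun b => BasedNatTrans.app_isHomLift α b
  have hnat : ∀ {b c : (overCat T).obj} (k : b ⟶ c),
      X.map k ≫ α.toNatTrans.app c = α.toNatTrans.app b ≫ X.map k :=
    fun k => α.toNatTrans.naturality k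
  -- the automorphism of `W` which is trivial on `Wa` and `s` on `Wb`
  have := L.monoa
  have := L.monob
  obtain ⟨σ, hσ, hσa, hσb⟩ := exists_glue_disjoint hP hd L.wa.left L.wb.left L.covW L.disjW
    (X.w_obj L.W) (X.w_obj L.W) (X.map L.wa) (hlift _) (X.map L.wa) (hlift _)
    (X.map L.wb) (hlift _) (X.map L.wb ≫ α.toNatTrans.app L.W) (by
      have := hlift L.wb
      have := hS L.W
      exact IsHomLift.comp_lift_id_right' 𝒳.p _ _ (Over.left L.W) _)
  have : IsIso σ := isIso_of_fibGrpd hg (𝟙 (Over.left L.W)) σ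
  let g : Bool → (X.obj L.W ≅ X.obj L.W) := fun i => bif i then asIso σ else Iso.refl _
  let δ : Bool → Bool → (X.obj L.W ⟶ X.obj L.W) := fun i i' => (g i).hom ≫ (g i').inv
  have hg1 : ∀ i, 𝒳.p.IsHomLift (𝟙 (Over.left L.W)) (g i).hom := fun i => by
    cases i
    · exact IsHomLift.id (X.w_obj L.W)
    · exact hσ
  have hδ : ∀ i i', 𝒳.p.IsHomLift (𝟙 (Over.left L.W)) (δ i i') := fun i i' => by
    have := hg1 i
    have := hg1 i'
    infer_instance
  have hδ1 : δ true false = σ := by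
    change σ ≫ 𝟙 _ = σ
    rw [Category.comp_id]
  -- the cover of `C`
  let R : Sieve (Over.left L.C) := sieve2 L.j₁.left L.j₂.left
  let j : Bool → (L.U ⟶ L.C) := fun i => bif i then L.j₁ else L.j₂
  let bb : (Stk.sieveCat R).obj → (overCat T).obj := fun a => (overMap (Over.hom L.C)).obj a.obj
  let m : ∀ (a : (Stk.sieveCat R).obj) (w : Over.left a.obj ⟶ Over.left L.W),
      w ≫ (L.v ≫ L.j₁).left = Over.hom a.obj → (bb a ⟶ L.W) := fun a w hw =>
    Over.homMk w (by
      change w ≫ Over.hom L.W = Over.hom a.obj ≫ Over.hom L.C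
      rw [← hw, Category.assoc]
      exact congrArg (w ≫ ·) (Over.w (L.v ≫ L.j₁)).symm)
  have hmonoW : Mono (L.v ≫ L.j₁).left := by
    have := L.monov
    have := L.mono₁
    rw [Over.comp_left]
    infer_instance
  have hτex : ∀ (a : (Stk.sieveCat R).obj) (i i' : Bool), ∃ t : X.obj (bb a) ⟶ X.obj (bb a),
      𝒳.p.IsHomLift (𝟙 (Over.left a.obj)) t ∧
      (∀ (w : Over.left a.obj ⟶ Over.left L.W) (hw : w ≫ (L.v ≫ L.j₁).left = Over.hom a.obj),
        t ≫ X.map (m a w hw) = X.map (m a w hw) ≫ δ i i') ∧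
      ((¬ ∃ w : Over.left a.obj ⟶ Over.left L.W, w ≫ (L.v ≫ L.j₁).left = Over.hom a.obj) →
        t = 𝟙 _) := by
    intro a i i'
    by_cases hW : ∃ w : Over.left a.obj ⟶ Over.left L.W, w ≫ (L.v ≫ L.j₁).left = Over.hom a.obj
    · obtain ⟨w, hw⟩ := hW
      have : 𝒳.p.IsHomLift w (X.map (m a w hw)) := hlift (m a w hw)
      have := hδ i i'
      have : 𝒳.p.IsHomLift w (X.map (m a w hw) ≫ δ i i') :=
        IsHomLift.comp_lift_id_right' 𝒳.p _ _ (Over.left L.W) _
      obtain ⟨t, ht, -, ht'⟩ := GalCohAux.GerbBasic.exists_fac hg w (X.map (m a w hw))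
        (X.map (m a w hw) ≫ δ i i')
      refine ⟨t, ht, fun w' hw' => ?_, fun hn => (hn ⟨w, hw⟩).elim⟩
      obtain rfl : w' = w := (cancel_mono (L.v ≫ L.j₁).left).1 (hw'.trans hw.symm)
      exact ht'
    · exact ⟨𝟙 _, IsHomLift.id (X.w_obj (bb a)), fun w hw => (hW ⟨w, hw⟩).elim, fun _ => rfl⟩
  choose τ hτv hτw hτn using hτex
  have hτext : ∀ (a : (Stk.sieveCat R).obj) (t t' : X.obj (bb a) ⟶ X.obj (bb a))
      (w : Over.left a.obj ⟶ Over.left L.W) (hw : w ≫ (L.v ≫ L.j₁).left = Over.hom a.obj),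
      𝒳.p.IsHomLift (𝟙 (Over.left a.obj)) t → 𝒳.p.IsHomLift (𝟙 (Over.left a.obj)) t' →
      t ≫ X.map (m a w hw) = t' ≫ X.map (m a w hw) → t = t' := fun a t t' w hw h1 h2 h3 => by
    have : 𝒳.p.IsStronglyCartesian w (X.map (m a w hw)) := map_sc hXsc (m a w hw)
    exact IsStronglyCartesian.ext 𝒳.p w (X.map (m a w hw)) (𝟙 (Over.left a.obj)) h3
  have hτmul : ∀ a i i' i'', τ a i i' ≫ τ a i' i'' = τ a i i'' := by
    intro a i i' i''
    by_cases hW : ∃ w : Over.left a.obj ⟶ Over.left L.W, w ≫ (L.v ≫ L.j₁).left = Over.hom a.obj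
    · obtain ⟨w, hw⟩ := hW
      have := hτv a i i'
      have := hτv a i' i''
      refine hτext a _ _ w hw inferInstance (hτv a i i'') ?_
      rw [Category.assoc, hτw a i' i'' w hw, ← Category.assoc, hτw a i i' w hw, hτw a i i'' w hw]
      simp [δ]
    · rw [hτn a i i' hW, hτn a i' i'' hW, hτn a i i'' hW, Category.comp_id]
  have hτid : ∀ a i, τ a i i = 𝟙 _ := by
    intro a i
    by_cases hW : ∃ w : Over.left a.obj ⟶ Over.left L.W, w ≫ (L.v ≫ L.j₁).left = Over.hom a.obj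
    · obtain ⟨w, hw⟩ := hW
      refine hτext a _ _ w hw (hτv a i i) (IsHomLift.id (X.w_obj (bb a))) ?_
      rw [hτw a i i w hw]
      simp [δ]
    · exact hτn a i i hW
  -- which member a test object factors through
  let Fac : (Stk.sieveCat R).obj → Bool → Prop := fun a i =>
    ∃ u : Over.left a.obj ⟶ Over.left L.U, u ≫ (j i).left = Over.hom a.obj
  have hFac : ∀ a, ∃ i, Fac a i := fun a => by
    rcases a.property with ⟨u, hu⟩ | ⟨u, hu⟩
    · exact ⟨true, u, hu⟩
    · exact ⟨false, u, hu⟩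
  choose idx hidx using hFac
  have hFacPull : ∀ {a b : (Stk.sieveCat R).obj} (_ : a ⟶ b) (i : Bool), Fac b i → Fac a i := by
    rintro a b k i ⟨u, hu⟩
    exact ⟨k.hom.left ≫ u, by rw [Category.assoc, hu]; exact Over.w k.hom⟩
  have hFacW : ∀ a (i i' : Bool), Fac a i → Fac a i' → i ≠ i' →
      ∃ w : Over.left a.obj ⟶ Over.left L.W, w ≫ (L.v ≫ L.j₁).left = Over.hom a.obj := by
    intro a i i' hi hi' hne
    have key : ∀ u u' : Over.left a.obj ⟶ Over.left L.U, u ≫ L.j₁.left = Over.hom a.obj →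
        u' ≫ L.j₂.left = Over.hom a.obj →
        ∃ w : Over.left a.obj ⟶ Over.left L.W, w ≫ (L.v ≫ L.j₁).left = Over.hom a.obj := by
      intro u u' hu hu'
      obtain ⟨w, hw, -⟩ := L.overlap u u' (hu.trans hu'.symm)
      exact ⟨w, by rw [Over.comp_left, ← Category.assoc, hw, hu]⟩
    obtain ⟨u, hu⟩ := hi
    obtain ⟨u', hu'⟩ := hi'
    cases i <;> cases i'
    · exact (hne rfl).elim
    · exact key u' u hu' hu
    · exact key u u' hu hu'
    · exact (hne rfl).elim
  let Fk : ∀ {a b : (Stk.sieveCat R).obj}, (a ⟶ b) → (bb a ⟶ bb b) := fun k =>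
    (overMap (Over.hom L.C)).map k.hom
  have hτnat : ∀ {a b : (Stk.sieveCat R).obj} (k : a ⟶ b) (i i' : Bool), Fac b i → Fac b i' →
      X.map (Fk k) ≫ τ b i i' = τ a i i' ≫ X.map (Fk k) := by
    intro a b k i i' hi hi'
    by_cases hW : ∃ w : Over.left b.obj ⟶ Over.left L.W, w ≫ (L.v ≫ L.j₁).left = Over.hom b.obj
    · obtain ⟨w, hw⟩ := hW
      have hw' : (k.hom.left ≫ w) ≫ (L.v ≫ L.j₁).left = Over.hom a.obj := by
        rw [Category.assoc, hw]; exact Over.w k.hom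
      have hcomp : Fk k ≫ m b w hw = m a (k.hom.left ≫ w) hw' := Over.OverMorphism.ext rfl
      have h1 : 𝒳.p.IsStronglyCartesian w (X.map (m b w hw)) := map_sc hXsc (m b w hw)
      have h2 : 𝒳.p.IsHomLift k.hom.left (X.map (Fk k)) := hlift (Fk k)
      have := hτv b i i'
      have := hτv a i i'
      have : 𝒳.p.IsHomLift k.hom.left (X.map (Fk k) ≫ τ b i i') :=
        IsHomLift.comp_lift_id_right' 𝒳.p _ _ (Over.left b.obj) _
      have : 𝒳.p.IsHomLift k.hom.left (τ a i i' ≫ X.map (Fk k)) :=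
        IsHomLift.comp_lift_id_left' 𝒳.p (Over.left a.obj) _ _ _
      apply IsStronglyCartesian.ext 𝒳.p w (X.map (m b w hw)) k.hom.left
      rw [Category.assoc, hτw b i i' w hw, ← Category.assoc, ← Functor.map_comp, hcomp,
        ← hτw a i i' _ hw', ← hcomp, Functor.map_comp, Category.assoc]
    · obtain rfl : i = i' := by_contra fun hne => hW (hFacW b i i' hi hi' hne)
      rw [hτid, hτid, Category.comp_id, Category.id_comp]
  -- the descent datum
  let G₀ : (Stk.sieveCat R).obj ⥤ 𝒳.obj :=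
    { obj := fun a => X.obj (bb a)
      map := fun {a b} k => τ a (idx a) (idx b) ≫ X.map (Fk k)
      map_id := fun a => by
        rw [hτid, Category.id_comp]
        change X.map ((overMap (Over.hom L.C)).map (𝟙 a.obj)) = _
        rw [CategoryTheory.Functor.map_id, CategoryTheory.Functor.map_id]
      map_comp := fun {a b c} k l => by
        have h1 : Fk (k ≫ l) = Fk k ≫ Fk l := (overMap (Over.hom L.C)).toFunctor.map_comp _ _
        rw [h1, Functor.map_comp, Category.assoc, ← Category.assoc (X.map (Fk k)),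
          hτnat k _ _ (hidx b) (hFacPull l _ (hidx c))]
        simp only [← Category.assoc]
        rw [hτmul] }
  have hG₀ : ∀ {a b : (Stk.sieveCat R).obj} (k : a ⟶ b),
      𝒳.p.IsHomLift k.hom.left (G₀.map k) := fun {a b} k => by
    have := hτv a (idx a) (idx b)
    have : 𝒳.p.IsHomLift k.hom.left (X.map (Fk k)) := hlift (Fk k)
    exact IsHomLift.comp_lift_id_left' 𝒳.p (Over.left a.obj) _ _ _
  let Φ : Stk.sieveCat R ⥤ᵇ 𝒳 :=
    ⟨G₀, CategoryTheory.Functor.ext (fun a => X.w_obj (bb a)) (fun a b k => by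
      have := hG₀ k
      exact IsHomLift.fac' 𝒳.p k.hom.left (G₀.map k))⟩
  have : (Stk.resSieve R 𝒳).IsEquivalence := h.2 R L.cov
  let Ψ := (Stk.resSieve R 𝒳).objPreimage Φ
  let ε : (Stk.resSieve R 𝒳).obj Ψ ≅ Φ := (Stk.resSieve R 𝒳).objObjPreimageIso Φ
  let ψ : ∀ a : (Stk.sieveCat R).obj, G₀.obj a ⟶ Ψ.obj (overTop (Over.left L.C)) := fun a =>
    ε.inv.toNatTrans.app a ≫ Ψ.map (toTop a.obj)
  have hψ : ∀ a, 𝒳.p.IsHomLift (Over.hom a.obj) (ψ a) := fun a => by
    have : 𝒳.p.IsHomLift (𝟙 (Over.left a.obj)) (ε.inv.toNatTrans.app a) :=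
      BasedNatTrans.app_isHomLift ε.inv a
    have : 𝒳.p.IsHomLift (Over.hom a.obj) (Ψ.map (toTop a.obj)) := map_lift Ψ (toTop a.obj)
    exact IsHomLift.comp_lift_id_left' 𝒳.p (Over.left a.obj) _ _ _
  have hψnat : ∀ {a b : (Stk.sieveCat R).obj} (k : a ⟶ b), G₀.map k ≫ ψ b = ψ a := by
    intro a b k
    have h1 : G₀.map k ≫ ε.inv.toNatTrans.app b =
        ε.inv.toNatTrans.app a ≫ Ψ.map k.hom := ε.inv.toNatTrans.naturality k
    have h2 : k.hom ≫ toTop b.obj = toTop a.obj := Over.OverMorphism.ext (Over.w k.hom)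
    simp only [ψ]
    rw [← Category.assoc, h1, Category.assoc, ← Functor.map_comp, h2]
  -- separatedness identifies the glued object with the pullback of `x`
  let aI : Bool → (Stk.sieveCat R).obj := fun i => ⟨Over.mk (j i).left, by
    cases i
    · exact Or.inr ⟨𝟙 _, Category.id_comp _⟩
    · exact Or.inl ⟨𝟙 _, Category.id_comp _⟩⟩
  let κ : ∀ i : Bool, L.U ⟶ bb (aI i) := fun i =>
    Over.homMk (𝟙 (Over.left L.U)) ((Category.id_comp _).trans (Over.w (j i)))
  obtain ⟨y, b₂, hb₂⟩ : ∃ (y : 𝒳.obj) (b₂ : y ⟶ Ψ.obj (overTop (Over.left L.C))),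
      𝒳.p.IsHomLift L.π.left b₂ := by
    have hy : 𝒳.p.obj (Ψ.obj (overTop (Over.left L.C))) = Over.left L.C :=
      Ψ.w_obj (overTop (Over.left L.C))
    obtain ⟨y, φ, hφ⟩ := hg.exists_lift (L.π.left ≫ eqToHom hy.symm)
    exact ⟨y, φ, (IsHomLift.lift_comp_eqToHom_iff 𝒳.p _ φ _).1 hφ⟩
  have hpiece : ∀ i : Bool, ∃ f : X.obj L.U ⟶ y,
      𝒳.p.IsHomLift (bif i then L.i₁ else L.i₂).left f := by
    intro i
    have : 𝒳.p.IsHomLift (𝟙 (Over.left L.U)) (X.map (κ i)) := hlift (κ i)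
    have : 𝒳.p.IsHomLift (j i).left (ψ (aI i)) := hψ (aI i)
    have hgI : 𝒳.p.IsHomLift (j i).left (X.map (κ i) ≫ ψ (aI i)) :=
      IsHomLift.comp_lift_id_left' 𝒳.p (Over.left L.U) _ _ _
    obtain ⟨f, hf, -⟩ := exists_factor' hg L.π.left b₂ hb₂ (X.map (κ i) ≫ ψ (aI i))
      (bif i then L.i₁ else L.i₂).left (j i).left hgI (by
        cases i
        · exact congrArg Over.Hom.left L.hπ₂
        · exact congrArg Over.Hom.left L.hπ₁)
    exact ⟨f, hf⟩
  obtain ⟨f₁, hf₁⟩ := hpiece true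
  obtain ⟨f₂, hf₂⟩ := hpiece false
  have hy' : 𝒳.p.obj y = Over.left L.P := IsHomLift.domain_eq 𝒳.p L.π.left b₂
  have := L.monoi₁
  have := L.monoi₂
  obtain ⟨ω, hω, -, -⟩ := exists_glue_disjoint hP hd L.i₁.left L.i₂.left L.covP L.disjP
    (X.w_obj L.P) hy' (X.map L.i₁) (hlift _) f₁ hf₁ (X.map L.i₂) (hlift _) f₂ hf₂
  let x₁ : 𝒳.p.Fiber (Over.left L.C) := ⟨X.obj L.C, X.w_obj L.C⟩
  let x₂ : 𝒳.p.Fiber (Over.left L.C) :=
    ⟨Ψ.obj (overTop (Over.left L.C)), Ψ.w_obj (overTop (Over.left L.C))⟩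
  let p₁ : 𝒳.p.Fiber (Over.left L.P) := ⟨X.obj L.P, X.w_obj L.P⟩
  let p₂ : 𝒳.p.Fiber (Over.left L.P) := ⟨y, hy'⟩
  obtain ⟨φ⟩ : Nonempty (x₁ ≅ x₂) := by
    have := L.flat
    have := L.surj
    have := L.lfp
    exact hsep _ _ L.π.left x₁ x₂ p₁ p₂ (X.map L.π) b₂ (hlift _) hb₂
      (fiber_iso_of_hom hg (x := p₁) (y := p₂) ω hω)
  let ξ : ∀ a : (Stk.sieveCat R).obj, G₀.obj a ⟶ X.obj L.C := fun a => ψ a ≫ φ.inv.1
  have hξ : ∀ a, 𝒳.p.IsHomLift (Over.hom a.obj) (ξ a) := fun a => by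
    have := hψ a
    have : 𝒳.p.IsHomLift (𝟙 (Over.left L.C)) φ.inv.1 := φ.inv.2
    exact IsHomLift.comp_lift_id_right' 𝒳.p _ _ (Over.left L.C) _
  have hξnat : ∀ {a b : (Stk.sieveCat R).obj} (k : a ⟶ b), G₀.map k ≫ ξ b = ξ a := fun k => by
    simp only [ξ]
    rw [← Category.assoc, hψnat]
  let ξ' : ∀ i : Bool, X.obj (bb (aI i)) ⟶ X.obj L.C := fun i =>
    τ (aI i) i (idx (aI i)) ≫ ξ (aI i)
  -- factor the two comparison maps
  have hE : ∀ i : Bool, ∃ E : X.obj L.U ⟶ X.obj L.U,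
      𝒳.p.IsHomLift (𝟙 (Over.left L.U)) E ∧ IsIso E ∧
        E ≫ X.map (j i) = X.map (κ i) ≫ ξ' i := by
    intro i
    have : 𝒳.p.IsHomLift (𝟙 (Over.left L.U)) (X.map (κ i)) := hlift (κ i)
    have : 𝒳.p.IsHomLift (j i).left (ξ (aI i)) := hξ (aI i)
    have : 𝒳.p.IsHomLift (𝟙 (Over.left L.U)) (τ (aI i) i (idx (aI i))) := hτv (aI i) i (idx (aI i))
    have : 𝒳.p.IsHomLift (j i).left (ξ' i) :=
      IsHomLift.comp_lift_id_left' 𝒳.p (Over.left L.U) _ _ _
    have : 𝒳.p.IsHomLift (j i).left (X.map (κ i) ≫ ξ' i) :=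
      IsHomLift.comp_lift_id_left' 𝒳.p (Over.left L.U) _ _ _
    have := hlift (j i)
    exact GalCohAux.GerbBasic.exists_fac hg (j i).left (X.map (j i)) (X.map (κ i) ≫ ξ' i)
  choose E hEv hEiso hE' using hE
  -- the relation over `W`
  let aW : (Stk.sieveCat R).obj := ⟨Over.mk (L.v ≫ L.j₁).left,
    Or.inl ⟨L.v.left, rfl⟩⟩
  let kI : ∀ i : Bool, aW ⟶ aI i := fun i => ObjectProperty.homMk (Over.homMk L.v.left (by
    cases i
    · exact congrArg Over.Hom.left L.glue.symm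
    · rfl))
  let κW : L.W ⟶ bb aW := Over.homMk (𝟙 (Over.left L.W))
    ((Category.id_comp _).trans (Over.w (L.v ≫ L.j₁)))
  have hκ : ∀ i, κW ≫ Fk (kI i) = L.v ≫ κ i := fun i =>
    Over.OverMorphism.ext ((Category.id_comp _).trans (Category.comp_id _).symm)
  have hτW : X.map κW ≫ τ aW true false = σ ≫ X.map κW := by
    have hw : (𝟙 (Over.left L.W)) ≫ (L.v ≫ L.j₁).left = Over.hom aW.obj := Category.id_comp _
    have hm : κW ≫ m aW _ hw = 𝟙 L.W := Over.OverMorphism.ext (Category.id_comp _)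
    have : IsIso (m aW _ hw) := ⟨κW, Over.OverMorphism.ext (Category.id_comp _), hm⟩
    rw [← cancel_mono (X.map (m aW _ hw)), Category.assoc, hτw aW true false _ hw, hδ1,
      ← Category.assoc, ← Functor.map_comp, hm, CategoryTheory.Functor.map_id, Category.id_comp,
      Category.assoc, ← Functor.map_comp, hm, CategoryTheory.Functor.map_id, Category.comp_id]
  have hk : X.map (Fk (kI true)) ≫ ξ' true = τ aW true false ≫ X.map (Fk (kI false)) ≫ ξ' false := by
    have e : ∀ i, X.map (Fk (kI i)) ≫ ξ' i = τ aW i (idx aW) ≫ ξ aW := fun i => by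
      have hi : Fac (aI i) i := ⟨𝟙 _, Category.id_comp _⟩
      rw [← hξnat (kI i)]
      change X.map (Fk (kI i)) ≫ τ (aI i) i (idx (aI i)) ≫ ξ (aI i) =
        τ aW i (idx aW) ≫ (τ aW (idx aW) (idx (aI i)) ≫ X.map (Fk (kI i))) ≫ ξ (aI i)
      rw [← Category.assoc, hτnat (kI i) _ _ hi (hidx _)]
      simp only [← Category.assoc]
      rw [hτmul]
    rw [e, e, ← Category.assoc (τ aW true false), hτmul]
  have hrel : X.map L.v ≫ E true ≫ X.map L.j₁ =
      σ ≫ X.map L.v ≫ E false ≫ X.map L.j₂ := by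
    rw [show E true ≫ X.map L.j₁ = _ from hE' true, show E false ≫ X.map L.j₂ = _ from hE' false,
      ← Category.assoc (X.map L.v), ← Functor.map_comp, ← hκ, Functor.map_comp, Category.assoc,
      hk, ← Category.assoc, hτW, Category.assoc, ← Category.assoc (X.map κW), ← Functor.map_comp,
      hκ, Functor.map_comp, Category.assoc]
  have hlv := hlift L.v
  have hvE : ∀ i, 𝒳.p.IsHomLift L.v.left (X.map L.v ≫ E i) := fun i => by
    have := hEv i
    exact IsHomLift.comp_lift_id_right' 𝒳.p _ _ (Over.left L.U) _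
  have hrel' : X.map L.v ≫ E true = σ ≫ X.map L.v ≫ E false := by
    have := hvE true
    have := hvE false
    have h2 : 𝒳.p.IsHomLift L.v.left (σ ≫ X.map L.v ≫ E false) :=
      IsHomLift.comp_lift_id_left' 𝒳.p (Over.left L.W) _ _ _
    obtain ⟨θ₁, hθ₁, -, e₁⟩ :=
      GalCohAux.GerbBasic.exists_fac hg L.v.left (X.map L.v) (X.map L.v ≫ E true)
    obtain ⟨θ₂, hθ₂, -, e₂⟩ :=
      GalCohAux.GerbBasic.exists_fac hg L.v.left (X.map L.v) (σ ≫ X.map L.v ≫ E false)
    have : θ₁ = θ₂ := by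
      have := map_sc hXsc (L.v ≫ L.j₁)
      apply IsStronglyCartesian.ext 𝒳.p (L.v ≫ L.j₁).left (X.map (L.v ≫ L.j₁))
        (𝟙 (Over.left L.W))
      conv_rhs => rw [L.glue]
      simp only [Functor.map_comp, ← Category.assoc]
      rw [e₁, e₂]
      simp only [Category.assoc]
      exact hrel
    rw [← e₁, ← e₂, this]
  -- along the two lines
  have hA : ∀ (i : Bool) (l : L.A ⟶ L.U), 𝒳.p.IsHomLift l.left (X.map l ≫ E i) := fun i l => by
    have := hlift l
    have := hEv i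
    exact IsHomLift.comp_lift_id_right' 𝒳.p _ _ (Over.left L.U) _
  have hSA : 𝒳.p.IsHomLift L.lb.left (α.toNatTrans.app L.A ≫ X.map L.lb ≫ E false) := by
    have := hA false L.lb
    have := hS L.A
    exact IsHomLift.comp_lift_id_left' 𝒳.p (Over.left L.A) _ _ _
  have := L.dense
  have ea : X.map L.la ≫ E true = X.map L.la ≫ E false := by
    refine hom_eq_of_dense hg hd L.la.left _ _ (hA true L.la) (hA false L.la) L.d.left (X.map L.d)
      (hlift L.d) ?_
    simp only [← Category.assoc, ← Functor.map_comp, L.hda]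
    simp only [Functor.map_comp, Category.assoc, hrel']
    rw [← Category.assoc (X.map L.wa) σ, hσa]
  have eb : X.map L.lb ≫ E true = α.toNatTrans.app L.A ≫ X.map L.lb ≫ E false := by
    refine hom_eq_of_dense hg hd L.lb.left _ _ (hA true L.lb) hSA L.d.left (X.map L.d)
      (hlift L.d) ?_
    calc X.map L.d ≫ X.map L.lb ≫ E true
        = X.map L.db ≫ X.map L.wb ≫ X.map L.v ≫ E true := by
          rw [← Category.assoc, ← Functor.map_comp, L.hdb]
          simp only [Functor.map_comp, Category.assoc]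
      _ = X.map L.db ≫ X.map L.wb ≫ α.toNatTrans.app L.W ≫ X.map L.v ≫ E false := by
          rw [hrel', ← Category.assoc (X.map L.wb) σ, hσb, Category.assoc]
      _ = α.toNatTrans.app L.D ≫ (X.map L.db ≫ X.map L.wb ≫ X.map L.v) ≫ E false := by
          rw [← Category.assoc (X.map L.wb) (α.toNatTrans.app L.W), hnat]
          simp only [← Category.assoc]
          rw [hnat]
      _ = α.toNatTrans.app L.D ≫ (X.map L.d ≫ X.map L.lb) ≫ E false := by
          rw [← Functor.map_comp, ← Functor.map_comp, ← L.hdb, Functor.map_comp]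
      _ = X.map L.d ≫ α.toNatTrans.app L.A ≫ X.map L.lb ≫ E false := by
          simp only [← Category.assoc]
          rw [hnat]
  have h0 : X.map (L.o ≫ L.la) ≫ E false =
      α.toNatTrans.app (overTop T) ≫ X.map (L.o ≫ L.la) ≫ E false := by
    calc X.map (L.o ≫ L.la) ≫ E false
        = X.map (L.o ≫ L.la) ≫ E true := by
          rw [Functor.map_comp, Category.assoc, ← ea, Category.assoc]
      _ = X.map L.o ≫ X.map L.lb ≫ E true := by rw [L.ho, Functor.map_comp, Category.assoc]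
      _ = X.map L.o ≫ α.toNatTrans.app L.A ≫ X.map L.lb ≫ E false := by rw [eb]
      _ = α.toNatTrans.app (overTop T) ≫ X.map (L.o ≫ L.la) ≫ E false := by
          rw [L.ho, Functor.map_comp, ← Category.assoc, hnat]
          simp only [Category.assoc]
  have := hEiso false
  rw [← Category.assoc, cancel_mono] at h0
  have := map_sc hXsc (L.o ≫ L.la)
  have : 𝒳.p.IsHomLift (𝟙 (Over.left (overTop T))) (α.toNatTrans.app (overTop T)) := hS _
  have : 𝒳.p.IsHomLift (𝟙 (Over.left (overTop T))) (𝟙 (X.obj (overTop T))) :=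
    IsHomLift.id (X.w_obj _)
  exact IsStronglyCartesian.ext 𝒳.p (L.o ≫ L.la).left (X.map (L.o ≫ L.la))
    (𝟙 (Over.left (overTop T))) (by rw [Category.id_comp]; exact h0.symm)

end Groth.Agent.IsoCls
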