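import Groth.Agent.IsoCls.Abelian

/-!
The double of an open immersion, and transfer of surjectivity of restriction of automorphisms along
an isomorphism of presheaves of isomorphism classes.
-/

set_option autoImplicit false
set_option linter.unusedVariables false
set_option backward.isDefEq.respectTransparency false
set_option backward.isDefEq.respectTransparency.types false

universe u

open CategoryTheory CategoryTheory.Limits AlgebraicGeometry FibCat
open CategoryTheory.Functor Groth.Agent.FibC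

namespace Groth.Agent.IsoCls

variable {S : Scheme.{u}}

/-- Two copies of `w` glued along the open part `w'`. -/
theorem exists_double {U : Over S} {w' w : (overCat U).obj} (κ : w' ⟶ w)
    [IsOpenImmersion κ.left.left] :
    ∃ (C : (overCat U).obj) (j₁ j₂ : w ⟶ C), Mono j₁.left ∧ Mono j₂.left ∧
      sieve2 j₁.left j₂.left ∈ AlgSp.J S C.left ∧ κ ≫ j₁ = κ ≫ j₂ ∧
      ∀ {V : Over S} (a b : V ⟶ w.left), a ≫ j₁.left = b ≫ j₂.left →
        ∃ d : V ⟶ w'.left, d ≫ κ.left = a ∧ d ≫ κ.left = b := by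
  let i : (Over.left w').left ⟶ (Over.left w).left := κ.left.left
  let zw : (Over.left w).left ⟶ U.left := (Over.hom w).left
  let C₀ := pushout i i
  let jl : (Over.left w).left ⟶ C₀ := pushout.inl i i
  let jr : (Over.left w).left ⟶ C₀ := pushout.inr i i
  let zC : C₀ ⟶ U.left := pushout.desc zw zw rfl
  have hjl : jl ≫ zC = zw := pushout.inl_desc _ _ _
  have hjr : jr ≫ zC = zw := pushout.inr_desc _ _ _
  have hl : IsOpenImmersion jl :=
    inferInstanceAs (IsOpenImmersion (colimit.ι (span i i) WalkingSpan.left))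
  have hr : IsOpenImmersion jr :=
    inferInstanceAs (IsOpenImmersion (colimit.ι (span i i) WalkingSpan.right))
  have hcovC : ∀ x : C₀, x ∈ Set.range jl ∨ x ∈ Set.range jr := by
    intro x
    obtain ⟨(_ | _ | _), y, rfl⟩ := Scheme.IsLocallyDirected.ι_jointly_surjective (span i i) x
    · refine Or.inl ⟨i y, ?_⟩
      rw [← Scheme.Hom.comp_apply]
      exact congrArg (fun f : _ ⟶ C₀ => f y) (colimit.w (span i i) WalkingSpan.Hom.fst)
    · exact Or.inl ⟨y, rfl⟩
    · exact Or.inr ⟨y, rfl⟩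
  have hinter : ∀ a b, jl a = jr b → a ∈ Set.range i := by
    intro a b h
    obtain ⟨k, fi, fj, x, hx, -⟩ := (Scheme.IsLocallyDirected.ι_eq_ι_iff (span i i)
      (i := WalkingSpan.left) (j := WalkingSpan.right)).1 h
    rcases k with (_ | _ | _)
    · cases fi
      exact ⟨x, hx⟩
    · cases fj
    · cases fi
  let C : (overCat U).obj := mk2 zC
  let mk : ∀ (f : (Over.left w).left ⟶ C₀), f ≫ zC = zw → (w ⟶ C) := fun f hf =>
    Over.homMk (Over.homMk f (by
      change f ≫ zC ≫ U.hom = (Over.left w).hom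
      rw [← Category.assoc, hf]
      exact Over.w (Over.hom w))) (Over.OverMorphism.ext hf)
  let j₁ : w ⟶ C := mk jl hjl
  let j₂ : w ⟶ C := mk jr hjr
  have : IsOpenImmersion j₁.left.left := hl
  have : IsOpenImmersion j₂.left.left := hr
  refine ⟨C, j₁, j₂, mono_of_left _, mono_of_left _, sieve2_mem _ _ hcovC,
    Over.OverMorphism.ext (Over.OverMorphism.ext pushout.condition), ?_⟩
  intro V a b h
  have h' : a.left ≫ jl = b.left ≫ jr := congrArg Over.Hom.left h
  have hr' : Set.range a.left ⊆ Set.range i := by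
    rintro _ ⟨x, rfl⟩
    exact hinter _ (b.left x) (congrArg (fun f : V.left ⟶ C₀ => f x) h')
  have hw := IsOpenImmersion.lift_fac i a.left hr'
  have hw' : IsOpenImmersion.lift i a.left hr' ≫ i = b.left := by
    rw [← cancel_mono jr, Category.assoc]
    change _ ≫ i ≫ pushout.inr i i = _
    rw [← pushout.condition, ← Category.assoc, hw]
    exact h'
  exact ⟨Over.homMk (IsOpenImmersion.lift i a.left hr') (by
    rw [← Over.w a, ← Over.w κ.left]
    change _ ≫ i ≫ _ = _
    rw [← Category.assoc, hw]),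
    Over.OverMorphism.ext hw, Over.OverMorphism.ext hw'⟩

/-- Surjectivity of restriction of automorphisms to an open part only depends on the presheaf of
isomorphism classes. -/
theorem res_surjective_of_fIso {𝒳 𝒴 : AlgSt.Cat S} (h𝒳 : Stk.IsStack (AlgSp.J S) 𝒳)
    (h𝒴 : Stk.IsStack (AlgSp.J S) 𝒴) (φ : IsoNat.FIso 𝒳 𝒴) {U : Over S}
    (X : overCat U ⥤ᵇ 𝒳) (Y : overCat U ⥤ᵇ 𝒴)
    (hcls : φ.toEquiv U (IsoNat.cls (vfib X (overTop U))) = IsoNat.cls (vfib Y (overTop U)))
    {w' w : (overCat U).obj} (κ : w' ⟶ w) [IsOpenImmersion κ.left.left]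
    (h : Function.Surjective (res h𝒳.1 X κ)) : Function.Surjective (res h𝒴.1 Y κ) := by
  intro σ
  have hgX : IsFibGrpd 𝒳.p := h𝒳.1
  have hgY : IsFibGrpd 𝒴.p := h𝒴.1
  have hPX := StkLib.isPrestack_of_isStack h𝒳
  obtain ⟨C, j₁, j₂, hm₁, hm₂, hcov, hglue, hov⟩ := exists_double κ
  let L : Double (AlgSp.J S) U :=
    { C := C, U := w, W := w', j₁ := j₁, j₂ := j₂, mono₁ := hm₁, mono₂ := hm₂, cov := hcov
      v := κ, monov := mono_of_left _, glue := hglue, overlap := hov }
  have hb : ∀ b : (overCat U).obj,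
      φ.toEquiv (Over.left b) (IsoNat.cls (vfib X b)) = IsoNat.cls (vfib Y b) := fun b =>
    toEquiv_eq_of_lifts hgY φ (toTop b).left (X.map (toTop b)) (Y.map (toTop b))
      (map_lift X (toTop b)) (map_lift Y (toTop b)) hcls
  -- the glued object corresponding to `σ`
  obtain ⟨Z, hZ⟩ := exists_twist h𝒴 L Y σ
  let xC : 𝒳.p.Fiber (Over.left L.C) := ((φ.toEquiv _).symm (IsoNat.cls Z.fib)).out
  have hxC : φ.toEquiv _ (IsoNat.cls xC) = IsoNat.cls Z.fib :=
    (congrArg (φ.toEquiv _) (Quotient.out_eq _)).trans (Equiv.apply_symm_apply _ _)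
  obtain ⟨f₁, hf₁⟩ := exists_hom_of_cls hgX hgY φ L.j₁.left (x' := vfib X w) (x := xC)
    (y' := vfib Y w) (y := Z.fib) Z.f₁ Z.hf₁ (hb w) hxC
  obtain ⟨f₂, hf₂⟩ := exists_hom_of_cls hgX hgY φ L.j₂.left (x' := vfib X w) (x := xC)
    (y' := vfib Y w) (y := Z.fib) Z.f₂ Z.hf₂ (hb w) hxC
  obtain ⟨Z', hZ'⟩ := exists_twist_of_triv hgX L X xC.2 f₁ f₂ hf₁ hf₂
  -- the trivial glued objects
  let T₀ : Twist L X :=
    ⟨X.obj L.C, X.w_obj _, X.map L.j₁, X.map L.j₂, map_lift X _, map_lift X _, 1, by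
      rw [VA.one_hom, Category.id_comp, ← Functor.map_comp, ← Functor.map_comp, L.glue]⟩
  let Y₀ : Twist L Y :=
    ⟨Y.obj L.C, Y.w_obj _, Y.map L.j₁, Y.map L.j₂, map_lift Y _, map_lift Y _, 1, by
      rw [VA.one_hom, Category.id_comp, ← Functor.map_comp, ← Functor.map_comp, L.glue]⟩
  obtain ⟨e, he⟩ := h Z'.σ
  obtain ⟨ψ, hψ⟩ := Twist.exists_hom hPX T₀ Z' 1 e (by
    change Z'.σ * res hgX X κ 1 = res hgX X κ e * 1
    rw [map_one, mul_one, mul_one, he])
  obtain ⟨i⟩ : Nonempty (vfib X L.C ≅ xC) :=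
    fiber_iso_of_hom hgX (x := vfib X L.C) (y := xC) (ψ ≫ eqToHom hZ')
      (have := hψ; inferInstance)
  have hY : IsoNat.cls Z.fib = IsoNat.cls (vfib Y L.C) := by
    rw [← hxC, ← hb L.C]
    exact congrArg _ (Quotient.sound ⟨i.symm⟩)
  obtain ⟨k⟩ := iso_of_cls_eq hY
  obtain ⟨E₁, E₂, hE⟩ := Twist.exists_coboundary hgY Z Y₀ k.hom.1 k.hom.2
  refine ⟨E₂⁻¹ * E₁, ?_⟩
  change (1 : VA Y w') * res hgY Y κ E₁ = res hgY Y κ E₂ * Z.σ at hE
  rw [one_mul, hZ] at hE
  rw [map_mul, _root_.map_inv, hE, inv_mul_cancel_left]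

end Groth.Agent.IsoCls
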