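import Groth.Agent.IsoCls.UnramChart
import Groth.Agent.IsoCls.ChartTransfer
import Groth.Agent.StFib.Props

/-!
Étaleness of charts is detected by isomorphism classes.
-/

set_option autoImplicit false
set_option linter.unusedVariables false
set_option backward.isDefEq.respectTransparency false
set_option backward.isDefEq.respectTransparency.types false

universe u

open CategoryTheory CategoryTheory.Limits AlgebraicGeometry Opposite FibCat
open Groth.Agent.FibC

namespace Groth.Agent.IsoCls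

open Groth.Agent.StFib

variable {S : Scheme.{u}} {𝒳 𝒴 : AlgSt.Cat S} {U : Over S}

theorem repByAlgSpWith_locP_etale {x : overCat U ⥤ᵇ 𝒳}
    (hx : AlgSt.RepByAlgSpWith AlgSp.IsEtaleMor x) :
    AlgSt.RepByAlgSpWith (AlgSp.LocP @Etale) x :=
  StFib.repByAlgSpWith_mono hx fun F V a ha =>
    (Groth.Agent.AlgSpCov.isEtaleMor_iff_locP_etale F.property (isAlgSpace_yon V)).1 ha

theorem repByAlgSpWith_lfp_of_etale {x : overCat U ⥤ᵇ 𝒳}
    (hx : AlgSt.RepByAlgSpWith AlgSp.IsEtaleMor x) :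
    AlgSt.RepByAlgSpWith (AlgSp.LocP @LocallyOfFinitePresentation) x :=
  StFib.repByAlgSpWith_mono (repByAlgSpWith_locP_etale hx) fun F V a ha U' V' a' b' h' ha' hb' w => by
    have : Etale h'.left := ha a' b' h' ha' hb' w
    exact inferInstance

/-- The chart corresponding to an étale chart is étale. -/
theorem repByAlgSpWith_etale_of_corr (h𝒳 : Stk.IsStack (AlgSp.J S) 𝒳)
    (h𝒴 : AlgSt.IsAlgStack Scheme.fppfPrecoverage 𝒴)
    (h𝒴d : AlgSt.RepByAlgSpWith (AlgSp.IsSeparatedMor ⊓ AlgSp.IsQuasiCompactMor) (diag (toSelf 𝒴)))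
    (h𝒴i : AlgSt.RepByAlgSpWith (AlgSp.LocP @LocallyOfFinitePresentation) (inertiaToBase (toSelf 𝒴)))
    (φ : IsoNat.FIso 𝒳 𝒴) {x : overCat U ⥤ᵇ 𝒳} {y : overCat U ⥤ᵇ 𝒴}
    (hxy : φ.toEquiv U (IsoNat.cls (vfib x (overTop U))) = IsoNat.cls (vfib y (overTop U)))
    (hx : AlgSt.RepByAlgSpWith AlgSp.IsEtaleMor x) :
    AlgSt.RepByAlgSpWith AlgSp.IsEtaleMor y := by
  have hxe := repByAlgSpWith_locP_etale hx
  have hs := repByAlgSpWith_smooth_of_corr h𝒳.1 h𝒴 h𝒴i φ hxy
    (StFib.repByAlgSpWith_mono hxe fun F V a ha U' V' a' b' h' ha' hb' w => by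
      have : Etale h'.left := ha a' b' h' ha' hb' w
      exact inferInstance)
  have hu := fun V v F e he => locP_unramified_of_corr (V := V) h𝒳 h𝒴.isStack
    (diag_diag_isClosedImm (StFib.repByAlgSpWith_mono h𝒴d (fun _ _ _ h => h.1))) φ hxy
    (StFib.repByAlgSpWith_mono hxe fun F V a ha U' V' a' b' h' ha' hb' w => by
      have : Etale h'.left := ha a' b' h' ha' hb' w
      exact ⟨inferInstance, inferInstance⟩) v F e he
  intro V v
  obtain ⟨F, e, he, hsm⟩ := hs V v
  refine ⟨F, e, he, (Groth.Agent.AlgSpCov.isEtaleMor_iff_locP_etale F.property (isAlgSpace_yon V)).2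
    fun U' V' a' b' h' ha' hb' w => ?_⟩
  have : Smooth h'.left := hsm a' b' h' ha' hb' w
  have : FormallyUnramified h'.left := by
    exact ((hu V v F e he) (locP_lfp_of_corr h𝒳.1 h𝒴.isStack.1 h𝒴i φ hxy
      (repByAlgSpWith_lfp_of_etale hx) v F e he) a' b' h' ha' hb' w).2
  exact Etale.of_formallyUnramified_of_flat _

end Groth.Agent.IsoCls
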