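import Groth.Agent.IsoCls.ExtHom
import Groth.Agent.FibC.Fiber

/-!
Stacks with charts having the same morphisms between their values are equivalent.
-/

set_option autoImplicit false
set_option linter.unusedVariables false
set_option backward.isDefEq.respectTransparency false
set_option backward.isDefEq.respectTransparency.types false

universe v₃ u₃ v₂ u₂ v u

open CategoryTheory CategoryTheory.Limits FibCat
open CategoryTheory.Functor Groth.Agent.FibC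

namespace Groth.Agent.IsoCls

variable {C : Type u} [Category.{v} C] {J : GrothendieckTopology C}
  {𝒳 : BasedCategory.{v₂, u₂} C} {𝒴 : BasedCategory.{v₃, u₃} C} {U : C}
  {x : overCat U ⥤ᵇ 𝒳} {y : overCat U ⥤ᵇ 𝒴}

/-- An identification of the morphisms between the values of two charts. -/
structure Transfer (x : overCat U ⥤ᵇ 𝒳) (y : overCat U ⥤ᵇ 𝒴) where
  /-- the identification -/
  toEquiv : ∀ a b : (overCat U).obj, (x.obj a ⟶ x.obj b) ≃ (y.obj a ⟶ y.obj b)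
  lift : ∀ (a b : (overCat U).obj) (m : x.obj a ⟶ x.obj b) {R T : C} (f : R ⟶ T),
    𝒳.p.IsHomLift f m → 𝒴.p.IsHomLift f (toEquiv a b m)
  map_comp : ∀ (a b c : (overCat U).obj) (m : x.obj a ⟶ x.obj b) (n : x.obj b ⟶ x.obj c),
    toEquiv a c (m ≫ n) = toEquiv a b m ≫ toEquiv b c n

theorem Transfer.map_id (Ψ : Transfer x y) (a : (overCat U).obj) :
    Ψ.toEquiv a a (𝟙 _) = 𝟙 _ := by
  obtain ⟨n, hn⟩ := (Ψ.toEquiv a a).surjective (𝟙 _)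
  have h := Ψ.map_comp a a a n (𝟙 _)
  rw [Category.comp_id, hn, Category.id_comp] at h
  exact h.symm

/-- The inverse identification. -/
def Transfer.symm (Ψ : Transfer x y) : Transfer y x where
  toEquiv a b := (Ψ.toEquiv a b).symm
  lift a b m R T f hf := by
    obtain ⟨n, rfl⟩ := (Ψ.toEquiv a b).surjective m
    rw [Equiv.symm_apply_apply]
    obtain rfl : Over.left a = R := (y.w_obj a).symm.trans (IsHomLift.domain_eq 𝒴.p f (Ψ.toEquiv a b n))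
    obtain rfl : 𝒳.p.obj (x.obj b) = T := ((x.w_obj b).trans (y.w_obj b).symm).trans
      (IsHomLift.codomain_eq 𝒴.p f (Ψ.toEquiv a b n))
    rw [lift_unique hf (Ψ.lift a b n _ (lift_baseHom x n))]
    exact lift_baseHom x n
  map_comp a b c m n := by
    apply (Ψ.toEquiv a c).injective
    rw [Equiv.apply_symm_apply, Ψ.map_comp, Equiv.apply_symm_apply, Equiv.apply_symm_apply]

/-- An object corresponding to a given one. -/
structure Ext (Ψ : Transfer x y) (ξ : 𝒳.obj) where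
  /-- the object -/
  η : 𝒴.obj
  hη : 𝒴.p.obj η = 𝒳.p.obj ξ
  /-- the correspondence of morphisms into it -/
  θ : ∀ a : (overCat U).obj, (x.obj a ⟶ ξ) → (y.obj a ⟶ η)
  lift : ∀ (a : (overCat U).obj) (m : x.obj a ⟶ ξ) {V : C} (f : V ⟶ 𝒳.p.obj ξ),
    𝒳.p.IsHomLift f m → 𝒴.p.IsHomLift f (θ a m)
  nat : ∀ (a b : (overCat U).obj) (k : x.obj b ⟶ x.obj a) (m : x.obj a ⟶ ξ),
    θ b (k ≫ m) = Ψ.toEquiv b a k ≫ θ a m

variable {Ψ : Transfer x y}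

theorem Ext.inj (h𝒳 : IsFibGrpd 𝒳.p) (h𝒴 : IsFibGrpd 𝒴.p) {ξ : 𝒳.obj} (E : Ext Ψ ξ)
    (a : (overCat U).obj) : Function.Injective (E.θ a) := by
  intro m m' h
  have hf := lift_baseHom x m
  have hθ := E.lift a m _ hf
  have hf' := lift_baseHom x m'
  have he : baseHom x m' = baseHom x m := lift_unique (E.lift a m' _ hf') (h ▸ hθ)
  rw [he] at hf'
  obtain ⟨k, hk, -, hk'⟩ := GalCohAux.GerbBasic.exists_fac h𝒳 (baseHom x m) m' m
  have h1 := E.nat a a k m'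
  rw [hk', h] at h1
  have hid : Ψ.toEquiv a a k = 𝟙 _ := by
    have : 𝒴.p.IsHomLift (baseHom x m) (E.θ a m') := h ▸ hθ
    have := sc_of_fibGrpd h𝒴 (baseHom x m) (E.θ a m')
    have := Ψ.lift a a k _ hk
    have : 𝒴.p.IsHomLift (𝟙 (Over.left a)) (𝟙 (y.obj a)) := IsHomLift.id (y.w_obj a)
    apply IsStronglyCartesian.ext 𝒴.p (baseHom x m) (E.θ a m') (𝟙 (Over.left a))
    rw [← h1, Category.id_comp]
  rw [← Ψ.map_id a] at hid
  rw [← hk', (Ψ.toEquiv a a).injective hid, Category.id_comp]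

theorem Ext.surj (h𝒴 : IsFibGrpd 𝒴.p) {ξ : 𝒳.obj} (E : Ext Ψ ξ) {a : (overCat U).obj} {V : C}
    (f : V ⟶ 𝒳.p.obj ξ) (hf : imSieve x ξ f) (m : y.obj a ⟶ E.η) (hm : 𝒴.p.IsHomLift f m) :
    ∃ n : x.obj a ⟶ ξ, 𝒳.p.IsHomLift f n ∧ E.θ a n = m := by
  obtain ⟨c, n, hn⟩ := hf
  have := E.lift c n f hn
  obtain ⟨q, hq, -, hq'⟩ := GalCohAux.GerbBasic.exists_fac h𝒴 f (E.θ c n) m
  refine ⟨(Ψ.toEquiv a c).symm q ≫ n, ?_, ?_⟩
  · have h1 : 𝒳.p.IsHomLift (𝟙 V) ((Ψ.toEquiv a c).symm q) := Ψ.symm.lift a c q _ hq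
    simpa using lift_comp h1 hn
  · rw [E.nat, Equiv.apply_symm_apply, hq']

theorem Ext.imSieve_le {ξ : 𝒳.obj} (E : Ext Ψ ξ) {V : C} (f : V ⟶ 𝒳.p.obj ξ)
    (hf : imSieve x ξ f) : ∃ (c : (overCat U).obj) (n : y.obj c ⟶ E.η), 𝒴.p.IsHomLift f n := by
  obtain ⟨c, n, hn⟩ := hf
  exact ⟨c, E.θ c n, E.lift c n f hn⟩

/-- Morphisms transport uniquely. -/
theorem Ext.exists_map (h𝒳 : IsFibGrpd 𝒳.p) (h𝒴 : Stk.IsPrestack J 𝒴)
    {ξ ξ' : 𝒳.obj} (hcov : imSieve x ξ ∈ J (𝒳.p.obj ξ)) (E : Ext Ψ ξ) (E' : Ext Ψ ξ')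
    (m : ξ ⟶ ξ') :
    ∃! φ : E.η ⟶ E'.η, 𝒴.p.IsHomLift (𝒳.p.map m) φ ∧
      ∀ a n, E.θ a n ≫ φ = E'.θ a (n ≫ m) := by
  obtain ⟨φ, hφ, hφ'⟩ : ∃ φ : E.η ⟶ E'.η, 𝒴.p.IsHomLift (𝒳.p.map m) φ ∧
      ∀ a n n', (∃ n₀, E.θ a n₀ = n ∧ E'.θ a (n₀ ≫ m) = n') → n ≫ φ = n' := by
    refine exists_hom_of_rel h𝒴 y E.hη E'.hη (𝒳.p.map m) (imSieve x ξ) hcov _ ?_ ?_ ?_ ?_
    · rintro a _ _ ⟨n₀, rfl, rfl⟩ V f hf
      obtain rfl : Over.left a = V := (y.w_obj a).symm.trans (IsHomLift.domain_eq 𝒴.p f (E.θ a n₀))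
      rw [lift_unique hf (E.lift a n₀ _ (lift_baseHom x n₀))]
      exact E'.lift a _ _ (lift_comp (lift_baseHom x n₀) (IsHomLift.map 𝒳.p m))
    · rintro a b k _ _ ⟨n₀, rfl, rfl⟩
      refine ⟨(Ψ.toEquiv b a).symm k ≫ n₀, ?_, ?_⟩
      · rw [E.nat, Equiv.apply_symm_apply]
      · rw [Category.assoc, E'.nat, Equiv.apply_symm_apply]
    · rintro a n _ _ ⟨n₀, h₀, rfl⟩ ⟨n₁, h₁, rfl⟩
      rw [E.inj h𝒳 h𝒴.1 a (h₀.trans h₁.symm)]
    · rintro V f ⟨c, n, hn⟩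
      exact ⟨c, _, _, ⟨n, rfl, rfl⟩, E.lift c n f hn⟩
  refine ⟨φ, ⟨hφ, fun a n => hφ' a _ _ ⟨n, rfl, rfl⟩⟩, ?_⟩
  rintro φ' ⟨hψ, hψ'⟩
  refine hom_ext_lift h𝒴 (𝒳.p.map m) hψ hφ (imSieve x ξ) hcov fun V f hf z ν hν => ?_
  obtain ⟨c, n, hn⟩ := hf
  have := E.lift c n f hn
  obtain ⟨θ, -, -, rfl⟩ := GalCohAux.GerbBasic.exists_fac h𝒴.1 f (E.θ c n) ν
  rw [Category.assoc, Category.assoc, hψ', hφ' c _ _ ⟨n, rfl, rfl⟩]

/-- Corresponding objects exist. -/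
theorem nonempty_ext (h𝒳 : IsFibGrpd 𝒳.p) (h𝒴 : Stk.IsStack J 𝒴) (Ψ : Transfer x y) (ξ : 𝒳.obj)
    (hcov : imSieve x ξ ∈ J (𝒳.p.obj ξ)) : Nonempty (Ext Ψ ξ) := by
  let R := imSieve x ξ
  have hc : ∀ a : (Stk.sieveCat R).obj, ∃ (c : (overCat U).obj) (n : x.obj c ⟶ ξ),
      𝒳.p.IsHomLift (Over.hom a.obj) n := fun a => a.property
  choose c n hn using hc
  have hcl : ∀ a, 𝒳.p.obj (x.obj (c a)) = Over.left a.obj := fun a =>
    have := hn a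
    IsHomLift.domain_eq 𝒳.p (Over.hom a.obj) (n a)
  have hk : ∀ {a b : (Stk.sieveCat R).obj} (k : a ⟶ b), ∃ κ : x.obj (c a) ⟶ x.obj (c b),
      𝒳.p.IsHomLift k.hom.left κ ∧ κ ≫ n b = n a := fun {a b} k => by
    have := hn a
    have := hn b
    have := sc_of_fibGrpd h𝒳 (Over.hom b.obj) (n b)
    obtain ⟨κ, ⟨h1, h2⟩, -⟩ := IsStronglyCartesian.universal_property 𝒳.p (Over.hom b.obj) (n b)
      k.hom.left (Over.hom a.obj) (Over.w k.hom).symm (n a)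
    exact ⟨κ, h1, h2⟩
  choose κ hκ hκ' using fun a b => @hk a b
  have huniq : ∀ {a b : (Stk.sieveCat R).obj} (g : Over.left a.obj ⟶ Over.left b.obj)
      (m m' : x.obj (c a) ⟶ x.obj (c b)), 𝒳.p.IsHomLift g m → 𝒳.p.IsHomLift g m' →
      m ≫ n b = m' ≫ n b → m = m' := fun {a b} g m m' h1 h2 he => by
    have := hn b
    have := sc_of_fibGrpd h𝒳 (Over.hom b.obj) (n b)
    exact IsStronglyCartesian.ext 𝒳.p (Over.hom b.obj) (n b) g he
  let G₀ : (Stk.sieveCat R).obj ⥤ 𝒴.obj :=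
    { obj := fun a => y.obj (c a)
      map := fun {a b} k => Ψ.toEquiv _ _ (κ a b k)
      map_id := fun a => by
        rw [← Ψ.map_id]
        congr 1
        exact huniq (𝟙 _) _ _ (hκ a a (𝟙 a)) (IsHomLift.id (hcl a))
          (by rw [hκ', Category.id_comp])
      map_comp := fun {a b d} k l => by
        rw [← Ψ.map_comp]
        congr 1
        exact huniq (k.hom.left ≫ l.hom.left) _ _ (hκ a d (k ≫ l)) (lift_comp (hκ a b k) (hκ b d l))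
          (by rw [hκ', Category.assoc, hκ', hκ']) }
  have hGobj : ∀ a, 𝒴.p.obj (G₀.obj a) = Over.left a.obj := fun a =>
    ((y.w_obj (c a)).trans (x.w_obj (c a)).symm).trans (hcl a)
  let G : Stk.sieveCat R ⥤ᵇ 𝒴 := ⟨G₀, CategoryTheory.Functor.ext hGobj fun a b k => by
    have := Ψ.lift _ _ _ k.hom.left (hκ a b k)
    exact IsHomLift.fac' 𝒴.p k.hom.left (Ψ.toEquiv _ _ (κ a b k))⟩
  have : (Stk.resSieve R 𝒴).IsEquivalence := h𝒴.2 R hcov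
  let H := (Stk.resSieve R 𝒴).objPreimage G
  let i := (Stk.resSieve R 𝒴).objObjPreimageIso G
  have hi : ∀ a : (Stk.sieveCat R).obj, 𝒴.p.IsHomLift (Over.hom a.obj)
      ((StFib.isoApp i a).inv ≫ H.map (toTop a.obj)) := fun a => by
    have h1 : 𝒴.p.IsHomLift (𝟙 (Over.left a.obj)) (StFib.isoApp i a).inv :=
      BasedNatTrans.app_isHomLift i.inv a
    simpa using lift_comp h1 (map_lift H (toTop a.obj))
  let el : ∀ {a : (overCat U).obj} (m : x.obj a ⟶ ξ), (Stk.sieveCat R).obj := fun {a} m =>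
    ⟨Over.mk (baseHom x m), ⟨a, m, lift_baseHom x m⟩⟩
  have hq : ∀ {a : (overCat U).obj} (m : x.obj a ⟶ ξ), ∃ q : x.obj a ⟶ x.obj (c (el m)),
      𝒳.p.IsHomLift (𝟙 (Over.left a)) q ∧ q ≫ n (el m) = m := fun {a} m => by
    have : 𝒳.p.IsHomLift (baseHom x m) (n (el m)) := hn (el m)
    have := lift_baseHom x m
    obtain ⟨q, h1, -, h2⟩ := GalCohAux.GerbBasic.exists_fac h𝒳 (baseHom x m) (n (el m)) m
    exact ⟨q, h1, h2⟩
  choose q hq₁ hq₂ using @hq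
  refine ⟨{ η := H.obj (overTop _)
            hη := H.w_obj (overTop _)
            θ := fun a m => Ψ.toEquiv _ _ (q m) ≫ (StFib.isoApp i (el m)).inv ≫
              H.map (toTop (el m).obj)
            lift := fun a m V f hf => ?_
            nat := fun a b k m => ?_ }⟩
  · obtain rfl : Over.left a = V := (x.w_obj a).symm.trans (IsHomLift.domain_eq 𝒳.p f m)
    rw [lift_unique hf (lift_baseHom x m), ← Category.id_comp (baseHom x m)]
    exact lift_comp (Ψ.lift _ _ _ _ (hq₁ m)) (hi (el m))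
  · let u : Over.left b ⟶ Over.left a := eqToHom (x.w_obj b).symm ≫ 𝒳.p.map k ≫ eqToHom (x.w_obj a)
    have hu : 𝒳.p.IsHomLift u k := IsHomLift.of_fac 𝒳.p u k (x.w_obj b) (x.w_obj a) (by simp [u])
    have he : u ≫ baseHom x m = baseHom x (k ≫ m) :=
      lift_unique (lift_comp hu (lift_baseHom x m)) (lift_baseHom x (k ≫ m))
    let l : el (k ≫ m) ⟶ el m := ObjectProperty.homMk (Over.homMk u he)
    have hsq : q (k ≫ m) ≫ κ _ _ l = k ≫ q m := by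
      have := hn (el m)
      have := sc_of_fibGrpd h𝒳 (Over.hom (el m).obj) (n (el m))
      have h1 : 𝒳.p.IsHomLift u (q (k ≫ m) ≫ κ _ _ l) := by
        have h0 : 𝒳.p.IsHomLift (𝟙 (Over.left b) ≫ u) (q (k ≫ m) ≫ κ _ _ l) :=
          lift_comp (hq₁ (k ≫ m)) (show 𝒳.p.IsHomLift u (κ _ _ l) from hκ _ _ l)
        simpa using h0
      have h2 : 𝒳.p.IsHomLift u (k ≫ q m) := by
        simpa using lift_comp hu (hq₁ m)
      apply IsStronglyCartesian.ext 𝒳.p (Over.hom (el m).obj) (n (el m)) u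
      rw [Category.assoc, hκ', hq₂, Category.assoc, hq₂]
    have hnat : G.map l ≫ (StFib.isoApp i (el m)).inv =
        (StFib.isoApp i (el (k ≫ m))).inv ≫ H.map l.hom := i.inv.toNatTrans.naturality l
    have htop : H.map l.hom ≫ H.map (toTop (el m).obj) = H.map (toTop (el (k ≫ m)).obj) := by
      rw [← Functor.map_comp]
      exact congrArg H.map (Over.OverMorphism.ext he)
    rw [← Category.assoc (Ψ.toEquiv b a k), ← Ψ.map_comp, ← hsq, Ψ.map_comp, Category.assoc]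
    congr 1
    change _ = G.map l ≫ _
    rw [reassoc_of% hnat, htop]

/-- Stacks covered by charts with the same morphisms between their values are equivalent. -/
theorem exists_isEquivOver_of_transfer (h𝒳 : Stk.IsStack J 𝒳) (h𝒴 : Stk.IsStack J 𝒴)
    (Ψ : Transfer x y) (hx : ∀ ξ, imSieve x ξ ∈ J (𝒳.p.obj ξ))
    (hy : ∀ η, imSieve y η ∈ J (𝒴.p.obj η)) : ∃ F : 𝒳 ⥤ᵇ 𝒴, IsEquivOver F := by
  have hX := StkLib.isPrestack_of_isStack h𝒳
  have hY := StkLib.isPrestack_of_isStack h𝒴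
  let E : ∀ ξ, Ext Ψ ξ := fun ξ => (nonempty_ext h𝒳.1 h𝒴 Ψ ξ (hx ξ)).some
  choose f hf hf' using fun ξ ξ' (m : ξ ⟶ ξ') =>
    (Ext.exists_map h𝒳.1 hY (hx ξ) (E ξ) (E ξ') m).exists
  have huniq : ∀ {ξ ξ' : 𝒳.obj} (m : ξ ⟶ ξ') (φ : (E ξ).η ⟶ (E ξ').η),
      𝒴.p.IsHomLift (𝒳.p.map m) φ → (∀ a n, (E ξ).θ a n ≫ φ = (E ξ').θ a (n ≫ m)) →
      φ = f ξ ξ' m := fun {ξ ξ'} m φ h1 h2 =>
    (Ext.exists_map h𝒳.1 hY (hx ξ) (E ξ) (E ξ') m).unique ⟨h1, h2⟩ ⟨hf _ _ m, hf' _ _ m⟩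
  let F₀ : 𝒳.obj ⥤ 𝒴.obj :=
    { obj := fun ξ => (E ξ).η
      map := fun {ξ ξ'} m => f ξ ξ' m
      map_id := fun ξ => (huniq (𝟙 ξ) (𝟙 _)
        (by rw [CategoryTheory.Functor.map_id]; exact IsHomLift.id (E ξ).hη)
        (fun a n => by rw [Category.comp_id, Category.comp_id])).symm
      map_comp := fun {ξ ξ' ξ''} m n => (huniq (m ≫ n) (f ξ ξ' m ≫ f ξ' ξ'' n)
        (by rw [Functor.map_comp]; exact lift_comp (hf _ _ m) (hf _ _ n))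
        (fun a k => by rw [← Category.assoc, hf', hf', Category.assoc])).symm }
  let F : 𝒳 ⥤ᵇ 𝒴 := ⟨F₀, CategoryTheory.Functor.ext (fun ξ => (E ξ).hη) fun ξ ξ' m => by
    have := hf ξ ξ' m
    exact IsHomLift.fac' 𝒴.p (𝒳.p.map m) (f ξ ξ' m)⟩
  refine ⟨F, (isEquivOver_iff F).2 ⟨⟨⟨fun {ξ ξ'} h => ?_⟩, ⟨fun {ξ ξ'} m m' he => ?_⟩⟩, fun η => ?_⟩⟩
  · -- fullness
    let g : 𝒳.p.obj ξ ⟶ 𝒳.p.obj ξ' :=
      eqToHom (E ξ).hη.symm ≫ 𝒴.p.map h ≫ eqToHom (E ξ').hη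
    have hh : 𝒴.p.IsHomLift g h :=
      IsHomLift.of_fac 𝒴.p g h (E ξ).hη (E ξ').hη (by simp [g])
    obtain ⟨m, hm, hm'⟩ : ∃ m : ξ ⟶ ξ', 𝒳.p.IsHomLift g m ∧
        ∀ a n n', (E ξ).θ a n ≫ h = (E ξ').θ a n' → n ≫ m = n' := by
      refine exists_hom_of_rel hX x rfl rfl g (imSieve x ξ ⊓ (imSieve x ξ').pullback g)
        (J.intersection_covering (hx ξ) (J.pullback_stable g (hx ξ'))) _ ?_ ?_ ?_ ?_
      · intro a n n' hnn V k hk
        obtain rfl : Over.left a = V := (x.w_obj a).symm.trans (IsHomLift.domain_eq 𝒳.p k n)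
        have h1 : 𝒴.p.IsHomLift (k ≫ g) ((E ξ').θ a n') :=
          hnn ▸ lift_comp ((E ξ).lift a n k hk) hh
        rw [lift_unique h1 ((E ξ').lift a n' _ (lift_baseHom x n'))]
        exact lift_baseHom x n'
      · intro a b k n n' hnn
        rw [(E ξ).nat, (E ξ').nat, Category.assoc, hnn]
      · intro a n n₁ n₂ h₁ h₂
        exact (E ξ').inj h𝒳.1 h𝒴.1 a (h₁.symm.trans h₂)
      · rintro V k ⟨⟨c, n, hn⟩, hk⟩
        obtain ⟨n', -, hn'⟩ := (E ξ').surj h𝒴.1 (k ≫ g) hk ((E ξ).θ c n ≫ h)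
          (lift_comp ((E ξ).lift c n k hn) hh)
        exact ⟨c, n, n', hn'.symm, hn⟩
    refine ⟨m, ?_⟩
    have hfm : 𝒴.p.IsHomLift g (f ξ ξ' m) := by
      rw [show g = 𝒳.p.map m from (lift_unique hm (IsHomLift.map 𝒳.p m))]
      exact hf _ _ m
    refine hom_ext_lift hY g hfm hh (imSieve x ξ ⊓ (imSieve x ξ').pullback g)
      (J.intersection_covering (hx ξ) (J.pullback_stable g (hx ξ'))) fun V k hk z ν hν => ?_
    obtain ⟨⟨c, n, hn⟩, hk'⟩ := hk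
    obtain ⟨n', -, hn'⟩ := (E ξ').surj h𝒴.1 (k ≫ g) hk' ((E ξ).θ c n ≫ h)
      (lift_comp ((E ξ).lift c n k hn) hh)
    have := (E ξ).lift c n k hn
    obtain ⟨θ, -, -, rfl⟩ := GalCohAux.GerbBasic.exists_fac h𝒴.1 k ((E ξ).θ c n) ν
    rw [Category.assoc, Category.assoc]
    change θ ≫ (E ξ).θ c n ≫ f ξ ξ' m = _
    rw [hf', hm' c n n' hn'.symm, hn']
  · -- faithfulness
    have he' : f ξ ξ' m = f ξ ξ' m' := he
    have hb : 𝒳.p.map m = 𝒳.p.map m' := StFib.map_eq_map_of_p F m m' he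
    refine hom_ext_lift hX (𝒳.p.map m) (IsHomLift.map 𝒳.p m) (hb ▸ IsHomLift.map 𝒳.p m')
      (imSieve x ξ) (hx ξ) fun V k hk z ν hν => ?_
    obtain ⟨c, n, hn⟩ := hk
    obtain ⟨θ, -, -, rfl⟩ := GalCohAux.GerbBasic.exists_fac h𝒳.1 k n ν
    have h1 : n ≫ m = n ≫ m' :=
      (E ξ').inj h𝒳.1 h𝒴.1 c (by rw [← hf', ← hf', he'])
    rw [Category.assoc, Category.assoc, h1]
  · -- essential surjectivity
    obtain ⟨E'⟩ := nonempty_ext h𝒴.1 h𝒳 Ψ.symm η (hy η)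
    let ξ := E'.η
    let R : Sieve (𝒴.p.obj η) := imSieve y η ⊓ (imSieve x ξ).pullback (eqToHom E'.hη.symm)
    have hR : R ∈ J _ := J.intersection_covering (hy η) (J.pullback_stable _ (hx ξ))
    obtain ⟨φ, hφ, -⟩ : ∃ φ : (E ξ).η ⟶ η, 𝒴.p.IsHomLift (𝟙 (𝒴.p.obj η)) φ ∧
        ∀ a n n', (∃ n₀, (E ξ).θ a n₀ = n ∧ E'.θ a n' = n₀) → n ≫ φ = n' := by
      refine exists_hom_of_rel hY y ((E ξ).hη.trans E'.hη) rfl (𝟙 _) R hR _ ?_ ?_ ?_ ?_
      · rintro a _ n' ⟨_, rfl, rfl⟩ V k hk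
        obtain rfl : Over.left a = V :=
          (y.w_obj a).symm.trans (IsHomLift.domain_eq 𝒴.p k ((E ξ).θ a (E'.θ a n')))
        have h1 := E'.lift a n' _ (lift_baseHom y n')
        have h2 : 𝒴.p.IsHomLift (baseHom y n') ((E ξ).θ a (E'.θ a n')) := by
          have h3 : 𝒳.p.IsHomLift (baseHom y n' ≫ eqToHom E'.hη.symm) (E'.θ a n') := by
            simpa using h1
          simpa using (E ξ).lift a _ _ h3
        rw [Category.comp_id, lift_unique hk h2]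
        exact lift_baseHom y n'
      · rintro a b k _ n' ⟨_, rfl, rfl⟩
        refine ⟨_, ?_, rfl⟩
        rw [E'.nat, (E ξ).nat, show Ψ.symm.toEquiv b a k = (Ψ.toEquiv b a).symm k from rfl,
          Equiv.apply_symm_apply]
      · rintro a n n₁ n₂ ⟨_, h₁, rfl⟩ ⟨_, h₂, rfl⟩
        exact E'.inj h𝒴.1 h𝒳.1 a ((E ξ).inj h𝒳.1 h𝒴.1 a (h₁.trans h₂.symm))
      · rintro V k ⟨hk, c, m₁, hm₁⟩
        obtain rfl : Over.left c = V :=
          (x.w_obj c).symm.trans (IsHomLift.domain_eq 𝒳.p (k ≫ eqToHom E'.hη.symm) m₁)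
        have hm₁' : 𝒳.p.IsHomLift k m₁ := by
          simpa using hm₁
        obtain ⟨n', -, hn'⟩ := E'.surj h𝒳.1 k hk m₁ hm₁'
        refine ⟨c, _, n', ⟨m₁, rfl, hn'⟩, ?_⟩
        simpa using (E ξ).lift c m₁ _ hm₁
    have := isIso_of_fibGrpd h𝒴.1 (𝟙 (𝒴.p.obj η)) φ
    exact ⟨ξ, asIso φ, hφ⟩

end Groth.Agent.IsoCls
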