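import Groth.Agent.IsoCls.GlueHom
import Groth.Agent.StFib.Basic
import Groth.Agent.FibC.Yoneda

/-!
Morphisms determined by their composites with morphisms out of the values of a chart.
-/

set_option autoImplicit false
set_option linter.unusedVariables false
set_option backward.isDefEq.respectTransparency false
set_option backward.isDefEq.respectTransparency.types false

universe v₂ u₂ v u

open CategoryTheory CategoryTheory.Limits FibCat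
open CategoryTheory.Functor Groth.Agent.FibC

namespace Groth.Agent.IsoCls

variable {C : Type u} [Category.{v} C] {J : GrothendieckTopology C}
  {𝒳 : BasedCategory.{v₂, u₂} C} {U : C}

/-- The morphism of the base under a morphism out of a value of a chart. -/
def baseHom (x : overCat U ⥤ᵇ 𝒳) {a : (overCat U).obj} {ξ : 𝒳.obj} (n : x.obj a ⟶ ξ) :
    Over.left a ⟶ 𝒳.p.obj ξ :=
  eqToHom (x.w_obj a).symm ≫ 𝒳.p.map n

theorem lift_baseHom (x : overCat U ⥤ᵇ 𝒳) {a : (overCat U).obj} {ξ : 𝒳.obj} (n : x.obj a ⟶ ξ) :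
    𝒳.p.IsHomLift (baseHom x n) n :=
  IsHomLift.of_fac 𝒳.p _ n (x.w_obj a) rfl (by simp [baseHom])

/-- The sieve where an object is isomorphic to a value of a chart. -/
def imSieve (x : overCat U ⥤ᵇ 𝒳) (ξ : 𝒳.obj) : Sieve (𝒳.p.obj ξ) where
  arrows V f := ∃ (c : (overCat U).obj) (n : x.obj c ⟶ ξ), 𝒳.p.IsHomLift f n
  downward_closed := by
    rintro V W f ⟨c, n, hn⟩ k
    obtain rfl : Over.left c = V := (x.w_obj c).symm.trans (IsHomLift.domain_eq 𝒳.p f n)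
    let κ : Over.mk (k ≫ Over.hom c) ⟶ c := Over.homMk k rfl
    exact ⟨Over.mk (k ≫ Over.hom c), x.map κ ≫ n, lift_comp (map_lift x κ) hn⟩

/-- A morphism with prescribed composites with morphisms out of the values of a chart. -/
theorem exists_hom_of_rel (h : Stk.IsPrestack J 𝒳) (w : overCat U ⥤ᵇ 𝒳) {ζ ζ' : 𝒳.obj}
    {T T' : C} (hζ : 𝒳.p.obj ζ = T) (hζ' : 𝒳.p.obj ζ' = T')
    (g : T ⟶ T') (R : Sieve T) (hR : R ∈ J T)
    (Q : ∀ a : (overCat U).obj, (w.obj a ⟶ ζ) → (w.obj a ⟶ ζ') → Prop)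
    (hlift : ∀ a n n', Q a n n' → ∀ {V : C} (f : V ⟶ T),
      𝒳.p.IsHomLift f n → 𝒳.p.IsHomLift (f ≫ g) n')
    (hnat : ∀ a b (k : w.obj b ⟶ w.obj a) n n', Q a n n' → Q b (k ≫ n) (k ≫ n'))
    (hfunc : ∀ a n n₁ n₂, Q a n n₁ → Q a n n₂ → n₁ = n₂)
    (htot : ∀ ⦃V : C⦄ (f : V ⟶ T), R f →
      ∃ a n n', Q a n n' ∧ 𝒳.p.IsHomLift f n) :
    ∃ φ : ζ ⟶ ζ', 𝒳.p.IsHomLift g φ ∧ ∀ a n n', Q a n n' → n ≫ φ = n' := by
  subst hζ
  subst hζ'
  have hex : ∀ ⦃z : 𝒳.obj⦄ (ν : z ⟶ ζ), R (𝒳.p.map ν ≫ eqToHom rfl) →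
      ∃ m : z ⟶ ζ', 𝒳.p.IsHomLift ((𝒳.p.map ν ≫ eqToHom rfl) ≫ g) m ∧
        ∀ b (χ : z ⟶ w.obj b) n n', Q b n n' → χ ≫ n = ν → χ ≫ n' = m := by
    intro z ν hν
    obtain ⟨a, n, n', hQ, hn⟩ := htot _ hν
    have : 𝒳.p.IsHomLift (𝒳.p.map ν ≫ eqToHom rfl) ν := by
      simpa using IsHomLift.map 𝒳.p ν
    obtain ⟨θ, hθ, hθi, hθ'⟩ :=
      GalCohAux.GerbBasic.exists_fac h.1 (𝒳.p.map ν ≫ eqToHom rfl) n ν
    refine ⟨θ ≫ n', by simpa using lift_comp hθ (hlift _ _ _ hQ _ hn), ?_⟩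
    intro b χ n₁ n₁' hQ₁ hχ
    have h1 := hnat _ _ (inv θ ≫ χ) _ _ hQ₁
    rw [Category.assoc, Category.assoc, hχ, ← hθ', IsIso.inv_hom_id_assoc] at h1
    rw [hfunc _ _ _ _ hQ h1, IsIso.hom_inv_id_assoc]
  choose m hm hm' using hex
  obtain ⟨φ, hφ, hφ'⟩ := exists_hom_of_sieve h rfl rfl g R hR m hm fun z z' k ν hν hkν => by
    obtain ⟨a, n, n', hQ, hn⟩ := htot _ hν
    have : 𝒳.p.IsHomLift (𝒳.p.map ν ≫ eqToHom rfl) ν := by
      simpa using IsHomLift.map 𝒳.p ν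
    obtain ⟨θ, hθ, -, hθ'⟩ :=
      GalCohAux.GerbBasic.exists_fac h.1 (𝒳.p.map ν ≫ eqToHom rfl) n ν
    rw [← hm' ν hν a θ n n' hQ hθ',
      ← hm' _ hkν a (k ≫ θ) n n' hQ (by rw [Category.assoc, hθ']), Category.assoc]
  refine ⟨φ, hφ, fun a n n' hQ => ?_⟩
  refine hom_ext_lift h (baseHom w n ≫ g) (lift_comp (lift_baseHom w n) hφ)
    (hlift _ _ _ hQ _ (lift_baseHom w n)) (R.pullback (baseHom w n)) (J.pullback_stable _ hR)
    fun V f hf z ν hν => ?_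
  have h2 : 𝒳.p.IsHomLift (f ≫ baseHom w n) (ν ≫ n) := lift_comp hν (lift_baseHom w n)
  have h3 : R (𝒳.p.map (ν ≫ n) ≫ eqToHom rfl) := by
    obtain rfl : 𝒳.p.obj z = V := IsHomLift.domain_eq 𝒳.p f ν
    rw [eqToHom_refl, Category.comp_id, ← IsHomLift.eq_of_isHomLift 𝒳.p (f ≫ baseHom w n) (ν ≫ n)]
    exact hf
  rw [← Category.assoc, hφ' _ h3, ← hm' _ h3 a ν n n' hQ rfl]

end Groth.Agent.IsoCls
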