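import Groth.Prelude.Def_AlgSpInf
import Groth.Agent.InfLift.FirstNbhd
import Mathlib.Algebra.Ring.Subring.Basic

/-!
Arbitrarily many copies of a square-zero thickening glued along the common closed subscheme.
-/

set_option autoImplicit false
set_option backward.isDefEq.respectTransparency false
set_option backward.isDefEq.respectTransparency.types false

universe u

open CategoryTheory CategoryTheory.Limits AlgebraicGeometry

namespace Groth.Agent.IsoCls

section ring

variable {A : Type u} [CommRing A] (I : Ideal A)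

/-- Tuples of elements of `A` with a common reduction. -/
def fanSub (L : Type u) : Subring ((A ⧸ I) × (L → A)) where
  carrier := {p | ∀ l, Ideal.Quotient.mk I (p.2 l) = p.1}
  one_mem' _ := map_one _
  zero_mem' _ := map_zero _
  mul_mem' {p q} hp hq l := by
    rw [Prod.snd_mul, Pi.mul_apply, map_mul, hp l, hq l]; rfl
  add_mem' {p q} hp hq l := by
    rw [Prod.snd_add, Pi.add_apply, map_add, hp l, hq l]; rfl
  neg_mem' {p} hp l := by
    rw [Prod.snd_neg, Pi.neg_apply, map_neg, hp l]; rfl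

/-- The ring of the fan. -/
abbrev Fan (L : Type u) : CommRingCat.{u} := CommRingCat.of (fanSub I L)

/-- The common reduction. -/
def fanBase (L : Type u) : Fan I L ⟶ CommRingCat.of (A ⧸ I) :=
  CommRingCat.ofHom ((RingHom.fst _ _).comp (fanSub I L).subtype)

/-- The members. -/
def fanEv {L : Type u} (l : L) : Fan I L ⟶ CommRingCat.of A :=
  CommRingCat.ofHom (((Pi.evalRingHom _ l).comp (RingHom.snd _ _)).comp (fanSub I L).subtype)

/-- Reindexing. -/
def fanMap {L L' : Type u} (f : L → L') : Fan I L' ⟶ Fan I L :=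
  CommRingCat.ofHom
    { toFun := fun p => ⟨(p.1.1, fun l => p.1.2 (f l)), fun l => p.2 (f l)⟩
      map_one' := rfl
      map_mul' := fun _ _ => rfl
      map_zero' := rfl
      map_add' := fun _ _ => rfl }

theorem fanEv_mk {L : Type u} (l : L) :
    fanEv I l ≫ CommRingCat.ofHom (Ideal.Quotient.mk I) = fanBase I L := by
  ext p
  exact p.2 l

theorem fanMap_base {L L' : Type u} (f : L → L') : fanMap I f ≫ fanBase I L = fanBase I L' := rfl

theorem fanMap_ev {L L' : Type u} (f : L → L') (l : L) :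
    fanMap I f ≫ fanEv I l = fanEv I (f l) := rfl

theorem fanBase_surjective (L : Type u) : Function.Surjective (fanBase I L) := fun a => by
  obtain ⟨b, rfl⟩ := Ideal.Quotient.mk_surjective a
  exact ⟨⟨(Ideal.Quotient.mk I b, fun _ => b), fun _ => rfl⟩, rfl⟩

theorem ker_fanBase_sq (hI : I ^ 2 = ⊥) (L : Type u) : RingHom.ker (fanBase I L).hom ^ 2 = ⊥ := by
  rw [pow_two, eq_bot_iff, Ideal.mul_le]
  intro p hp q hq
  have key : ∀ (r : fanSub I L), r.1.1 = 0 → ∀ l, r.1.2 l ∈ I := fun r hr l => by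
    rw [← Ideal.Quotient.eq_zero_iff_mem, r.2 l, hr]
  refine (Ideal.mem_bot).2 (Subtype.ext (Prod.ext ?_ (funext fun l => ?_)))
  · change p.1.1 * q.1.1 = 0
    rw [show p.1.1 = 0 from hp, zero_mul]
  · change p.1.2 l * q.1.2 l = 0
    rw [← Ideal.mem_bot, ← hI, pow_two]
    exact Ideal.mul_mem_mul (key p hp l) (key q hq l)

theorem fanMap_surjective {L L' : Type u} (f : L → L') (hf : Function.Injective f) :
    Function.Surjective (fanMap I f) := by
  intro p
  classical
  obtain ⟨b, hb⟩ := Ideal.Quotient.mk_surjective p.1.1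
  refine ⟨⟨(p.1.1, Function.extend f p.1.2 fun _ => b), fun l' => ?_⟩, Subtype.ext (Prod.ext rfl ?_)⟩
  · by_cases h : ∃ l, f l = l'
    · obtain ⟨l, rfl⟩ := h
      change Ideal.Quotient.mk I (Function.extend f p.1.2 (fun _ => b) (f l)) = _
      rw [hf.extend_apply]
      exact p.2 l
    · change Ideal.Quotient.mk I (Function.extend f p.1.2 (fun _ => b) l') = _
      rw [Function.extend_apply' _ _ _ h]
      exact hb
  · funext l
    change Function.extend f p.1.2 (fun _ => b) (f l) = _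
    exact hf.extend_apply _ _ l

theorem ker_fanMap_sq (hI : I ^ 2 = ⊥) {L L' : Type u} (f : L → L') :
    RingHom.ker (fanMap I f).hom ^ 2 = ⊥ := by
  refine eq_bot_iff.2 ((Ideal.pow_right_mono ?_ 2).trans (ker_fanBase_sq I hI L').le)
  intro p hp
  have h : fanBase I L (fanMap I f p) = fanBase I L' p := rfl
  change fanBase I L' p = 0
  rw [← h, show fanMap I f p = 0 from hp, map_zero]

theorem fan_hom_ext {L : Type u} {B : CommRingCat.{u}} {φ ψ : B ⟶ Fan I L}
    (h₀ : φ ≫ fanBase I L = ψ ≫ fanBase I L) (h : ∀ l, φ ≫ fanEv I l = ψ ≫ fanEv I l) : φ = ψ := by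
  ext b
  · exact congrArg (fun k : B ⟶ _ => k b) h₀
  · rename_i l
    exact congrArg (fun k : B ⟶ _ => k b) (h l)

theorem exists_fan_lift {L : Type u} {B : CommRingCat.{u}} (φ₀ : B ⟶ CommRingCat.of (A ⧸ I))
    (φ : L → (B ⟶ CommRingCat.of A)) (h : ∀ l, φ l ≫ CommRingCat.ofHom (Ideal.Quotient.mk I) = φ₀) :
    ∃ ψ : B ⟶ Fan I L, ψ ≫ fanBase I L = φ₀ ∧ ∀ l, ψ ≫ fanEv I l = φ l := by
  refine ⟨CommRingCat.ofHom
    ((φ₀.hom.prod (RingHom.pi fun l => (φ l).hom)).codRestrict (fanSub I L) fun b l => ?_), rfl,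
    fun l => rfl⟩
  exact congrArg (fun k : B ⟶ _ => k b) (h l)

end ring

/-- A morphism from a thickening lands in an open as soon as it does so on the closed subscheme. -/
theorem range_subset_of_thick {D D₀ : CommRingCat.{u}} (q : D ⟶ D₀) (hq : Function.Surjective q)
    (hJ : RingHom.ker q.hom ^ 2 = ⊥) {X : Scheme.{u}} (F : Spec D ⟶ X) {O : Set X}
    (h : Set.range (Spec.map q ≫ F) ⊆ O) : Set.range F ⊆ O := by
  rintro _ ⟨p, rfl⟩
  obtain ⟨s, rfl⟩ := (Groth.Agent.InfLift.FirstNbhd.isHomeomorph_specMap q hq hJ).surjective p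
  exact h ⟨s, rfl⟩

/-- A square-zero thickening of affine schemes over `S` whose image lies in an affine open. -/
structure Thick (S : Scheme.{u}) : Type (u + 1) where
  A : Type u
  [commRing : CommRing A]
  I : Ideal A
  sq_zero : I ^ 2 = ⊥
  str : Spec (CommRingCat.of A) ⟶ S
  W : S.Opens
  hW : IsAffineOpen W
  hr : Set.range str ⊆ W

namespace Thick

variable {S : Scheme.{u}} (D : Thick S)

instance : CommRing D.A := D.commRing

theorem mk_surjective : Function.Surjective (CommRingCat.ofHom (Ideal.Quotient.mk D.I)) :=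
  Ideal.Quotient.mk_surjective

theorem ker_mk_sq : RingHom.ker (CommRingCat.ofHom (Ideal.Quotient.mk D.I)).hom ^ 2 = ⊥ := by
  rw [CommRingCat.hom_ofHom, Ideal.mk_ker, D.sq_zero]

theorem range_subset {X : Scheme.{u}} (F : Spec (CommRingCat.of D.A) ⟶ X) {O : Set X}
    (h : Set.range (Spec.map (CommRingCat.ofHom (Ideal.Quotient.mk D.I)) ≫ F) ⊆ O) :
    Set.range F ⊆ O :=
  range_subset_of_thick _ D.mk_surjective D.ker_mk_sq F h

/-- Maps from the fan into a scheme through an affine open are determined on the members. -/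
theorem spec_fan_ext {L : Type u} {X : Scheme.{u}} {O : X.Opens} (hO : IsAffineOpen O)
    {F G : Spec (Fan D.I L) ⟶ X} (hr : Set.range (Spec.map (fanBase D.I L) ≫ F) ⊆ O)
    (h₀ : Spec.map (fanBase D.I L) ≫ F = Spec.map (fanBase D.I L) ≫ G)
    (h : ∀ l, Spec.map (fanEv D.I l) ≫ F = Spec.map (fanEv D.I l) ≫ G) : F = G := by
  have hF := range_subset_of_thick _ (fanBase_surjective D.I L) (ker_fanBase_sq D.I D.sq_zero L) F hr
  have hG := range_subset_of_thick _ (fanBase_surjective D.I L) (ker_fanBase_sq D.I D.sq_zero L) G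
    (h₀ ▸ hr)
  obtain ⟨φ, hφ⟩ := Spec.map_surjective
    (IsOpenImmersion.lift hO.fromSpec F (by rwa [hO.range_fromSpec]))
  obtain ⟨ψ, hψ⟩ := Spec.map_surjective
    (IsOpenImmersion.lift hO.fromSpec G (by rwa [hO.range_fromSpec]))
  have hF' : Spec.map φ ≫ hO.fromSpec = F := by rw [hφ, IsOpenImmersion.lift_fac]
  have hG' : Spec.map ψ ≫ hO.fromSpec = G := by rw [hψ, IsOpenImmersion.lift_fac]
  suffices φ = ψ by rw [← hF', ← hG', this]
  refine fan_hom_ext D.I ?_ fun l => ?_
  · apply Spec.map_injective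
    rw [Spec.map_comp, Spec.map_comp, ← cancel_mono hO.fromSpec, Category.assoc, Category.assoc,
      hF', hG', h₀]
  · apply Spec.map_injective
    rw [Spec.map_comp, Spec.map_comp, ← cancel_mono hO.fromSpec, Category.assoc, Category.assoc,
      hF', hG', h l]

/-- Compatible maps into an affine open give a map from the fan. -/
theorem exists_spec_fan_hom {L : Type u} {X : Scheme.{u}} {O : X.Opens} (hO : IsAffineOpen O)
    (f₀ : Spec (CommRingCat.of (D.A ⧸ D.I)) ⟶ X) (hr : Set.range f₀ ⊆ O)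
    (f : L → (Spec (CommRingCat.of D.A) ⟶ X))
    (h : ∀ l, Spec.map (CommRingCat.ofHom (Ideal.Quotient.mk D.I)) ≫ f l = f₀) :
    ∃ F : Spec (Fan D.I L) ⟶ X,
      Spec.map (fanBase D.I L) ≫ F = f₀ ∧ ∀ l, Spec.map (fanEv D.I l) ≫ F = f l := by
  have hf : ∀ l, Set.range (f l) ⊆ O := fun l => D.range_subset (f l) (by rw [h l]; exact hr)
  obtain ⟨φ₀, hφ₀⟩ := Spec.map_surjective
    (IsOpenImmersion.lift hO.fromSpec f₀ (by rwa [hO.range_fromSpec]))
  choose φ hφ using fun l => Spec.map_surjective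
    (IsOpenImmersion.lift hO.fromSpec (f l) (by rw [hO.range_fromSpec]; exact hf l))
  have h₀' : Spec.map φ₀ ≫ hO.fromSpec = f₀ := by rw [hφ₀, IsOpenImmersion.lift_fac]
  have h' : ∀ l, Spec.map (φ l) ≫ hO.fromSpec = f l := fun l => by
    rw [hφ l, IsOpenImmersion.lift_fac]
  obtain ⟨ψ, hψ₀, hψ⟩ := exists_fan_lift D.I φ₀ φ fun l => by
    apply Spec.map_injective
    rw [Spec.map_comp, ← cancel_mono hO.fromSpec, Category.assoc, h', h, h₀']
  exact ⟨Spec.map ψ ≫ hO.fromSpec, by rw [← Category.assoc, ← Spec.map_comp, hψ₀, h₀'],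
    fun l => by rw [← Category.assoc, ← Spec.map_comp, hψ l, h']⟩

/-- The thickening as a scheme over `S`. -/
noncomputable abbrev T : Over S := Over.mk D.str

/-- The closed subscheme. -/
noncomputable abbrev T₀ : Over S :=
  Over.mk (Spec.map (CommRingCat.ofHom (Ideal.Quotient.mk D.I)) ≫ D.str)

/-- The closed immersion. -/
noncomputable abbrev j : D.T₀ ⟶ D.T := Over.homMk (Spec.map (CommRingCat.ofHom (Ideal.Quotient.mk D.I))) rfl

theorem range_T₀ : Set.range D.T₀.hom ⊆ D.W := by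
  rintro _ ⟨p, rfl⟩
  exact D.hr ⟨_, rfl⟩

theorem exists_fanStr (L : Type u) : ∃ F : Spec (Fan D.I L) ⟶ S,
    Spec.map (fanBase D.I L) ≫ F = D.T₀.hom ∧ ∀ l, Spec.map (fanEv D.I l) ≫ F = D.str :=
  D.exists_spec_fan_hom D.hW D.T₀.hom D.range_T₀ (fun _ => D.str) fun _ => rfl

/-- The fan over `S`. -/
noncomputable def fan (L : Type u) : Over S := Over.mk (D.exists_fanStr L).choose

/-- The closed subscheme inside the fan. -/
noncomputable def base (L : Type u) : D.T₀ ⟶ D.fan L :=
  Over.homMk (Spec.map (fanBase D.I L)) (D.exists_fanStr L).choose_spec.1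

/-- The members of the fan. -/
noncomputable def ev {L : Type u} (l : L) : D.T ⟶ D.fan L :=
  Over.homMk (Spec.map (fanEv D.I l)) ((D.exists_fanStr L).choose_spec.2 l)

/-- Reindexing fans. -/
noncomputable def fmap {L L' : Type u} (f : L → L') : D.fan L ⟶ D.fan L' :=
  Over.homMk (Spec.map (fanMap D.I f)) (by
    have h₀ : Spec.map (fanBase D.I L) ≫ Spec.map (fanMap D.I f) ≫ (D.fan L').hom =
        Spec.map (fanBase D.I L) ≫ (D.fan L).hom := by
      rw [← Category.assoc, ← Spec.map_comp, fanMap_base]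
      exact (D.exists_fanStr L').choose_spec.1.trans (D.exists_fanStr L).choose_spec.1.symm
    refine D.spec_fan_ext D.hW ?_ h₀ fun l => ?_
    · rw [h₀]
      exact (D.exists_fanStr L).choose_spec.1.symm ▸ D.range_T₀
    · rw [← Category.assoc, ← Spec.map_comp, fanMap_ev]
      exact ((D.exists_fanStr L').choose_spec.2 _).trans ((D.exists_fanStr L).choose_spec.2 l).symm)

theorem j_ev {L : Type u} (l : L) : D.j ≫ D.ev l = D.base L := by
  refine Over.OverMorphism.ext ?_
  change Spec.map _ ≫ Spec.map _ = Spec.map _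
  rw [← Spec.map_comp, fanEv_mk]

theorem base_fmap {L L' : Type u} (f : L → L') : D.base L ≫ D.fmap f = D.base L' :=
  Over.OverMorphism.ext (Spec.map_comp _ _).symm

theorem ev_fmap {L L' : Type u} (f : L → L') (l : L) : D.ev l ≫ D.fmap f = D.ev (f l) :=
  Over.OverMorphism.ext (Spec.map_comp _ _).symm

theorem hom_ext {L : Type u} {X : Over S} {O : X.left.Opens} (hO : IsAffineOpen O)
    {F G : D.fan L ⟶ X} (hr : Set.range (D.base L ≫ F).left ⊆ O)
    (h₀ : D.base L ≫ F = D.base L ≫ G) (h : ∀ l, D.ev l ≫ F = D.ev l ≫ G) : F = G :=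
  Over.OverMorphism.ext (D.spec_fan_ext hO hr (congrArg Over.Hom.left h₀)
    fun l => congrArg Over.Hom.left (h l))

theorem exists_hom {L : Type u} {X : Over S} {O : X.left.Opens} (hO : IsAffineOpen O)
    (f₀ : D.T₀ ⟶ X) (hr : Set.range f₀.left ⊆ O) (f : L → (D.T ⟶ X)) (h : ∀ l, D.j ≫ f l = f₀) :
    ∃ F : D.fan L ⟶ X, D.base L ≫ F = f₀ ∧ ∀ l, D.ev l ≫ F = f l := by
  obtain ⟨F, hF₀, hF⟩ := D.exists_spec_fan_hom hO f₀.left hr (fun l => (f l).left)
    (fun l => congrArg Over.Hom.left (h l))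
  have hS : F ≫ X.hom = (D.fan L).hom := by
    have h₀ : Spec.map (fanBase D.I L) ≫ F ≫ X.hom = Spec.map (fanBase D.I L) ≫ (D.fan L).hom := by
      rw [← Category.assoc, hF₀]
      exact (Over.w f₀).trans (D.exists_fanStr L).choose_spec.1.symm
    refine D.spec_fan_ext D.hW ?_ h₀ fun l => ?_
    · rw [h₀]
      exact (D.exists_fanStr L).choose_spec.1.symm ▸ D.range_T₀
    · rw [← Category.assoc, hF l]
      exact (Over.w (f l)).trans ((D.exists_fanStr L).choose_spec.2 l).symm
  exact ⟨Over.homMk F hS, Over.OverMorphism.ext hF₀, fun l => Over.OverMorphism.ext (hF l)⟩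

end Thick

/-- Formally smooth morphisms lift along surjections with square-zero kernel. -/
theorem exists_lift_of_formallySmooth {S : Scheme.{u}} {F G : AlgSp.Sp S} {f : F ⟶ G}
    (hf : AlgSp.IsFormallySmoothMor f) {B C : CommRingCat.{u}} (q : B ⟶ C)
    (hq : Function.Surjective q) (hJ : RingHom.ker q.hom ^ 2 = ⊥) {str₁ : Spec C ⟶ S}
    {str₂ : Spec B ⟶ S} (k : Over.mk str₁ ⟶ Over.mk str₂) (hk : k.left = Spec.map q)
    (top : (AlgSp.yon S).obj (Over.mk str₁) ⟶ F) (bot : (AlgSp.yon S).obj (Over.mk str₂) ⟶ G)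
    (w : top ≫ f = (AlgSp.yon S).map k ≫ bot) :
    ∃ l : (AlgSp.yon S).obj (Over.mk str₂) ⟶ F, (AlgSp.yon S).map k ≫ l = top ∧ l ≫ f = bot := by
  let J := RingHom.ker q.hom
  let E := RingHom.quotientKerEquivOfSurjective (f := q.hom) hq
  let σ : CommRingCat.of (B ⧸ J) ≅ C := RingEquiv.toCommRingCatIso E
  have hσ : CommRingCat.ofHom (Ideal.Quotient.mk J) ≫ σ.hom = q := by
    ext b
    rfl
  have hs : str₁ = Spec.map q ≫ str₂ := by rw [← hk]; exact (Over.w k).symm
  let T' : Over S := Over.mk (Spec.map (CommRingCat.ofHom (Ideal.Quotient.mk J)) ≫ str₂)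
  let τ : T' ⟶ Over.mk str₁ := Over.homMk (Spec.map σ.inv) (by
    change Spec.map σ.inv ≫ str₁ = Spec.map (CommRingCat.ofHom (Ideal.Quotient.mk J)) ≫ str₂
    rw [hs, ← Category.assoc, ← Spec.map_comp, ← hσ, Category.assoc, Iso.hom_inv_id, Category.comp_id])
  let τ' : Over.mk str₁ ⟶ T' := Over.homMk (Spec.map σ.hom) (by
    change Spec.map σ.hom ≫ Spec.map (CommRingCat.ofHom (Ideal.Quotient.mk J)) ≫ str₂ = str₁
    rw [← Category.assoc, ← Spec.map_comp, hσ, hs])
  have hτ : τ' ≫ τ = 𝟙 _ := Over.OverMorphism.ext (by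
    change Spec.map σ.hom ≫ Spec.map σ.inv = 𝟙 _
    rw [← Spec.map_comp, Iso.inv_hom_id, Spec.map_id])
  let j' : T' ⟶ Over.mk str₂ :=
    Over.homMk (Spec.map (CommRingCat.ofHom (Ideal.Quotient.mk J))) rfl
  have hj : τ' ≫ j' = k := Over.OverMorphism.ext (by
    change Spec.map σ.hom ≫ Spec.map (CommRingCat.ofHom (Ideal.Quotient.mk J)) = _
    rw [← Spec.map_comp, hσ, hk])
  have hjk : τ ≫ k = j' := by
    rw [← hj, ← Category.assoc]
    have : τ ≫ τ' = 𝟙 _ := Over.OverMorphism.ext (by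
      change Spec.map σ.inv ≫ Spec.map σ.hom = 𝟙 _
      rw [← Spec.map_comp, Iso.hom_inv_id, Spec.map_id])
    rw [this, Category.id_comp]
  obtain ⟨l, hl₁, hl₂⟩ := hf
    { A := B
      I := J
      sq_zero := hJ
      str := str₂
      top := (AlgSp.yon S).map τ ≫ top
      bot := bot
      comm := by rw [Category.assoc, w, ← Category.assoc, ← Functor.map_comp, hjk] }
  refine ⟨l, ?_, hl₂⟩
  have hl₁' : (AlgSp.yon S).map j' ≫ l = (AlgSp.yon S).map τ ≫ top := hl₁
  rw [← hj, Functor.map_comp, Category.assoc, hl₁', ← Category.assoc, ← Functor.map_comp, hτ,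
    CategoryTheory.Functor.map_id, Category.id_comp]

end Groth.Agent.IsoCls
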