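import Groth.Agent.IsoCls.AutDict

/-!
Sections of a presentation of a fibre product over a chart, and objects of the fibre product.
-/

set_option autoImplicit false
set_option linter.unusedVariables false
set_option backward.isDefEq.respectTransparency false
set_option backward.isDefEq.respectTransparency.types false

universe u

open CategoryTheory CategoryTheory.Limits AlgebraicGeometry Opposite FibCat

namespace Groth.Agent.IsoCls

open Groth.Agent.StFib

variable {S : Scheme.{u}}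

/-- Objects of a presented fibre product over an object of the slice are its sections. -/
theorem exists_fpSections {𝒵 𝒲 : AlgSt.Cat S} {U : Over S} (y : overCat U ⥤ᵇ 𝒲) (ι : 𝒵 ⥤ᵇ 𝒲)
    (A : AlgSp.Space S) (e : AlgSt.ofSp A.obj ⥤ᵇ fp y ι) (he : IsEquivOver e) :
    ∃ (zo : ∀ w : (overCat U).obj,
        Sec (AlgSt.spMapOfOver (BasedFunctor.comp e (fpFst y ι))) w → (fp y ι).obj)
      (W : ∀ w r, (zo w r).obj.fst ≅ w), (∀ w r, Vert (W w r).hom) ∧
      (∀ (w : (overCat U).obj) (z : (fp y ι).obj), z.obj.fst = w →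
        ∃ r, ∃ m : zo w r ≅ z, Vert m.hom) ∧
      (∀ (w : (overCat U).obj) r₁ r₂ (Z : zo w r₁ ⟶ zo w r₂), Vert Z → r₁ = r₂) ∧
      ∀ {w' w : (overCat U).obj} (κ : w' ⟶ w) r r',
        r'.1 = (AlgSp.yon S).map κ.left ≫ r.1 →
          ∃ Z : zo w' r' ⟶ zo w r, (W w' r').inv ≫ Z.hom.fst ≫ (W w r).hom = κ := by
  let Φ := BasedFunctor.comp e (fpFst y ι)
  let a := AlgSt.spMapOfOver Φ
  have := full_of_isEquivOver he
  let sec : {X : Over S} → ((AlgSp.yon S).obj X ⟶ A.obj) → A.obj.obj.obj (op X) :=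
    fun {X} r => r.hom.app (op X) ⟨𝟙 X⟩
  have hsec : ∀ {X : Over S} (r : (AlgSp.yon S).obj X ⟶ A.obj) (f : X ⟶ U),
      r ≫ a = (AlgSp.yon S).map f → AlgSt.secHom Φ ⟨X, sec r⟩ = f := fun {X} r f hr => by
    have := congrArg (fun m => ULift.down (m.hom.app (op X) ⟨𝟙 X⟩)) hr
    exact this.trans (Category.id_comp f :)
  -- the image of a section over `f` lies over `f`
  have hw : ∀ {X : Over S} (r : (AlgSp.yon S).obj X ⟶ A.obj) (f : X ⟶ U),
      r ≫ a = (AlgSp.yon S).map f →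
      ∃ w : (e.obj ⟨X, sec r⟩).obj.fst ≅ Over.mk f, Vert w.hom := fun {X} r f hr => by
    refine ⟨Over.isoMk (eqToIso (Φ.w_obj ⟨X, sec r⟩)) ?_, ⟨Φ.w_obj ⟨X, sec r⟩, rfl⟩⟩
    change eqToHom (Φ.w_obj ⟨X, sec r⟩) ≫ f = _
    rw [← hsec r f hr, AlgSt.secHom, eqToHom_trans_assoc]
    exact Category.id_comp _
  -- every object over `f` is the image of a section over `f`
  have hex : ∀ {X : Over S} (f : X ⟶ U) (z : (fp y ι).obj), z.obj.fst = Over.mk f →
      ∃ (r : (AlgSp.yon S).obj X ⟶ A.obj) (m : e.obj ⟨X, sec r⟩ ≅ z),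
        Vert m.hom ∧ r ≫ a = (AlgSp.yon S).map f := by
    intro X f z hz
    obtain ⟨⟨X', s⟩, m, hm⟩ := exists_vert_iso_of_isEquivOver he z
    have hX : X' = X := by
      have h1 : (fp y ι).p.obj (e.obj ⟨X', s⟩) = X' := e.w_obj _
      have h2 : (fp y ι).p.obj z = X := congrArg (fun o : (overCat U).obj => o.left) hz
      exact h1.symm.trans (hm.base_eq.trans h2)
    subst hX
    obtain ⟨r, rfl⟩ : ∃ r, sec r = s :=
      ⟨(GrothendieckTopology.uliftYonedaEquiv.{u + 1} (AlgSp.J S)).symm s, (GrothendieckTopology.uliftYonedaEquiv.{u + 1} (AlgSp.J S)).apply_symm_apply s⟩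
    refine ⟨r, m, hm, ?_⟩
    obtain ⟨f', hf'⟩ := (AlgSp.yon S).map_surjective (r ≫ a)
    have h3 := hsec r f' hf'.symm
    rw [← hf']
    congr 1
    rw [← h3]
    have hv : Vert m.hom.hom.fst := vert_fp_iff.1 hm
    obtain ⟨hb, hb'⟩ := hv
    have h4 : m.hom.hom.fst.left ≫ z.obj.fst.hom = (e.obj ⟨X', sec r⟩).obj.fst.hom :=
      Over.w m.hom.hom.fst
    change m.hom.hom.fst.left = eqToHom hb at hb'
    change eqToHom _ ≫ (e.obj ⟨X', sec r⟩).obj.fst.hom = f
    rw [← h4, hb']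
    have h5 : z.obj.fst.hom = eqToHom (congrArg (fun o : (overCat U).obj => o.left) hz) ≫ f := by
      generalize z.obj.fst = o at hz ⊢
      subst hz
      simp
    rw [h5]
    simp
  choose W hW using fun (w : (overCat U).obj) (r : Sec a w) => hw r.1 (Over.hom w) r.2
  let zo : ∀ w, Sec a w → (fp y ι).obj := fun w r => e.obj ⟨Over.left w, sec r.1⟩
  refine ⟨zo, W, hW, fun w z hz => ?_, fun w r₁ r₂ Z hZ => ?_, ?_⟩
  · obtain ⟨r, m, hm, hr⟩ := hex (Over.hom w) z hz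
    exact ⟨⟨r, hr⟩, m, hm⟩
  · obtain ⟨q, hq⟩ := e.toFunctor.map_surjective Z
    have hqv : Vert (𝒳 := AlgSt.ofSp A.obj) q := Vert.of_map e (hq.symm ▸ hZ)
    exact Subtype.ext
      ((GrothendieckTopology.uliftYonedaEquiv.{u + 1} (AlgSp.J S)).injective (ofPsh_eq_of_vert hqv))
  · intro w' w κ r r' hr
    have hq : A.obj.obj.map κ.left.op (sec r.1) = sec r'.1 := by
      rw [hr]
      exact GrothendieckTopology.uliftYonedaEquiv_naturality.{u + 1} (AlgSp.J S) r.1 κ.left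
    let q : (⟨Over.left w', sec r'.1⟩ : (AlgSt.ofSp A.obj).obj) ⟶ ⟨Over.left w, sec r.1⟩ :=
      ⟨κ.left, hq⟩
    let Z : zo w' r' ⟶ zo w r := e.map q
    have hleft : Z.hom.fst.left = eqToHom (e.w_obj _) ≫ κ.left ≫ eqToHom (e.w_obj _).symm :=
      w_map e q
    refine ⟨Z, ?_⟩
    obtain ⟨_, h1⟩ := (hW w' r').inv
    obtain ⟨_, h2⟩ := hW w r
    change (W w' r').inv.left = _ at h1
    change (W w r).hom.left = _ at h2
    refine Over.OverMorphism.ext ?_
    rw [Over.comp_left, Over.comp_left, hleft, h1, h2]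
    simp

/-- Vertical isomorphisms between the two components of a chart of `𝒳 ×_𝒴 𝒳` mapping to its
comparison isomorphism. -/
abbrev DHom {𝒳 𝒴 : AlgSt.Cat S} {f : 𝒳 ⥤ᵇ 𝒴} {U : Over S} (t : overCat U ⥤ᵇ fp f f)
    (w : (overCat U).obj) : Type u :=
  {δ : (t.obj w).obj.fst ⟶ (t.obj w).obj.snd // Vert δ ∧ f.map δ = (t.obj w).obj.iso.hom}

/-- Sections of the presentation of a chart of the diagonal. -/
theorem diagDict_of_chart {𝒳 𝒴 : AlgSt.Cat S} (h𝒳 : IsFibGrpd 𝒳.p) {f : 𝒳 ⥤ᵇ 𝒴} {U : Over S}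
    (t : overCat U ⥤ᵇ fp f f) (A : AlgSp.Space S) (e : AlgSt.ofSp A.obj ⥤ᵇ fp t (diag f))
    (he : IsEquivOver e) :
    ∃ au : ∀ w : (overCat U).obj,
        Sec (AlgSt.spMapOfOver (BasedFunctor.comp e (fpFst t (diag f)))) w → DHom t w,
      (∀ w, Function.Bijective (au w)) ∧
        ∀ {w' w : (overCat U).obj} (κ : w' ⟶ w)
          (r : Sec (AlgSt.spMapOfOver (BasedFunctor.comp e (fpFst t (diag f)))) w)
          (r' : Sec (AlgSt.spMapOfOver (BasedFunctor.comp e (fpFst t (diag f)))) w'),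
          r'.1 = (AlgSp.yon S).map κ.left ≫ r.1 →
            (au w' r').1 ≫ (t.map κ).hom.snd = (t.map κ).hom.fst ≫ (au w r).1 := by
  obtain ⟨zo, W, hW, hsurj, hinj, hnat⟩ := exists_fpSections t (diag f) A e he
  let C : ∀ w r, t.obj w ≅ (diag f).obj (zo w r).obj.snd := fun w r =>
    (t.toFunctor.mapIso (W w r)).symm ≪≫ (zo w r).obj.iso
  have hC : ∀ w r, Vert (C w r).hom := fun w r =>
    ((hW w r).map t).inv.comp (vert_fp_iso (zo w r))
  let ca : ∀ w r, (t.obj w).obj.fst ≅ (zo w r).obj.snd := fun w r => fpIsoFst (C w r)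
  let cb : ∀ w r, (t.obj w).obj.snd ≅ (zo w r).obj.snd := fun w r => fpIsoSnd (C w r)
  have hsq : ∀ w r, f.map (ca w r).hom = (t.obj w).obj.iso.hom ≫ f.map (cb w r).hom := fun w r => by
    have h : f.map (ca w r).hom ≫ 𝟙 _ = (t.obj w).obj.iso.hom ≫ f.map (cb w r).hom :=
      (C w r).hom.hom.w
    rwa [Category.comp_id] at h
  have hv : ∀ w r, Vert ((ca w r).hom ≫ (cb w r).inv) ∧
      f.map ((ca w r).hom ≫ (cb w r).inv) = (t.obj w).obj.iso.hom := fun w r => by
    refine ⟨(vert_fp_iff.1 (hC w r)).comp (Vert.inv ?_), ?_⟩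
    · exact ((hC w r).map (fpSnd f f) :)
    · rw [Functor.map_comp, hsq, Category.assoc, ← Functor.map_comp, Iso.hom_inv_id,
        CategoryTheory.Functor.map_id, Category.comp_id]
  let au : ∀ w r, DHom t w := fun w r => ⟨(ca w r).hom ≫ (cb w r).inv, hv w r⟩
  refine ⟨au, fun w => ⟨?_, ?_⟩, ?_⟩
  · intro r₁ r₂ h12
    have h : (ca w r₁).hom ≫ (cb w r₁).inv = (ca w r₂).hom ≫ (cb w r₂).inv :=
      congrArg Subtype.val h12
    let v : (zo w r₁).obj.fst ≅ (zo w r₂).obj.fst := W w r₁ ≪≫ (W w r₂).symm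
    let q : (zo w r₁).obj.snd ⟶ (zo w r₂).obj.snd := (ca w r₁).inv ≫ (ca w r₂).hom
    have hq2 : q = (cb w r₁).inv ≫ (cb w r₂).hom := by
      rw [← cancel_epi (ca w r₁).hom, reassoc_of% h]
      simp [q]
    refine hinj w r₁ r₂ (fpHom v.hom q ?_) (vert_fp_iff.2 ((hW w r₁).comp (hW w r₂).inv))
    change t.map v.hom ≫ (zo w r₂).obj.iso.hom = (zo w r₁).obj.iso.hom ≫ (diag f).map q
    have hCq : (C w r₁).hom ≫ (diag f).map q = (C w r₂).hom := by
      refine fp_hom_ext ?_ ?_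
      · change (ca w r₁).hom ≫ q = (ca w r₂).hom
        simp [q]
      · change (cb w r₁).hom ≫ q = (cb w r₂).hom
        rw [hq2]; simp
    calc t.map v.hom ≫ (zo w r₂).obj.iso.hom
        = t.map (W w r₁).hom ≫ (C w r₂).hom := by simp [v, C]
      _ = (zo w r₁).obj.iso.hom ≫ (diag f).map q := by rw [← hCq]; simp [C]
  · rintro ⟨δ, hδ, hδf⟩
    have hδi := hδ.isIso h𝒳
    let I : t.obj w ≅ (diag f).obj (t.obj w).obj.snd := fpIsoMk (asIso δ) (Iso.refl _) (by
      change f.map δ ≫ 𝟙 _ = (t.obj w).obj.iso.hom ≫ f.map (𝟙 _)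
      rw [hδf, CategoryTheory.Functor.map_id])
    let z : (fp t (diag f)).obj :=
      fpMk (F := t) (G := diag f) w (t.obj w).obj.snd I (vert_fp_iff.2 hδ)
    obtain ⟨r, m, hm⟩ := hsurj w z rfl
    refine ⟨r, Subtype.ext ?_⟩
    have hmf : m.hom.hom.fst = (W w r).hom := by
      obtain ⟨_, h1⟩ := vert_fp_iff.1 hm
      obtain ⟨_, h2⟩ := hW w r
      exact Over.OverMorphism.ext (h1.trans h2.symm)
    have hw' : t.map m.hom.hom.fst ≫ I.hom = (zo w r).obj.iso.hom ≫ (diag f).map m.hom.hom.snd :=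
      m.hom.hom.w
    have hCm : (C w r).hom ≫ (diag f).map m.hom.hom.snd = I.hom := by
      rw [hmf] at hw'
      simp only [C, Iso.trans_hom, Iso.symm_hom, Functor.mapIso_inv, Category.assoc]
      rw [← hw', ← Category.assoc, ← Functor.map_comp, Iso.inv_hom_id]
      simp
    have h1 : (ca w r).hom ≫ m.hom.hom.snd = δ := congrArg (fun k => k.hom.fst) hCm
    have h2 : (cb w r).hom ≫ m.hom.hom.snd = 𝟙 _ := congrArg (fun k => k.hom.snd) hCm
    change (ca w r).hom ≫ (cb w r).inv = δ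
    rw [← h1]
    congr 1
    exact ((Iso.inv_comp_eq _).2 h2.symm).symm.trans (Category.comp_id _) |>.symm
  · intro w' w κ r r' hr
    obtain ⟨Z, hZ⟩ := hnat κ r r' hr
    have hsqZ : t.map Z.hom.fst ≫ (zo w r).obj.iso.hom =
        (zo w' r').obj.iso.hom ≫ (diag f).map Z.hom.snd := Z.hom.w
    have hkey : t.map κ ≫ (C w r).hom = (C w' r').hom ≫ (diag f).map Z.hom.snd := by
      simp only [C, Iso.trans_hom, Iso.symm_hom, Functor.mapIso_inv, Category.assoc]
      rw [← hsqZ, ← hZ]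
      simp
    have h1 : (t.map κ).hom.fst ≫ (ca w r).hom = (ca w' r').hom ≫ Z.hom.snd :=
      congrArg (fun k => k.hom.fst) hkey
    have h2 : (t.map κ).hom.snd ≫ (cb w r).hom = (cb w' r').hom ≫ Z.hom.snd :=
      congrArg (fun k => k.hom.snd) hkey
    change ((ca w' r').hom ≫ (cb w' r').inv) ≫ _ = _ ≫ (ca w r).hom ≫ (cb w r).inv
    rw [reassoc_of% h1, ← cancel_mono (cb w r).hom]
    simp only [Category.assoc, h2, Iso.inv_hom_id, Iso.inv_hom_id_assoc, Category.comp_id]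

end Groth.Agent.IsoCls
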