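import Groth.Agent.IsoCls.Twist

/-!
Glueing two objects over the halves of a double along a morphism over the overlap.
-/

set_option autoImplicit false
set_option backward.isDefEq.respectTransparency false
set_option backward.isDefEq.respectTransparency.types false

universe u

open CategoryTheory CategoryTheory.Limits AlgebraicGeometry FibCat
open CategoryTheory.Functor Groth.Agent.FibC

namespace Groth.Agent.IsoCls

variable {S : Scheme.{u}} {𝒳 : AlgSt.Cat S} {J : GrothendieckTopology (Over S)} {T : Over S}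

/-- Cocycles give objects. -/
theorem exists_glue₂ (h : Stk.IsStack J 𝒳) (L : Double J T) (X₁ X₂ : overCat T ⥤ᵇ 𝒳)
    (σ : X₁.obj L.W ⟶ X₂.obj L.W) (hσ : 𝒳.p.IsHomLift (𝟙 (Over.left L.W)) σ) :
    ∃ (z : 𝒳.obj) (_ : 𝒳.p.obj z = Over.left L.C) (f₁ : X₁.obj L.U ⟶ z) (f₂ : X₂.obj L.U ⟶ z),
      𝒳.p.IsHomLift L.j₁.left f₁ ∧ 𝒳.p.IsHomLift L.j₂.left f₂ ∧
        X₁.map L.v ≫ f₁ = σ ≫ X₂.map L.v ≫ f₂ := by
  classical
  have hg : IsFibGrpd 𝒳.p := h.1
  let Xb : Bool → (overCat T ⥤ᵇ 𝒳) := fun i => bif i then X₁ else X₂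
  have hXsc := fun i => preserves_overCat hg (Xb i)
  have hlift : ∀ i {b c : (overCat T).obj} (k : b ⟶ c), 𝒳.p.IsHomLift k.left ((Xb i).map k) :=
    fun i _ _ k => map_lift (Xb i) k
  have : IsIso σ := isIso_of_fibGrpd hg (𝟙 (Over.left L.W)) σ
  let g : ∀ i, ((Xb i).obj L.W ≅ X₂.obj L.W) := fun i => match i with
    | true => asIso σ
    | false => Iso.refl _
  let δ : ∀ i i', ((Xb i).obj L.W ⟶ (Xb i').obj L.W) := fun i i' => (g i).hom ≫ (g i').inv
  have hg1 : ∀ i, 𝒳.p.IsHomLift (𝟙 (Over.left L.W)) (g i).hom := fun i => by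
    cases i
    · exact IsHomLift.id (X₂.w_obj L.W)
    · exact hσ
  have hδ : ∀ i i', 𝒳.p.IsHomLift (𝟙 (Over.left L.W)) (δ i i') := fun i i' => by
    have := hg1 i
    have := hg1 i'
    infer_instance
  have hδ1 : δ true false = σ := by
    change σ ≫ 𝟙 _ = σ
    rw [Category.comp_id]
  -- the cover of `C`
  let R : Sieve (Over.left L.C) := sieve2 L.j₁.left L.j₂.left
  let j : Bool → (L.U ⟶ L.C) := fun i => bif i then L.j₁ else L.j₂
  let bb : (Stk.sieveCat R).obj → (overCat T).obj := fun a => (overMap (Over.hom L.C)).obj a.obj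
  let m : ∀ (a : (Stk.sieveCat R).obj) (w : Over.left a.obj ⟶ Over.left L.W),
      w ≫ (L.v ≫ L.j₁).left = Over.hom a.obj → (bb a ⟶ L.W) := fun a w hw =>
    Over.homMk w (by
      change w ≫ Over.hom L.W = Over.hom a.obj ≫ Over.hom L.C
      rw [← hw, Category.assoc]
      exact congrArg (w ≫ ·) (Over.w (L.v ≫ L.j₁)).symm)
  have hmonoW : Mono (L.v ≫ L.j₁).left := by
    have := L.monov
    have := L.mono₁
    rw [Over.comp_left]
    infer_instance
  -- which member a test object factors through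
  let Fac : (Stk.sieveCat R).obj → Bool → Prop := fun a i =>
    ∃ u : Over.left a.obj ⟶ Over.left L.U, u ≫ (j i).left = Over.hom a.obj
  have hFac : ∀ a, ∃ i, Fac a i := fun a => by
    rcases a.property with ⟨u, hu⟩ | ⟨u, hu⟩
    · exact ⟨true, u, hu⟩
    · exact ⟨false, u, hu⟩
  choose idx hidx using hFac
  have hFacPull : ∀ {a b : (Stk.sieveCat R).obj} (_ : a ⟶ b) (i : Bool), Fac b i → Fac a i := by
    rintro a b k i ⟨u, hu⟩
    exact ⟨k.hom.left ≫ u, by rw [Category.assoc, hu]; exact Over.w k.hom⟩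
  have hFacW : ∀ a (i i' : Bool), Fac a i → Fac a i' → i ≠ i' →
      ∃ w : Over.left a.obj ⟶ Over.left L.W, w ≫ (L.v ≫ L.j₁).left = Over.hom a.obj := by
    intro a i i' hi hi' hne
    have key : ∀ u u' : Over.left a.obj ⟶ Over.left L.U, u ≫ L.j₁.left = Over.hom a.obj →
        u' ≫ L.j₂.left = Over.hom a.obj →
        ∃ w : Over.left a.obj ⟶ Over.left L.W, w ≫ (L.v ≫ L.j₁).left = Over.hom a.obj := by
      intro u u' hu hu'
      obtain ⟨w, hw, -⟩ := L.overlap u u' (hu.trans hu'.symm)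
      exact ⟨w, by rw [Over.comp_left, ← Category.assoc, hw, hu]⟩
    obtain ⟨u, hu⟩ := hi
    obtain ⟨u', hu'⟩ := hi'
    cases i <;> cases i'
    · exact (hne rfl).elim
    · exact key u' u hu' hu
    · exact key u u' hu hu'
    · exact (hne rfl).elim
  have hτex : ∀ (a : (Stk.sieveCat R).obj) (i i' : Bool) (_ : Fac a i) (_ : Fac a i'),
      ∃ t : (Xb i).obj (bb a) ⟶ (Xb i').obj (bb a),
      𝒳.p.IsHomLift (𝟙 (Over.left a.obj)) t ∧
      (∀ (w : Over.left a.obj ⟶ Over.left L.W) (hw : w ≫ (L.v ≫ L.j₁).left = Over.hom a.obj),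
        t ≫ (Xb i').map (m a w hw) = (Xb i).map (m a w hw) ≫ δ i i') ∧
      (∀ e : i = i', t = eqToHom (e ▸ rfl)) := by
    intro a i i' hi hi'
    by_cases e : i = i'
    · subst e
      refine ⟨𝟙 _, IsHomLift.id ((Xb i).w_obj (bb a)), fun w hw => ?_, fun _ => rfl⟩
      simp [δ]
    · obtain ⟨w, hw⟩ := hFacW a i i' hi hi' e
      have : 𝒳.p.IsHomLift w ((Xb i).map (m a w hw)) := hlift i (m a w hw)
      have := hδ i i'
      have : 𝒳.p.IsHomLift w ((Xb i').map (m a w hw)) := hlift i' (m a w hw)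
      have : 𝒳.p.IsHomLift w ((Xb i).map (m a w hw) ≫ δ i i') :=
        IsHomLift.comp_lift_id_right' 𝒳.p _ _ (Over.left L.W) _
      obtain ⟨t, ht, -, ht'⟩ := GalCohAux.GerbBasic.exists_fac hg w ((Xb i').map (m a w hw))
        ((Xb i).map (m a w hw) ≫ δ i i')
      refine ⟨t, ht, fun w' hw' => ?_, fun h => (e h).elim⟩
      obtain rfl : w' = w := (cancel_mono (L.v ≫ L.j₁).left).1 (hw'.trans hw.symm)
      exact ht'
  choose τ hτv hτw hτn using hτex
  have hτext : ∀ (a : (Stk.sieveCat R).obj) (i i' : Bool)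
      (t t' : (Xb i).obj (bb a) ⟶ (Xb i').obj (bb a))
      (w : Over.left a.obj ⟶ Over.left L.W) (hw : w ≫ (L.v ≫ L.j₁).left = Over.hom a.obj),
      𝒳.p.IsHomLift (𝟙 (Over.left a.obj)) t → 𝒳.p.IsHomLift (𝟙 (Over.left a.obj)) t' →
      t ≫ (Xb i').map (m a w hw) = t' ≫ (Xb i').map (m a w hw) → t = t' :=
    fun a i i' t t' w hw h1 h2 h3 => by
    have : 𝒳.p.IsStronglyCartesian w ((Xb i').map (m a w hw)) := map_sc (hXsc i') (m a w hw)
    exact IsStronglyCartesian.ext 𝒳.p w ((Xb i').map (m a w hw)) (𝟙 (Over.left a.obj)) h3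
  have hτid : ∀ a i hi, τ a i i hi hi = 𝟙 _ := fun a i hi => hτn a i i hi hi rfl
  have hτmul : ∀ a i i' i'' hi hi' hi'',
      τ a i i' hi hi' ≫ τ a i' i'' hi' hi'' = τ a i i'' hi hi'' := by
    intro a i i' i'' hi hi' hi''
    by_cases hW : ∃ w : Over.left a.obj ⟶ Over.left L.W, w ≫ (L.v ≫ L.j₁).left = Over.hom a.obj
    · obtain ⟨w, hw⟩ := hW
      have := hτv a i i' hi hi'
      have := hτv a i' i'' hi' hi''
      refine hτext a _ _ _ _ w hw inferInstance (hτv a i i'' hi hi'') ?_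
      rw [Category.assoc, hτw a i' i'' hi' hi'' w hw, ← Category.assoc, hτw a i i' hi hi' w hw,
        hτw a i i'' hi hi'' w hw]
      simp [δ]
    · obtain rfl : i = i' := by_contra fun hne => hW (hFacW a i i' hi hi' hne)
      rw [hτid, Category.id_comp]
  let Fk : ∀ {a b : (Stk.sieveCat R).obj}, (a ⟶ b) → (bb a ⟶ bb b) := fun k =>
    (overMap (Over.hom L.C)).map k.hom
  have hτnat : ∀ {a b : (Stk.sieveCat R).obj} (k : a ⟶ b) (i i' : Bool) (hi : Fac b i)
      (hi' : Fac b i'), (Xb i).map (Fk k) ≫ τ b i i' hi hi' =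
        τ a i i' (hFacPull k i hi) (hFacPull k i' hi') ≫ (Xb i').map (Fk k) := by
    intro a b k i i' hi hi'
    by_cases hW : ∃ w : Over.left b.obj ⟶ Over.left L.W, w ≫ (L.v ≫ L.j₁).left = Over.hom b.obj
    · obtain ⟨w, hw⟩ := hW
      have hw' : (k.hom.left ≫ w) ≫ (L.v ≫ L.j₁).left = Over.hom a.obj := by
        rw [Category.assoc, hw]; exact Over.w k.hom
      have hcomp : Fk k ≫ m b w hw = m a (k.hom.left ≫ w) hw' := Over.OverMorphism.ext rfl
      have h1 : 𝒳.p.IsStronglyCartesian w ((Xb i').map (m b w hw)) := map_sc (hXsc i') (m b w hw)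
      have h2 : 𝒳.p.IsHomLift k.hom.left ((Xb i).map (Fk k)) := hlift i (Fk k)
      have h2' : 𝒳.p.IsHomLift k.hom.left ((Xb i').map (Fk k)) := hlift i' (Fk k)
      have := hτv b i i' hi hi'
      have := hτv a i i' (hFacPull k i hi) (hFacPull k i' hi')
      have : 𝒳.p.IsHomLift k.hom.left ((Xb i).map (Fk k) ≫ τ b i i' hi hi') :=
        IsHomLift.comp_lift_id_right' 𝒳.p _ _ (Over.left b.obj) _
      have : 𝒳.p.IsHomLift k.hom.left
          (τ a i i' (hFacPull k i hi) (hFacPull k i' hi') ≫ (Xb i').map (Fk k)) :=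
        IsHomLift.comp_lift_id_left' 𝒳.p (Over.left a.obj) _ _ _
      apply IsStronglyCartesian.ext 𝒳.p w ((Xb i').map (m b w hw)) k.hom.left
      rw [Category.assoc, hτw b i i' hi hi' w hw, ← Category.assoc, ← Functor.map_comp, hcomp,
        ← hτw a i i' (hFacPull k i hi) (hFacPull k i' hi') _ hw', ← hcomp, Functor.map_comp,
        Category.assoc]
    · obtain rfl : i = i' := by_contra fun hne => hW (hFacW b i i' hi hi' hne)
      rw [hτid, hτid, Category.comp_id, Category.id_comp]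
  -- the descent datum
  let G₀ : (Stk.sieveCat R).obj ⥤ 𝒳.obj :=
    { obj := fun a => (Xb (idx a)).obj (bb a)
      map := fun {a b} k =>
        τ a (idx a) (idx b) (hidx a) (hFacPull k _ (hidx b)) ≫ (Xb (idx b)).map (Fk k)
      map_id := fun a => by
        rw [hτid, Category.id_comp]
        change (Xb (idx a)).map ((overMap (Over.hom L.C)).map (𝟙 a.obj)) = _
        rw [CategoryTheory.Functor.map_id, CategoryTheory.Functor.map_id]
      map_comp := fun {a b c} k l => by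
        have h1 : Fk (k ≫ l) = Fk k ≫ Fk l := (overMap (Over.hom L.C)).toFunctor.map_comp _ _
        rw [h1, Functor.map_comp, Category.assoc, ← Category.assoc ((Xb (idx b)).map (Fk k)),
          hτnat k _ _ (hidx b) (hFacPull l _ (hidx c))]
        simp only [← Category.assoc]
        rw [hτmul] }
  have hG₀ : ∀ {a b : (Stk.sieveCat R).obj} (k : a ⟶ b),
      𝒳.p.IsHomLift k.hom.left (G₀.map k) := fun {a b} k => by
    have := hτv a (idx a) (idx b) (hidx a) (hFacPull k _ (hidx b))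
    have : 𝒳.p.IsHomLift k.hom.left ((Xb (idx b)).map (Fk k)) := hlift _ (Fk k)
    exact IsHomLift.comp_lift_id_left' 𝒳.p (Over.left a.obj) _ _ _
  let Φ : Stk.sieveCat R ⥤ᵇ 𝒳 :=
    ⟨G₀, CategoryTheory.Functor.ext (fun a => (Xb (idx a)).w_obj (bb a)) (fun a b k => by
      have := hG₀ k
      exact IsHomLift.fac' 𝒳.p k.hom.left (G₀.map k))⟩
  have : (Stk.resSieve R 𝒳).IsEquivalence := h.2 R L.cov
  let Ψ := (Stk.resSieve R 𝒳).objPreimage Φ
  let ε : (Stk.resSieve R 𝒳).obj Ψ ≅ Φ := (Stk.resSieve R 𝒳).objObjPreimageIso Φ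
  let ψ : ∀ a : (Stk.sieveCat R).obj, G₀.obj a ⟶ Ψ.obj (overTop (Over.left L.C)) := fun a =>
    ε.inv.toNatTrans.app a ≫ Ψ.map (toTop a.obj)
  have hψ : ∀ a, 𝒳.p.IsHomLift (Over.hom a.obj) (ψ a) := fun a => by
    have : 𝒳.p.IsHomLift (𝟙 (Over.left a.obj)) (ε.inv.toNatTrans.app a) :=
      BasedNatTrans.app_isHomLift ε.inv a
    have : 𝒳.p.IsHomLift (Over.hom a.obj) (Ψ.map (toTop a.obj)) := map_lift Ψ (toTop a.obj)
    exact IsHomLift.comp_lift_id_left' 𝒳.p (Over.left a.obj) _ _ _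
  have hψnat : ∀ {a b : (Stk.sieveCat R).obj} (k : a ⟶ b), G₀.map k ≫ ψ b = ψ a := by
    intro a b k
    have h1 : G₀.map k ≫ ε.inv.toNatTrans.app b =
        ε.inv.toNatTrans.app a ≫ Ψ.map k.hom := ε.inv.toNatTrans.naturality k
    have h2 : k.hom ≫ toTop b.obj = toTop a.obj := Over.OverMorphism.ext (Over.w k.hom)
    simp only [ψ]
    rw [← Category.assoc, h1, Category.assoc, ← Functor.map_comp, h2]
  -- the two trivialisations
  let aI : Bool → (Stk.sieveCat R).obj := fun i => ⟨Over.mk (j i).left, by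
    cases i
    · exact Or.inr ⟨𝟙 _, Category.id_comp _⟩
    · exact Or.inl ⟨𝟙 _, Category.id_comp _⟩⟩
  let κ : ∀ i : Bool, L.U ⟶ bb (aI i) := fun i =>
    Over.homMk (𝟙 (Over.left L.U)) ((Category.id_comp _).trans (Over.w (j i)))
  have hII : ∀ i : Bool, Fac (aI i) i := fun i => ⟨𝟙 _, Category.id_comp _⟩
  let ξ' : ∀ i : Bool, (Xb i).obj (bb (aI i)) ⟶ Ψ.obj (overTop (Over.left L.C)) := fun i =>
    τ (aI i) i (idx (aI i)) (hII i) (hidx _) ≫ ψ (aI i)
  -- the relation over `W`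
  let aW : (Stk.sieveCat R).obj := ⟨Over.mk (L.v ≫ L.j₁).left,
    Or.inl ⟨L.v.left, rfl⟩⟩
  let kI : ∀ i : Bool, aW ⟶ aI i := fun i => ObjectProperty.homMk (Over.homMk L.v.left (by
    cases i
    · exact congrArg Over.Hom.left L.glue.symm
    · rfl))
  have hIW : ∀ i : Bool, Fac aW i := fun i => hFacPull (kI i) i (hII i)
  let κW : L.W ⟶ bb aW := Over.homMk (𝟙 (Over.left L.W))
    ((Category.id_comp _).trans (Over.w (L.v ≫ L.j₁)))
  have hκ : ∀ i, κW ≫ Fk (kI i) = L.v ≫ κ i := fun i =>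
    Over.OverMorphism.ext ((Category.id_comp _).trans (Category.comp_id _).symm)
  have hτW : X₁.map κW ≫ τ aW true false (hIW true) (hIW false) = σ ≫ X₂.map κW := by
    have hw : (𝟙 (Over.left L.W)) ≫ (L.v ≫ L.j₁).left = Over.hom aW.obj := Category.id_comp _
    have hm : κW ≫ m aW _ hw = 𝟙 L.W := Over.OverMorphism.ext (Category.id_comp _)
    have : IsIso (m aW _ hw) := ⟨κW, Over.OverMorphism.ext (Category.id_comp _), hm⟩
    have h3 := hτw aW true false (hIW true) (hIW false) _ hw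
    rw [hδ1] at h3
    change _ ≫ X₂.map _ = X₁.map _ ≫ σ at h3
    rw [← cancel_mono (X₂.map (m aW _ hw)), Category.assoc, h3, ← Category.assoc,
      ← Functor.map_comp, hm, CategoryTheory.Functor.map_id, Category.id_comp,
      Category.assoc, ← Functor.map_comp, hm, CategoryTheory.Functor.map_id, Category.comp_id]
  have e : ∀ i, (Xb i).map (Fk (kI i)) ≫ ξ' i = τ aW i (idx aW) (hIW i) (hidx _) ≫ ψ aW :=
    fun i => by
    rw [← hψnat (kI i)]
    change (Xb i).map (Fk (kI i)) ≫ τ (aI i) i (idx (aI i)) _ _ ≫ ψ (aI i) =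
      τ aW i (idx aW) _ _ ≫
        (τ aW (idx aW) (idx (aI i)) _ _ ≫ (Xb (idx (aI i))).map (Fk (kI i))) ≫ ψ (aI i)
    rw [← Category.assoc, hτnat (kI i) _ _ (hII i) (hidx _)]
    simp only [← Category.assoc]
    rw [hτmul]
  have hk : X₁.map (Fk (kI true)) ≫ ξ' true =
      τ aW true false (hIW true) (hIW false) ≫ X₂.map (Fk (kI false)) ≫ ξ' false :=
    (e true).trans (((congrArg (_ ≫ ·) (e false)).trans
      ((Category.assoc _ _ _).symm.trans (congrArg (· ≫ ψ aW) (hτmul _ _ _ _ _ _ _)))).symm)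
  have hlifts : ∀ i, 𝒳.p.IsHomLift (j i).left ((Xb i).map (κ i) ≫ ξ' i) := fun i => by
    have : 𝒳.p.IsHomLift (𝟙 (Over.left L.U)) ((Xb i).map (κ i)) := hlift i (κ i)
    have : 𝒳.p.IsHomLift (j i).left (ψ (aI i)) := hψ (aI i)
    have : 𝒳.p.IsHomLift (𝟙 (Over.left L.U)) (τ (aI i) i (idx (aI i)) (hII i) (hidx _)) :=
      hτv (aI i) i (idx (aI i)) (hII i) (hidx _)
    have : 𝒳.p.IsHomLift (j i).left (ξ' i) :=
      IsHomLift.comp_lift_id_left' 𝒳.p (Over.left L.U) _ _ _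
    exact IsHomLift.comp_lift_id_left' 𝒳.p (Over.left L.U) _ _ _
  refine ⟨Ψ.obj (overTop (Over.left L.C)), Ψ.w_obj _, X₁.map (κ true) ≫ ξ' true,
    X₂.map (κ false) ≫ ξ' false, hlifts true, hlifts false, ?_⟩
  rw [← Category.assoc (X₁.map L.v), ← Functor.map_comp, ← hκ, Functor.map_comp, Category.assoc,
    hk, ← Category.assoc, hτW, Category.assoc, ← Category.assoc (X₂.map κW), ← Functor.map_comp,
    hκ, Functor.map_comp, Category.assoc]

end Groth.Agent.IsoCls
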