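import Groth.Agent.StkLib.Glue
import Groth.Agent.GalCohAux.GerbGlue
import Groth.Agent.GalCohAux.GerbBasic
import Groth.Agent.StFib.Grpd

/-!
Glueing morphisms over an arbitrary morphism of the base, and morphisms given by their values on
objects in the image of a chart.
-/

set_option autoImplicit false
set_option linter.unusedVariables false
set_option backward.isDefEq.respectTransparency false
set_option backward.isDefEq.respectTransparency.types false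

universe v₂ u₂ v u

open CategoryTheory CategoryTheory.Limits FibCat
open CategoryTheory.Functor Groth.Agent.FibC

namespace Groth.Agent.IsoCls

variable {C : Type u} [Category.{v} C] {J : GrothendieckTopology C}
  {𝒳 : BasedCategory.{v₂, u₂} C}

theorem lift_comp {R S T : C} {a b c : 𝒳.obj} {f : R ⟶ S} {g : S ⟶ T} {φ : a ⟶ b} {ψ : b ⟶ c}
    (hφ : 𝒳.p.IsHomLift f φ) (hψ : 𝒳.p.IsHomLift g ψ) : 𝒳.p.IsHomLift (f ≫ g) (φ ≫ ψ) :=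
  inferInstance

theorem lift_unique {R S : C} {a b : 𝒳.obj} {f g : R ⟶ S} {φ : a ⟶ b}
    (hf : 𝒳.p.IsHomLift f φ) (hg : 𝒳.p.IsHomLift g φ) : f = g :=
  map_eq_of_isHomLift (p := 𝒳.p) f g φ

/-- Morphisms over a morphism of the base which agree locally are equal. -/
theorem hom_ext_lift (h : Stk.IsPrestack J 𝒳) {U T : C} {ζ ζ' : 𝒳.obj} (g : U ⟶ T) {φ φ' : ζ ⟶ ζ'}
    (hφ : 𝒳.p.IsHomLift g φ) (hφ' : 𝒳.p.IsHomLift g φ') (R : Sieve U) (hR : R ∈ J U)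
    (hloc : ∀ ⦃V : C⦄ (f : V ⟶ U), R f → ∀ (z : 𝒳.obj) (ν : z ⟶ ζ), 𝒳.p.IsHomLift f ν →
      ν ≫ φ = ν ≫ φ') : φ = φ' := by
  obtain ⟨χ, hχ, -, hχ'⟩ := GalCohAux.GerbBasic.exists_fac h.1 g φ' φ
  have : 𝒳.p.IsHomLift (𝟙 U) (𝟙 ζ) := IsHomLift.id (IsHomLift.domain_eq 𝒳.p g φ)
  have hid : χ = 𝟙 ζ := StkLib.hom_ext_of_local h R hR χ (𝟙 ζ) fun V f hf z ν hν => by
    rw [Category.comp_id]
    have := sc_of_fibGrpd h.1 g φ'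
    have h1 : 𝒳.p.IsHomLift f (ν ≫ χ) := by
      simpa using lift_comp hν hχ
    apply IsStronglyCartesian.ext 𝒳.p g φ' f
    rw [Category.assoc, hχ', hloc f hf z ν hν]
  rw [← hχ', hid, Category.id_comp]

/-- Morphisms over a morphism of the base glue. -/
theorem exists_hom_of_sieve (h : Stk.IsPrestack J 𝒳) {U T : C} {ζ ζ' : 𝒳.obj}
    (hζ : 𝒳.p.obj ζ = U) (hζ' : 𝒳.p.obj ζ' = T) (g : U ⟶ T) (R : Sieve U) (hR : R ∈ J U)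
    (v : ∀ ⦃z : 𝒳.obj⦄ (ν : z ⟶ ζ), R (𝒳.p.map ν ≫ eqToHom hζ) → (z ⟶ ζ'))
    (hv : ∀ ⦃z : 𝒳.obj⦄ (ν : z ⟶ ζ) (hν : R (𝒳.p.map ν ≫ eqToHom hζ)),
      𝒳.p.IsHomLift ((𝒳.p.map ν ≫ eqToHom hζ) ≫ g) (v ν hν))
    (hnat : ∀ ⦃z w : 𝒳.obj⦄ (k : w ⟶ z) (ν : z ⟶ ζ) (hν : R (𝒳.p.map ν ≫ eqToHom hζ))
      (hkν : R (𝒳.p.map (k ≫ ν) ≫ eqToHom hζ)), v (k ≫ ν) hkν = k ≫ v ν hν) :
    ∃ φ : ζ ⟶ ζ', 𝒳.p.IsHomLift g φ ∧
      ∀ ⦃z : 𝒳.obj⦄ (ν : z ⟶ ζ) (hν : R (𝒳.p.map ν ≫ eqToHom hζ)), ν ≫ φ = v ν hν := by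
  subst hζ
  have hR' : ∀ {z : 𝒳.obj} (ν : z ⟶ ζ), R (𝒳.p.map ν) → R (𝒳.p.map ν ≫ eqToHom rfl) :=
    fun ν hν => by simpa using hν
  suffices hs : ∃ φ : ζ ⟶ ζ', 𝒳.p.IsHomLift g φ ∧
      ∀ ⦃z : 𝒳.obj⦄ (ν : z ⟶ ζ) (hν : R (𝒳.p.map ν)), ν ≫ φ = v ν (hR' ν hν) by
    obtain ⟨φ, h1, h2⟩ := hs
    exact ⟨φ, h1, fun z ν hν => h2 ν (by simpa using hν)⟩
  obtain ⟨η, ψ, hψ⟩ := exists_lift' h.1 (x := ζ') hζ' g
  have := sc_of_fibGrpd h.1 g ψ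
  have hex : ∀ ⦃z : 𝒳.obj⦄ (ν : z ⟶ ζ) (hν : R (𝒳.p.map ν)),
      ∃ m : z ⟶ η, 𝒳.p.IsHomLift (𝒳.p.map ν) m ∧ m ≫ ψ = v ν (hR' ν hν) := fun z ν hν => by
    have := hv ν (hR' ν hν)
    simp only [eqToHom_refl, Category.comp_id] at this
    obtain ⟨m, ⟨h1, h2⟩, -⟩ :=
      IsStronglyCartesian.universal_property 𝒳.p g ψ (𝒳.p.map ν) _ rfl (v ν (hR' ν hν))
    exact ⟨m, h1, h2⟩
  choose m hm hm' using hex
  obtain ⟨φ, hφ, hφ'⟩ := GalCohAux.GerbGlue.exists_glue_hom h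
    (IsHomLift.domain_eq 𝒳.p g ψ) R hR m hm fun z w k ν hν hkν => by
      have h1 : 𝒳.p.IsHomLift (𝒳.p.map (k ≫ ν)) (k ≫ m ν hν) := by
        rw [Functor.map_comp]
        exact lift_comp (IsHomLift.map 𝒳.p k) (hm ν hν)
      have := hm _ hkν
      apply IsStronglyCartesian.ext 𝒳.p g ψ (𝒳.p.map (k ≫ ν))
      rw [hm', Category.assoc, hm', hnat k ν (hR' ν hν) (hR' _ hkν)]
  exact ⟨φ ≫ ψ, by simpa using lift_comp hφ hψ, fun z ν hν => by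
    rw [← Category.assoc, hφ' ν hν, hm' ν hν]⟩

end Groth.Agent.IsoCls
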