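import Groth.Agent.IsoCls.DoubleSurj
import Groth.Agent.IsoCls.Glue2
import Groth.Agent.StFib.Yoneda

/-!
Extension of isomorphisms from an open part, read from presheaves of isomorphism classes.
-/

set_option autoImplicit false
set_option linter.unusedVariables false
set_option backward.isDefEq.respectTransparency false
set_option backward.isDefEq.respectTransparency.types false

universe u

open CategoryTheory CategoryTheory.Limits AlgebraicGeometry FibCat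
open CategoryTheory.Functor Groth.Agent.FibC Groth.Agent.StFib

namespace Groth.Agent.IsoCls

variable {S : Scheme.{u}}

/-- Isomorphisms over `W` of objects over `T` which are compatible with an isomorphism over `T` of
their images extend to `T`. -/
def IsoExt {𝒳 𝒴 : AlgSt.Cat S} (f : 𝒳 ⥤ᵇ 𝒴) {W T : Over S} (j : W ⟶ T) : Prop :=
  ∀ (X₁ X₂ : overCat T ⥤ᵇ 𝒳) (γ : f.obj (X₁.obj (overTop T)) ⟶ f.obj (X₂.obj (overTop T))),
    Vert γ → ∀ δ : X₁.obj (Over.mk j) ⟶ X₂.obj (Over.mk j), Vert δ →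
    f.map δ ≫ f.map (X₂.map (toTop (Over.mk j))) = f.map (X₁.map (toTop (Over.mk j))) ≫ γ →
    ∃ ε : X₁.obj (overTop T) ⟶ X₂.obj (overTop T), Vert ε ∧
      δ ≫ X₂.map (toTop (Over.mk j)) = X₁.map (toTop (Over.mk j)) ≫ ε

/-- A chart with a given top value. -/
theorem exists_chart_of_fib {𝒳 : AlgSt.Cat S} (h : IsFibGrpd 𝒳.p) {U : Over S} (x : 𝒳.p.Fiber U) :
    ∃ (X : overCat U ⥤ᵇ 𝒳) (i : X.obj (overTop U) ⟶ x.1), 𝒳.p.IsHomLift (𝟙 U) i ∧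
      IsoNat.cls (vfib X (overTop U)) = IsoNat.cls x := by
  obtain ⟨X, i, hi⟩ := exists_overFunctor h x.1 x.2
  have hl : 𝒳.p.IsHomLift (𝟙 U) i.hom := hi.isHomLift (X.w_obj _)
  exact ⟨X, i.hom, hl, Quotient.sound (fiber_iso_of_hom h (x := vfib X (overTop U)) (y := x) i.hom hl)⟩

/-- A factorisation through a morphism from the top of a chart. -/
theorem exists_restrict {𝒳 : AlgSt.Cat S} (h : IsFibGrpd 𝒳.p) {U : Over S} (Y : overCat U ⥤ᵇ 𝒳)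
    (b : (overCat U).obj) {x : 𝒳.obj} (g : x ⟶ Y.obj (overTop U))
    (hg : 𝒳.p.IsHomLift (toTop b).left g) :
    ∃ θ : x ⟶ Y.obj b, θ ≫ Y.map (toTop b) = g := by
  have := map_lift Y (toTop b)
  obtain ⟨θ, -, -, hθ⟩ := GalCohAux.GerbBasic.exists_fac h (toTop b).left (Y.map (toTop b)) g
  exact ⟨θ, hθ⟩

/-- Extension of isomorphisms along an open immersion only depends on the map of presheaves of
isomorphism classes. -/
theorem isoExt_of_fIsoSq {𝒳 𝒴 𝒳' 𝒴' : AlgSt.Cat S} {f : 𝒳 ⥤ᵇ 𝒴} {f' : 𝒳' ⥤ᵇ 𝒴'}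
    (h𝒳 : Stk.IsStack (AlgSp.J S) 𝒳) (h𝒴 : Stk.IsStack (AlgSp.J S) 𝒴)
    (h𝒳' : Stk.IsStack (AlgSp.J S) 𝒳') (h𝒴' : Stk.IsStack (AlgSp.J S) 𝒴')
    (φ : IsoNat.FIsoSq f f') {W₀ T : Over S} (j : W₀ ⟶ T) [IsOpenImmersion j.left]
    (h : IsoExt f j) : IsoExt f' j := by
  intro X₁ X₂ γ hγ δ hδ hcond
  have hgX : IsFibGrpd 𝒳.p := h𝒳.1
  have hgY : IsFibGrpd 𝒴.p := h𝒴.1
  have hgX' : IsFibGrpd 𝒳'.p := h𝒳'.1
  have hgY' : IsFibGrpd 𝒴'.p := h𝒴'.1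
  let w' : (overCat T).obj := Over.mk j
  let κ : w' ⟶ overTop T := toTop w'
  have : IsOpenImmersion κ.left.left := inferInstanceAs (IsOpenImmersion j.left)
  obtain ⟨C, j₁, j₂, hm₁, hm₂, hcov, hglue, hov⟩ := exists_double κ
  let L : Double (AlgSp.J S) T :=
    { C := C, U := overTop T, W := w', j₁ := j₁, j₂ := j₂, mono₁ := hm₁, mono₂ := hm₂, cov := hcov
      v := κ, monov := mono_of_left _, glue := hglue, overlap := hov }
  -- the glued object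
  have hδl : 𝒳'.p.IsHomLift (𝟙 (Over.left w')) δ := hδ.isHomLift (X₁.w_obj w')
  obtain ⟨z, hz, f₁, f₂, hf₁, hf₂, hrel⟩ := exists_glue₂ h𝒳' L X₁ X₂ δ hδl
  change X₁.map κ ≫ f₁ = δ ≫ X₂.map κ ≫ f₂ at hrel
  have hγl : 𝒴'.p.IsHomLift (𝟙 T) γ :=
    hγ.isHomLift ((f'.w_obj _).trans (X₁.w_obj _))
  let Y' : overCat T ⥤ᵇ 𝒴' := BasedFunctor.comp X₁ f'
  let zf : 𝒳'.p.Fiber (Over.left L.C) := ⟨z, hz⟩
  let Z₀ : Twist L Y' :=
    ⟨Y'.obj L.C, Y'.w_obj _, Y'.map L.j₁, Y'.map L.j₂, map_lift Y' _, map_lift Y' _, 1, by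
      rw [VA.one_hom, Category.id_comp, ← Functor.map_comp, ← Functor.map_comp, L.glue]⟩
  let Z₁ : Twist L Y' :=
    { z := f'.obj z
      hz := (f'.w_obj z).trans hz
      f₁ := f'.map f₁
      f₂ := γ ≫ f'.map f₂
      hf₁ := by
        change 𝒴'.p.IsHomLift L.j₁.left (f'.map f₁)
        infer_instance
      hf₂ := by
        have : 𝒴'.p.IsHomLift L.j₂.left (f'.map f₂) := inferInstance
        exact IsHomLift.comp_lift_id_left' 𝒴'.p T γ L.j₂.left (f'.map f₂)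
      σ := 1
      rel := by
        rw [VA.one_hom, Category.id_comp]
        change f'.map (X₁.map κ) ≫ f'.map f₁ = f'.map (X₁.map κ) ≫ γ ≫ f'.map f₂
        rw [← Functor.map_comp, hrel, Functor.map_comp, Functor.map_comp, ← Category.assoc,
          hcond, Category.assoc] }
  obtain ⟨ψ₀, hψ₀⟩ := Twist.exists_hom (StkLib.isPrestack_of_isStack h𝒴') Z₀ Z₁ 1 1 (by
    change (1 : VA Y' w') * res hgY' Y' κ 1 = res hgY' Y' κ 1 * 1
    rw [map_one])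
  have hclsY' : IsoNat.cls ((IsoNat.fibFun f' _).obj zf) = IsoNat.cls (vfib Y' L.C) :=
    (Quotient.sound (fiber_iso_of_hom hgY' (x := vfib Y' L.C)
      (y := (IsoNat.fibFun f' (Over.left L.C)).obj zf) ψ₀ hψ₀)).symm
  -- the corresponding objects
  obtain ⟨Y, iY, -, hY⟩ := exists_chart_of_fib hgY
    ((φ.tgt.toEquiv T).symm (IsoNat.cls (vfib Y' (overTop T)))).out
  have hYtop : φ.tgt.toEquiv T (IsoNat.cls (vfib Y (overTop T))) =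
      IsoNat.cls (vfib Y' (overTop T)) := by
    rw [hY]
    exact (congrArg (φ.tgt.toEquiv T) (Quotient.out_eq _)).trans (Equiv.apply_symm_apply _ _)
  have hbY : φ.tgt.toEquiv (Over.left L.C) (IsoNat.cls (vfib Y L.C)) =
      IsoNat.cls (vfib Y' L.C) :=
    toEquiv_eq_of_lifts hgY' φ.tgt (toTop L.C).left (Y.map (toTop L.C)) (Y'.map (toTop L.C))
      (map_lift Y _) (map_lift Y' _) hYtop
  let z₀ : 𝒳.p.Fiber (Over.left L.C) := ((φ.src.toEquiv _).symm (IsoNat.cls zf)).out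
  have hz₀ : φ.src.toEquiv _ (IsoNat.cls z₀) = IsoNat.cls zf :=
    (congrArg (φ.src.toEquiv _) (Quotient.out_eq _)).trans (Equiv.apply_symm_apply _ _)
  have hfz : IsoNat.cls ((IsoNat.fibFun f _).obj z₀) = IsoNat.cls (vfib Y L.C) := by
    refine (φ.tgt.toEquiv _).injective ?_
    rw [hbY, ← hclsY']
    have := φ.comm (Over.left L.C) (IsoNat.cls z₀)
    rw [hz₀] at this
    exact this
  obtain ⟨ηI⟩ := iso_of_cls_eq hfz
  let η : f.obj z₀.1 ⟶ Y.obj L.C := ηI.hom.1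
  have hη : 𝒴.p.IsHomLift (𝟙 (Over.left L.C)) η := ηI.hom.2
  have hpiece : ∀ k : L.U ⟶ L.C, ∃ (X : overCat T ⥤ᵇ 𝒳) (b : X.obj (overTop T) ⟶ z₀.1)
      (g : f.obj (X.obj (overTop T)) ⟶ Y.obj (overTop T)),
      𝒳.p.IsHomLift k.left b ∧ 𝒴.p.IsHomLift (𝟙 T) g ∧ g ≫ Y.map k = f.map b ≫ η := by
    intro k
    obtain ⟨x, a, ha⟩ := hgX.exists_lift (k.left ≫ eqToHom z₀.2.symm)
    have ha' : 𝒳.p.IsHomLift k.left a := (IsHomLift.lift_comp_eqToHom_iff 𝒳.p _ a _).1 ha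
    obtain ⟨X, i, hi, -⟩ := exists_chart_of_fib hgX
      (⟨x, IsHomLift.domain_eq 𝒳.p k.left a⟩ : 𝒳.p.Fiber T)
    have hb : 𝒳.p.IsHomLift k.left (i ≫ a) := IsHomLift.comp_lift_id_left' 𝒳.p T i k.left a
    have hb' : 𝒴.p.IsHomLift k.left (f.map (i ≫ a) ≫ η) :=
      IsHomLift.comp_lift_id_right' 𝒴.p k.left (f.map (i ≫ a)) (Over.left L.C) η
    have := map_lift Y k
    obtain ⟨g, hg, -, hg'⟩ :=
      GalCohAux.GerbBasic.exists_fac hgY k.left (Y.map k) (f.map (i ≫ a) ≫ η)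
    exact ⟨X, i ≫ a, g, hb, hg, hg'⟩
  obtain ⟨P₁, b₁, g₁, hb₁, hg₁, hg₁'⟩ := hpiece j₁
  obtain ⟨P₂, b₂, g₂, hb₂, hg₂, hg₂'⟩ := hpiece j₂
  obtain ⟨δ₀, hδ₀, -, hδ₀'⟩ : ∃ δ₀ : P₁.obj w' ⟶ P₂.obj w',
      𝒳.p.IsHomLift (𝟙 (Over.left w')) δ₀ ∧ IsIso δ₀ ∧
        δ₀ ≫ P₂.map κ ≫ b₂ = P₁.map κ ≫ b₁ := by
    have : 𝒳.p.IsHomLift (L.v.left ≫ L.j₂.left) (P₁.map κ ≫ b₁) :=
      vj_eq (L := L) ▸ v_comp_lift (L := L) b₁ _ hb₁
    have := v_comp_lift (L := L) (X := P₂) b₂ _ hb₂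
    exact GalCohAux.GerbBasic.exists_fac hgX (L.v.left ≫ L.j₂.left) (P₂.map κ ≫ b₂) (P₁.map κ ≫ b₁)
  have : IsIso g₂ := isIso_of_fibGrpd hgY (𝟙 T) g₂
  have hε₀ : f.map δ₀ ≫ f.map (P₂.map κ) ≫ g₂ = f.map (P₁.map κ) ≫ g₁ := by
    have hl₁ : 𝒴.p.IsHomLift κ.left (f.map (P₁.map κ) ≫ g₁) :=
      have := map_lift (BasedFunctor.comp P₁ f) κ
      IsHomLift.comp_lift_id_right' 𝒴.p κ.left ((BasedFunctor.comp P₁ f).map κ) T g₁
    have hl₂ : 𝒴.p.IsHomLift κ.left (f.map δ₀ ≫ f.map (P₂.map κ) ≫ g₂) :=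
      have := map_lift (BasedFunctor.comp P₂ f) κ
      have : 𝒴.p.IsHomLift κ.left (f.map (P₂.map κ) ≫ g₂) :=
        IsHomLift.comp_lift_id_right' 𝒴.p κ.left ((BasedFunctor.comp P₂ f).map κ) T g₂
      have : 𝒴.p.IsHomLift (𝟙 (Over.left w')) (f.map δ₀) := inferInstance
      IsHomLift.comp_lift_id_left' 𝒴.p (Over.left w') (f.map δ₀) κ.left _
    obtain ⟨θ, hθ⟩ := exists_restrict hgY Y w' _ hl₁
    have := map_lift Y j₂
    have := sc_of_fibGrpd hgY j₂.left (Y.map j₂)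
    apply IsStronglyCartesian.ext 𝒴.p j₂.left (Y.map j₂) κ.left
    calc (f.map δ₀ ≫ f.map (P₂.map κ) ≫ g₂) ≫ Y.map j₂
        = f.map (δ₀ ≫ P₂.map κ ≫ b₂) ≫ η := by
          simp only [Category.assoc, hg₂', Functor.map_comp]
      _ = f.map (P₁.map κ) ≫ g₁ ≫ Y.map j₁ := by
          rw [hδ₀', Functor.map_comp, Category.assoc, hg₁']
      _ = θ ≫ Y.map (κ ≫ j₁) := by
          rw [← Category.assoc, ← hθ, Category.assoc, Functor.map_comp]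
      _ = (f.map (P₁.map κ) ≫ g₁) ≫ Y.map j₂ := by
          rw [hglue, Functor.map_comp, ← Category.assoc, hθ]
  have hγ₀ : 𝒴.p.IsHomLift (𝟙 T) (g₁ ≫ inv g₂) := inferInstance
  obtain ⟨ε, hε, hεrel⟩ := h P₁ P₂ (g₁ ≫ inv g₂) (vert_of_isHomLift hγ₀) δ₀
    (vert_of_isHomLift hδ₀) (by
      rw [← Category.assoc, ← cancel_mono g₂]
      simp only [Category.assoc, IsIso.inv_hom_id, Category.comp_id]
      exact hε₀)
  -- the glued object comes from the base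
  let U₀ : Twist L P₁ :=
    ⟨P₁.obj L.C, P₁.w_obj _, P₁.map L.j₁, P₁.map L.j₂, map_lift P₁ _, map_lift P₁ _, 1, by
      rw [VA.one_hom, Category.id_comp, ← Functor.map_comp, ← Functor.map_comp, L.glue]⟩
  let U₁ : Twist L P₁ :=
    { z := z₀.1
      hz := z₀.2
      f₁ := b₁
      f₂ := ε ≫ b₂
      hf₁ := hb₁
      hf₂ := by
        have : 𝒳.p.IsHomLift (𝟙 T) ε := hε.isHomLift (P₁.w_obj _)
        exact IsHomLift.comp_lift_id_left' 𝒳.p T ε L.j₂.left b₂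
      σ := 1
      rel := by
        rw [VA.one_hom, Category.id_comp]
        change P₁.map κ ≫ b₁ = P₁.map κ ≫ ε ≫ b₂
        rw [← hδ₀', ← Category.assoc, hεrel, Category.assoc] }
  obtain ⟨ψ₁, hψ₁⟩ := Twist.exists_hom (StkLib.isPrestack_of_isStack h𝒳) U₀ U₁ 1 1 (by
    change (1 : VA P₁ w') * res hgX P₁ κ 1 = res hgX P₁ κ 1 * 1
    rw [map_one])
  have hz₀' : IsoNat.cls z₀ = IsoNat.cls (vfib P₁ L.C) :=
    (Quotient.sound (fiber_iso_of_hom hgX (x := vfib P₁ L.C) (y := z₀) ψ₁ hψ₁)).symm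
  obtain ⟨X', iX, -, hX'⟩ := exists_chart_of_fib hgX'
    (φ.src.toEquiv T (IsoNat.cls (vfib P₁ (overTop T)))).out
  have hbX : φ.src.toEquiv (Over.left L.C) (IsoNat.cls (vfib P₁ L.C)) =
      IsoNat.cls (vfib X' L.C) :=
    toEquiv_eq_of_lifts hgX' φ.src (toTop L.C).left (P₁.map (toTop L.C)) (X'.map (toTop L.C))
      (map_lift P₁ _) (map_lift X' _) (by rw [hX']; exact (Quotient.out_eq _).symm)
  rw [← hz₀', hz₀] at hbX
  obtain ⟨ψI⟩ := iso_of_cls_eq hbX.symm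
  let ψ : X'.obj L.C ⟶ z := ψI.hom.1
  have hψ : 𝒳'.p.IsHomLift (𝟙 (Over.left L.C)) ψ := ψI.hom.2
  have hE : ∀ (k : L.U ⟶ L.C) {x : 𝒳'.obj} (f₀ : x ⟶ z), 𝒳'.p.IsHomLift k.left f₀ →
      ∃ E : X'.obj (overTop T) ⟶ x, 𝒳'.p.IsHomLift (𝟙 T) E ∧ IsIso E ∧
        E ≫ f₀ = X'.map k ≫ ψ := by
    intro k x f₀ hf₀
    have := map_lift X' k
    have : 𝒳'.p.IsHomLift k.left (X'.map k ≫ ψ) :=
      IsHomLift.comp_lift_id_right' 𝒳'.p k.left (X'.map k) (Over.left L.C) ψ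
    exact GalCohAux.GerbBasic.exists_fac hgX' k.left f₀ (X'.map k ≫ ψ)
  obtain ⟨E₁, hE₁, hE₁i, hE₁'⟩ := hE j₁ f₁ hf₁
  obtain ⟨E₂, hE₂, hE₂i, hE₂'⟩ := hE j₂ f₂ hf₂
  have hε' : 𝒳'.p.IsHomLift (𝟙 T) (inv E₁ ≫ E₂) := inferInstance
  refine ⟨inv E₁ ≫ E₂, vert_of_isHomLift hε', ?_⟩
  have hl : ∀ g : X₁.obj (overTop T) ⟶ X'.obj (overTop T), 𝒳'.p.IsHomLift (𝟙 T) g →
      𝒳'.p.IsHomLift κ.left (X₁.map κ ≫ g) := fun g hg =>
    have := map_lift X₁ κ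
    IsHomLift.comp_lift_id_right' 𝒳'.p κ.left (X₁.map κ) T g
  obtain ⟨θ, hθ⟩ := exists_restrict hgX' X' w' _ (hl (inv E₁) inferInstance)
  have hlA : 𝒳'.p.IsHomLift κ.left (δ ≫ X₂.map κ) :=
    have := map_lift X₂ κ
    IsHomLift.comp_lift_id_left' 𝒳'.p (Over.left w') δ κ.left (X₂.map κ)
  have hlB : 𝒳'.p.IsHomLift κ.left (X₁.map κ ≫ inv E₁ ≫ E₂) :=
    have := map_lift X₁ κ
    IsHomLift.comp_lift_id_right' 𝒳'.p κ.left (X₁.map κ) T _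
  have := sc_of_fibGrpd hgX' j₂.left f₂
  apply IsStronglyCartesian.ext 𝒳'.p j₂.left f₂ κ.left
  calc (δ ≫ X₂.map κ) ≫ f₂ = X₁.map κ ≫ f₁ := by rw [hrel, Category.assoc]
    _ = (X₁.map κ ≫ inv E₁) ≫ E₁ ≫ f₁ := by simp
    _ = θ ≫ X'.map (κ ≫ j₁) ≫ ψ := by
        rw [hE₁', ← hθ, Functor.map_comp]; simp only [Category.assoc]; rfl
    _ = (X₁.map κ ≫ inv E₁) ≫ X'.map j₂ ≫ ψ := by
        rw [← hθ, hglue, Functor.map_comp]; simp only [Category.assoc]; rfl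
    _ = (X₁.map κ ≫ inv E₁ ≫ E₂) ≫ f₂ := by rw [← hE₂']; simp only [Category.assoc]

end Groth.Agent.IsoCls
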