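import Groth.Agent.IsoCls.ThetaFam

/-!
Triviality of infinitesimal automorphisms of a constant object is detected by isomorphism classes.
-/

set_option autoImplicit false
set_option linter.unusedVariables false
set_option backward.isDefEq.respectTransparency false
set_option backward.isDefEq.respectTransparency.types false

universe u

open CategoryTheory CategoryTheory.Limits AlgebraicGeometry FibCat
open CategoryTheory.Functor Groth.Agent.FibC

namespace Groth.Agent.IsoCls

variable {S : Scheme.{u}} {T₀ T : Over S}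

/-- A glued scheme over `T` as one over `T₀`. -/
noncomputable def mapDouble {J : GrothendieckTopology (Over S)} (r : T ⟶ T₀) (L : Double J T) :
    Double J T₀ where
  C := (Over.map r).obj L.C
  U := (Over.map r).obj L.U
  W := (Over.map r).obj L.W
  j₁ := (Over.map r).map L.j₁
  j₂ := (Over.map r).map L.j₂
  mono₁ := L.mono₁
  mono₂ := L.mono₂
  cov := L.cov
  v := (Over.map r).map L.v
  monov := L.monov
  glue := by rw [← Functor.map_comp, ← Functor.map_comp, L.glue]
  overlap := L.overlap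

variable (j : T₀ ⟶ T) (r : T ⟶ T₀) (hjr : j ≫ r = 𝟙 T₀)

/-- The projection of a base change. -/
noncomputable def bcProj (c : (overCat T₀).obj) : (Over.map r).obj ((Over.pullback r).obj c) ⟶ c :=
  Over.homMk (pullback.fst (Over.hom c) r) pullback.condition

/-- The section of the projection. -/
noncomputable def bcSec (c : (overCat T₀).obj) : c ⟶ (Over.map r).obj ((Over.pullback r).obj c) :=
  Over.homMk (pullback.lift (𝟙 _) (Over.hom c ≫ j) (by
      rw [Category.assoc, hjr, Category.comp_id, Category.id_comp]))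
    (by
      change pullback.lift _ _ _ ≫ pullback.snd _ _ ≫ r = _
      rw [pullback.lift_snd_assoc, Category.assoc, hjr, Category.comp_id])

theorem bcProj_natural {c c' : (overCat T₀).obj} (f : c ⟶ c') :
    (Over.map r).map ((Over.pullback r).map f) ≫ bcProj r c' = bcProj r c ≫ f :=
  Over.OverMorphism.ext (pullback_map_fst r f)

theorem bcSec_natural {c c' : (overCat T₀).obj} (f : c ⟶ c') :
    bcSec j r hjr c ≫ (Over.map r).map ((Over.pullback r).map f) = f ≫ bcSec j r hjr c' := by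
  refine Over.OverMorphism.ext (pullback.hom_ext ?_ ?_)
  · change (pullback.lift _ _ _ ≫ ((Over.pullback r).map f).left) ≫ _ =
      (f.left ≫ pullback.lift _ _ _) ≫ _
    rw [Category.assoc, pullback_map_fst, pullback.lift_fst_assoc, Category.id_comp, Category.assoc,
      pullback.lift_fst, Category.comp_id]
  · change (pullback.lift _ _ _ ≫ ((Over.pullback r).map f).left) ≫ _ =
      (f.left ≫ pullback.lift _ _ _) ≫ _
    rw [Category.assoc, pullback_map_snd, pullback.lift_snd, Category.assoc, pullback.lift_snd,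
      ← Category.assoc, Over.w f]

theorem bcIdem_natural {c c' : (overCat T₀).obj} (f : c ⟶ c') :
    (bcProj r c ≫ bcSec j r hjr c) ≫ (Over.map r).map ((Over.pullback r).map f) =
      (Over.map r).map ((Over.pullback r).map f) ≫ bcProj r c' ≫ bcSec j r hjr c' := by
  rw [Category.assoc, bcSec_natural, ← Category.assoc, ← bcProj_natural, Category.assoc]

theorem bcIdem_of_factor {c : (overCat T₀).obj} {b : (overCat T₀).obj}
    (k : b ⟶ (Over.map r).obj ((Over.pullback r).obj c))
    (hk : ∃ m : Over.left b ⟶ T₀, k.left ≫ Over.hom ((Over.pullback r).obj c) = m ≫ j) :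
    k ≫ bcProj r c ≫ bcSec j r hjr c = k := by
  obtain ⟨m, hm⟩ := hk
  have hm' : k.left ≫ pullback.snd (Over.hom c) r = m ≫ j := hm
  refine Over.OverMorphism.ext (pullback.hom_ext ?_ ?_)
  · change (k.left ≫ pullback.fst _ _ ≫ pullback.lift _ _ _) ≫ _ = _
    simp only [Category.assoc, pullback.lift_fst, Category.comp_id]
  · change (k.left ≫ pullback.fst _ _ ≫ pullback.lift _ _ _) ≫ _ = _
    simp only [Category.assoc, pullback.lift_snd]
    rw [← Category.assoc (pullback.fst _ _), pullback.condition, Category.assoc, ← Category.assoc,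
      hm', Category.assoc, ← Category.assoc j, hjr, Category.id_comp]

variable {𝒳 𝒴 : AlgSt.Cat S}

include hjr in
/-- If infinitesimal automorphisms of the corresponding object are trivial over all schemes, then so
are those of the given one. -/
theorem eq_one_of_kernel_trivial [IsAffine T.left]
    (h𝒳 : Stk.IsStack (AlgSp.J S) 𝒳) (h𝒴 : Stk.IsStack (AlgSp.J S) 𝒴)
    (hd𝒴 : AlgSt.RepByAlgSpWith (AlgSp.RepWith @IsClosedImmersion) (diag (diag (toSelf 𝒴))))
    (φ : IsoNat.FIso 𝒳 𝒴) {X : overCat T₀ ⥤ᵇ 𝒳} {Y : overCat T₀ ⥤ᵇ 𝒴}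
    (hcls : φ.toEquiv T₀ (IsoNat.cls (vfib X (overTop T₀))) = IsoNat.cls (vfib Y (overTop T₀)))
    (H : ∀ (b : (overCat T).obj) (e : VA X ((Over.map r).obj b)),
      (∀ (c : (overCat T₀).obj) (k : c ⟶ (Over.map r).obj b),
        (∃ m : Over.left c ⟶ T₀, k.left ≫ Over.hom b = m ≫ j) → res h𝒳.1 X k e = 1) → e = 1)
    (a : VA Y ((Over.map r).obj (overTop T)))
    (s : overTop T₀ ⟶ (Over.map r).obj (overTop T)) (hs : s.left = j)
    (ha : res h𝒴.1 Y s a = 1) : a = 1 := by
  have hgX : IsFibGrpd 𝒳.p := h𝒳.1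
  have hgY : IsFibGrpd 𝒴.p := h𝒴.1
  have hPX := StkLib.isPrestack_of_isStack h𝒳
  have hPY := StkLib.isPrestack_of_isStack h𝒴
  obtain ⟨G₀⟩ := exists_theta' T₀
  let G : Theta' T := pullbackTheta r G₀
  let L : Double (AlgSp.J S) T₀ := mapDouble r G.toDouble
  let R : L.End :=
    { rC := bcProj r G₀.toDouble.C ≫ bcSec j r hjr _
      rU := bcProj r G₀.toDouble.U ≫ bcSec j r hjr _
      rW := bcProj r G₀.toDouble.W ≫ bcSec j r hjr _
      h₁ := bcIdem_natural j r hjr G₀.toDouble.j₁
      h₂ := bcIdem_natural j r hjr G₀.toDouble.j₂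
      hv := bcIdem_natural j r hjr G₀.toDouble.v }
  let wi : ∀ i, (Over.map r).obj (G.Wp i) ⟶ L.W := fun i => (Over.map r).map (G.w i)
  have : ∀ i, Mono (wi i).left := G.monow
  let b : Fin 3 → VA Y ((Over.map r).obj (overTop T)) := ![1, a, a]
  let tp : ∀ i, (Over.map r).obj (G.Wp i) ⟶ (Over.map r).obj (overTop T) := fun i =>
    (Over.map r).map (toTop (G.Wp i))
  obtain ⟨σ, hσ⟩ := exists_va_glue hPY hd𝒴 wi G.covW G.disjW fun i => res hgY Y (tp i) (b i)
  have hb : ∀ i, res hgY Y s (b i) = 1 := fun i => by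
    fin_cases i
    · exact map_one _
    · exact ha
    · exact ha
  -- the cocycle is trivial on the closed part
  have hσ₀ : res hgY Y R.rW σ = 1 := by
    refine va_ext_of_cover hPY wi G.covW fun i => ?_
    rw [map_one, res_res]
    have e1 : wi i ≫ R.rW = (bcProj r (G₀.Wp i) ≫ bcSec j r hjr (G₀.Wp i)) ≫ wi i :=
      (bcIdem_natural j r hjr (G₀.w i)).symm
    rw [res_congr hgY e1, ← res_res]
    refine (congrArg _ (hσ i)).trans ((res_res hgY _ _ _).trans ?_)
    have e2 : bcSec j r hjr (G₀.Wp i) ≫ tp i = toTop (G₀.Wp i) ≫ s := by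
      refine Over.OverMorphism.ext ?_
      change pullback.lift _ _ _ ≫ pullback.snd _ _ = Over.hom (G₀.Wp i) ≫ s.left
      rw [pullback.lift_snd, hs]
    refine (res_congr hgY ((Category.assoc _ _ _).trans (congrArg _ e2)) _).trans
      ((res_res hgY _ _ _).symm.trans ?_)
    refine (congrArg _ ((res_res hgY _ _ _).symm.trans (congrArg _ (hb i)))).trans ?_
    rw [map_one, map_one]
  obtain ⟨Z, hZ⟩ := exists_twist h𝒴 L Y σ
  obtain ⟨P, p, hp, hP⟩ := Z.exists_pullback hgY R
  -- trivial glued objects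
  let T₀X : Twist L X :=
    ⟨X.obj L.C, X.w_obj _, X.map L.j₁, X.map L.j₂, map_lift X _, map_lift X _, 1, by
      rw [VA.one_hom, Category.id_comp, ← Functor.map_comp, ← Functor.map_comp, L.glue]⟩
  let T₀Y : Twist L Y :=
    ⟨Y.obj L.C, Y.w_obj _, Y.map L.j₁, Y.map L.j₂, map_lift Y _, map_lift Y _, 1, by
      rw [VA.one_hom, Category.id_comp, ← Functor.map_comp, ← Functor.map_comp, L.glue]⟩
  have hbc : ∀ c : (overCat T₀).obj,
      φ.toEquiv (Over.left c) (IsoNat.cls (vfib X c)) = IsoNat.cls (vfib Y c) := fun c =>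
    toEquiv_eq_of_lifts hgY φ (toTop c).left (X.map (toTop c)) (Y.map (toTop c))
      (map_lift X (toTop c)) (map_lift Y (toTop c)) hcls
  obtain ⟨ψ, hψ⟩ := Twist.exists_hom hPY P T₀Y 1 1 (by
    change (1 : VA Y L.W) * res hgY Y L.v 1 = res hgY Y L.v 1 * P.σ
    rw [hP, hZ, hσ₀, map_one, mul_one])
  have hPcls : IsoNat.cls P.fib = IsoNat.cls (vfib Y L.C) :=
    Quotient.sound (fiber_iso_of_hom hgY (x := P.fib) (y := vfib Y L.C) ψ hψ)
  -- the corresponding glued object
  let zX : 𝒳.p.Fiber (Over.left L.C) := ((φ.toEquiv _).symm (IsoNat.cls Z.fib)).out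
  have hzX : φ.toEquiv _ (IsoNat.cls zX) = IsoNat.cls Z.fib :=
    (congrArg (φ.toEquiv _) (Quotient.out_eq _)).trans (Equiv.apply_symm_apply _ _)
  obtain ⟨f₁, hf₁⟩ := exists_hom_of_cls hgX hgY φ L.j₁.left (x' := vfib X L.U) (x := zX)
    (y' := vfib Y L.U) (y := Z.fib) Z.f₁ Z.hf₁ (hbc L.U) hzX
  obtain ⟨f₂, hf₂⟩ := exists_hom_of_cls hgX hgY φ L.j₂.left (x' := vfib X L.U) (x := zX)
    (y' := vfib Y L.U) (y := Z.fib) Z.f₂ Z.hf₂ (hbc L.U) hzX
  obtain ⟨ZX, hZX⟩ := exists_twist_of_triv hgX L X zX.2 f₁ f₂ hf₁ hf₂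
  have hZX' : φ.toEquiv _ (IsoNat.cls ZX.fib) = IsoNat.cls Z.fib := by
    rw [show ZX.fib = zX from Subtype.ext hZX, hzX]
  obtain ⟨Q, q, hq, hQ⟩ := ZX.exists_pullback hgX R
  have hQc : IsoNat.cls Q.fib = IsoNat.cls (vfib X L.C) := by
    refine (φ.toEquiv _).injective ?_
    rw [toEquiv_eq_of_lifts hgY φ R.rC.left (x' := Q.fib) (x := ZX.fib) (y' := P.fib) (y := Z.fib)
      q p hq hp hZX', hPcls, hbc L.C]
  obtain ⟨ι₁⟩ := iso_of_cls_eq hQc
  obtain ⟨F₁, F₂, hF⟩ := Q.exists_coboundary hgX T₀X ι₁.hom.1 ι₁.hom.2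
  -- the cocycle comes from the closed part
  have hfix : res hgX X R.rW ZX.σ = ZX.σ := by
    refine (mul_inv_eq_one.1 (H G.toDouble.W (ZX.σ * (res hgX X R.rW ZX.σ)⁻¹) fun c k hk => ?_)).symm
    let k' : c ⟶ L.W := k
    have e1 : k' ≫ R.rW = k' := bcIdem_of_factor j r hjr (c := G₀.toDouble.W) k hk
    have e2 : res hgX X k' (res hgX X R.rW ZX.σ) = res hgX X k' ZX.σ :=
      (res_res hgX _ _ _).trans (res_congr hgX e1 _)
    change res hgX X k' (ZX.σ * (res hgX X R.rW ZX.σ)⁻¹) = 1
    rw [map_mul, _root_.map_inv, e2, mul_inv_cancel]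
  rw [hQ, hfix] at hF
  obtain ⟨ψ', hψ'⟩ := Twist.exists_hom hPX ZX T₀X F₁ F₂ hF
  have hZc : IsoNat.cls Z.fib = IsoNat.cls (vfib Y L.C) := by
    rw [← hZX', ← hbc L.C]
    exact congrArg _ (Quotient.sound (fiber_iso_of_hom hgX (x := ZX.fib) (y := vfib X L.C) ψ' hψ'))
  obtain ⟨ι₂⟩ := iso_of_cls_eq hZc
  obtain ⟨E₁, E₂, hE⟩ := Z.exists_coboundary hgY T₀Y ι₂.hom.1 ι₂.hom.2
  have hv : σ = res hgY Y L.v (E₂⁻¹ * E₁) := by
    change (1 : VA Y L.W) * res hgY Y L.v E₁ = res hgY Y L.v E₂ * Z.σ at hE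
    rw [one_mul, hZ] at hE
    rw [map_mul, _root_.map_inv, hE, inv_mul_cancel_left]
  -- evaluation on the lines
  obtain ⟨M⟩ := G.lines (overTop T) (inferInstanceAs (IsAffine T.left))
  let m : ∀ {c c' : (overCat T).obj}, (c ⟶ c') → ((Over.map r).obj c ⟶ (Over.map r).obj c') :=
    fun f => (Over.map r).map f
  have hline : ∀ i, res hgY Y (m (M.la i)) (E₂⁻¹ * E₁) = res hgY Y (m (toTop M.A)) (b i) := by
    intro i
    have : IsSchemeTheoreticallyDominant (m M.d).left.left := M.dense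
    apply res_injective_of_dense hgY hd𝒴 (m M.d)
    rw [res_res, res_res]
    have e1 : m M.d ≫ m (M.la i) = m (M.dp i) ≫ wi i ≫ L.v :=
      ((Over.map r).map_comp _ _).symm.trans ((congrArg _ (M.hdp i)).trans
        (((Over.map r).map_comp _ _).trans (congrArg _ ((Over.map r).map_comp _ _))))
    have e2 : m M.d ≫ m (toTop M.A) = m (M.dp i) ≫ tp i :=
      ((Over.map r).map_comp _ _).symm.trans ((congrArg _ (Over.OverMorphism.ext
        ((Over.w M.d).trans (Over.w (M.dp i)).symm))).trans ((Over.map r).map_comp _ _))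
    refine (res_congr hgY e1 _).trans (((res_res hgY _ _ _).symm.trans (congrArg _ ?_)).trans
      ((res_res hgY _ _ _).trans (res_congr hgY e2.symm _)))
    refine (res_res hgY _ _ _).symm.trans ?_
    exact (congrArg (res hgY Y (wi i)) hv.symm).trans (hσ i)
  have ho : ∀ i, res hgY Y (m M.o) (res hgY Y (m (toTop M.A)) (b i)) = b i := fun i => by
    rw [res_res]
    have e : m M.o ≫ m (toTop M.A) = 𝟙 _ :=
      ((Over.map r).map_comp _ _).symm.trans ((congrArg _ (Over.OverMorphism.ext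
        (show (M.o ≫ toTop M.A).left = Over.Hom.left (𝟙 (overTop T)) from Over.w M.o))).trans
        ((Over.map r).map_id _))
    rw [res_congr hgY e, res_id]
  have h01 : b 0 = b 1 := by
    rw [← ho 0, ← ho 1, ← hline 0, ← hline 1, res_res, res_res]
    refine res_congr hgY ?_ _
    exact ((Over.map r).map_comp _ _).symm.trans ((congrArg _ ((M.ho 0).trans (M.ho 1).symm)).trans
      ((Over.map r).map_comp _ _))
  exact h01.symm

end Groth.Agent.IsoCls
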