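import Groth.Agent.S12849
import Groth.Agent.S10527
import Groth.Agent.IsoCls.SmoothChart
import Groth.Agent.IsoCls.ChartTransfer
import Groth.Agent.AlgSpCov.FppfSource
import Groth.Agent.StFib.DiagLft
import Groth.Agent.StFib.Test

/-!
Local finite presentation of representable morphisms is detected by isomorphism classes.
-/

set_option autoImplicit false
set_option linter.unusedVariables false
set_option backward.isDefEq.respectTransparency false
set_option backward.isDefEq.respectTransparency.types false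

universe u

open CategoryTheory CategoryTheory.Limits AlgebraicGeometry FibCat
open Groth.Agent.FibC

namespace Groth.Agent.IsoCls

open Groth.Agent.StFib

variable {S : Scheme.{u}}

theorem smCover_source_lfp :
    AlgSp.IsLocalOnSource AlgSp.IsSmCover (AlgSp.LocP (S := S) @LocallyOfFinitePresentation) := by
  have := Groth.Agent.AlgSpCov.isLocalAtSource_fppf_locallyOfFinitePresentation.{u}
  have : (@Flat ⊓ @LocallyOfFinitePresentation : MorphismProperty Scheme.{u}).ContainsIdentities :=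
    ⟨fun X => ⟨inferInstance, inferInstance⟩⟩
  refine Groth.Agent.AlgSpCov.isLocalOnSource_locP
    (T := (@Flat ⊓ @LocallyOfFinitePresentation : MorphismProperty Scheme.{u}))
    (fun A B e he => ⟨inferInstance, inferInstance⟩) _ fun ι X Xi g hX hXi hg =>
      ⟨fun i U V a b h ha hb w => ?_, hg.2⟩
  have : Smooth h.left := hg.1 i a b h ha hb w
  exact ⟨inferInstance, inferInstance⟩

theorem repByAlgSpWith_lfp_of_fIsoSq {𝒳 𝒴 𝒳' 𝒴' : AlgSt.Cat S}
    (h𝒳 : AlgSt.IsAlgStack Scheme.fppfPrecoverage 𝒳) (h𝒴 : AlgSt.IsAlgStack Scheme.fppfPrecoverage 𝒴)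
    (h𝒳' : AlgSt.IsAlgStack Scheme.fppfPrecoverage 𝒳') (h𝒴' : AlgSt.IsAlgStack Scheme.fppfPrecoverage 𝒴')
    (h𝒳'i : AlgSt.RepByAlgSpWith (AlgSp.LocP @LocallyOfFinitePresentation) (inertiaToBase (toSelf 𝒳')))
    (h𝒴'i : AlgSt.RepByAlgSpWith (AlgSp.LocP @LocallyOfFinitePresentation) (inertiaToBase (toSelf 𝒴')))
    {f : 𝒳 ⥤ᵇ 𝒴} {f' : 𝒳' ⥤ᵇ 𝒴'} (φ : IsoNat.FIsoSq f f') (hf' : AlgSt.RepByAlgSp1 f')
    (hf : AlgSt.RepByAlgSpWith (AlgSp.LocP @LocallyOfFinitePresentation) f) :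
    AlgSt.RepByAlgSpWith (AlgSp.LocP @LocallyOfFinitePresentation) f' := by
  obtain ⟨U, x, hx, hxs⟩ := h𝒳.atlas
  obtain ⟨x', hx'⟩ := exists_corr_chart h𝒳'.isStack.1 φ.src x
  have hg := good_locP (S := S) Groth.Agent.AlgSpCov.standard_locallyOfFinitePresentation
  have hxy : φ.tgt.toEquiv U (IsoNat.cls (vfib (BasedFunctor.comp x f) (overTop U))) =
      IsoNat.cls (vfib (BasedFunctor.comp x' f') (overTop U)) := by
    have h := φ.comm U (IsoNat.cls (vfib x (overTop U)))
    rw [hx'] at h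
    exact h
  have hy := repByAlgSpWith_lfp_of_corr h𝒴.isStack.1 h𝒴' h𝒴'i φ.tgt hxy
    (repByAlgSpWith_comp hg.bc hg.comp hg.det (isFibGrpd_overCat U) h𝒳.isStack.1
      (repByAlgSpWith_lfp_of_smooth hx) hf)
  exact Groth.Agent.S12849.result (isAlgStack_of_repByAlgSp (repByAlgSp_overCat U)) h𝒳' h𝒴' _
    hg.bc (fppfLocal_of_fpqc (Groth.Agent.S10527.result S)) smCover_source_lfp x' f' hf'
    (repByAlgSpWith_smooth_of_corr h𝒳.isStack.1 h𝒳' h𝒳'i φ.src hx' hx)
    (repByAlgSpWith_surjective_of_corr h𝒳 h𝒳' φ.src hx' hxs) hy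

end Groth.Agent.IsoCls
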