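import Groth.Agent.IsoCls.Neutral

/-!
Neutral gerbes with isomorphic automorphism sheaves of their sections are equivalent, compatibly with
the sections.
-/

set_option autoImplicit false
set_option backward.isDefEq.respectTransparency false
set_option backward.isDefEq.respectTransparency.types false

universe u

open CategoryTheory CategoryTheory.Limits AlgebraicGeometry FibCat
open CategoryTheory.Functor Groth.Agent.FibC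

namespace Groth.Agent.IsoCls

variable {S : Scheme.{u}} {𝒳 𝒴 : AlgSt.Cat S} {T₀ : Over S}

variable (hT₀ : IsTerminal T₀) (X : overCat T₀ ⥤ᵇ 𝒳) (Y : overCat T₀ ⥤ᵇ 𝒴)
  (ι : ∀ V, VA X (bT hT₀ V) ≃* VA Y (bT hT₀ V))
  (h𝒳 : Stk.IsStack (AlgSp.J S) 𝒳) (h𝒴 : Stk.IsStack (AlgSp.J S) 𝒴)
  (hι : ∀ {V' V : Over S} (g : V' ⟶ V) (e : VA X (bT hT₀ V)),
    res h𝒴.1 Y (bM hT₀ g) (ι V e) = ι V' (res h𝒳.1 X (bM hT₀ g) e))
  (hX : ∀ x : 𝒳.obj, trivSieve hT₀ X x ∈ AlgSp.J S (𝒳.p.obj x))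

include hT₀ h𝒳 h𝒴 hι hX in
/-- Neutral gerbes with isomorphic automorphism sheaves of the sections are equivalent, compatibly with
the sections. -/
theorem exists_isEquivOver_of_neutral'
    (hY : ∀ y : 𝒴.obj, trivSieve hT₀ Y y ∈ AlgSp.J S (𝒴.p.obj y)) :
    ∃ F : 𝒳 ⥤ᵇ 𝒴, IsEquivOver F ∧
      ∃ m : Y.obj (bT hT₀ T₀) ⟶ F.obj (X.obj (bT hT₀ T₀)), 𝒴.p.IsHomLift (𝟙 T₀) m := by
  classical
  have hgX := h𝒳.1
  have hgY := h𝒴.1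
  let D : ∀ x, Transfer hT₀ X Y ι x := fun x =>
    (exists_transfer hT₀ X Y ι h𝒳 h𝒴 hι hX x).some
  have hex := fun {x x' : 𝒳.obj} (χ : x ⟶ x') =>
    Transfer.exists_map h𝒳 h𝒴 hX (D x) (D x') χ
  let mp : ∀ {x x' : 𝒳.obj}, (x ⟶ x') → ((D x).y ⟶ (D x').y) := fun χ => (hex χ).choose
  have hmp : ∀ {x x' : 𝒳.obj} (χ : x ⟶ x'), 𝒴.p.IsHomLift (𝒳.p.map χ) (mp χ) := fun χ =>
    (hex χ).choose_spec.1
  have hmpη : ∀ {x x' : 𝒳.obj} (χ : x ⟶ x') {V : Over S} (ν : X.obj (bT hT₀ V) ⟶ x),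
      (D x).η ν ≫ mp χ = (D x').η (ν ≫ χ) := fun {x x'} χ {V} ν => (hex χ).choose_spec.2 ν
  let F₀ : 𝒳.obj ⥤ 𝒴.obj :=
    { obj := fun x => (D x).y
      map := mp
      map_id := fun x => Transfer.hom_ext h𝒳 h𝒴 hX (D x)
        (f := eqToHom (D x).hy.symm)
        (IsHomLift.of_fac 𝒴.p _ _ (D x).hy rfl (by
          have := hmp (𝟙 x)
          rw [IsHomLift.fac' 𝒴.p (𝒳.p.map (𝟙 x)) (mp (𝟙 x))]; simp))
        (IsHomLift.of_fac 𝒴.p _ _ (D x).hy rfl (by simp))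
        (fun {V} ν => by rw [hmpη, Category.comp_id, Category.comp_id])
      map_comp := fun {x y z} f g => Transfer.hom_ext h𝒳 h𝒴 hX (D x)
        (f := 𝒳.p.map (f ≫ g) ≫ eqToHom (D z).hy.symm)
        (IsHomLift.of_fac 𝒴.p _ _ (D x).hy rfl (by
          have := hmp (f ≫ g)
          rw [IsHomLift.fac' 𝒴.p (𝒳.p.map (f ≫ g)) (mp (f ≫ g))]; simp))
        (IsHomLift.of_fac 𝒴.p _ _ (D x).hy rfl (by
          have := hmp f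
          have := hmp g
          rw [Functor.map_comp 𝒴.p, IsHomLift.fac' 𝒴.p (𝒳.p.map f) (mp f),
            IsHomLift.fac' 𝒴.p (𝒳.p.map g) (mp g)]
          simp))
        (fun {V} ν => by rw [hmpη (f ≫ g), ← Category.assoc ((D x).η ν), hmpη f, hmpη g, Category.assoc]) }
  let F : 𝒳 ⥤ᵇ 𝒴 := ⟨F₀, CategoryTheory.Functor.ext (fun x => (D x).hy) (fun x x' χ => by
    have := hmp χ
    exact IsHomLift.fac' 𝒴.p (𝒳.p.map χ) (mp χ))⟩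
  -- gerbes
  have hgerb : ∀ {𝒵 : AlgSt.Cat S} (Z : overCat T₀ ⥤ᵇ 𝒵), Stk.IsStack (AlgSp.J S) 𝒵 →
      (∀ z : 𝒵.obj, trivSieve hT₀ Z z ∈ AlgSp.J S (𝒵.p.obj z)) → Gerb.IsGerbe (AlgSp.J S) 𝒵 := by
    intro 𝒵 Z hs hZ
    refine ⟨hs, fun T => ⟨⊤, (AlgSp.J S).top_mem T, fun V f _ =>
      ⟨Z.obj (bT hT₀ V), eqToHom (Z.w_obj (bT hT₀ V)) ≫ f, ?_⟩⟩, fun z z' b hb => ?_⟩
    · exact IsHomLift.of_fac (𝟭 (Over S)) f _ (Z.w_obj (bT hT₀ V)) rfl (by simp)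
    · refine ⟨trivSieve hT₀ Z z ⊓ (trivSieve hT₀ Z z').pullback b,
        (AlgSp.J S).intersection_covering (hZ z) ((AlgSp.J S).pullback_stable b (hZ z')),
        fun V f hf => ?_⟩
      obtain ⟨⟨ν, hν⟩, ν', hν'⟩ := hf
      have hbl : (𝟭 (Over S)).IsHomLift (𝟙 (𝒵.p.obj z)) b := hb
      have hbe : 𝒵.p.obj z' = 𝒵.p.obj z :=
        IsHomLift.codomain_eq (𝟭 (Over S)) (𝟙 (𝒵.p.obj z)) b
      have hb' : b = eqToHom hbe.symm := by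
        have := IsHomLift.fac' (𝟭 (Over S)) (𝟙 (𝒵.p.obj z)) b
        simpa using this
      refine ⟨Z.obj (bT hT₀ V), ν, ν', hν, ?_, ?_⟩
      · refine IsHomLift.of_fac 𝒵.p f ν' (Z.w_obj _) hbe ?_
        rw [IsHomLift.fac' 𝒵.p (f ≫ b) ν']
        simp [hb']
      · change 𝒵.p.map ν ≫ b = 𝒵.p.map ν'
        rw [IsHomLift.fac' 𝒵.p f ν, IsHomLift.fac' 𝒵.p (f ≫ b) ν']
        simp
  have hsec : ∃ m : Y.obj (bT hT₀ T₀) ⟶ F.obj (X.obj (bT hT₀ T₀)), 𝒴.p.IsHomLift (𝟙 T₀) m := by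
    refine ⟨(D _).η (𝟙 _), ?_⟩
    have := (D _).lift (𝟙 (X.obj (bT hT₀ T₀)))
    refine IsHomLift.of_fac 𝒴.p _ _ (Y.w_obj _) ((D _).hy.trans (X.w_obj _)) ?_
    rw [IsHomLift.fac' 𝒴.p (baseMor (𝟙 (X.obj (bT hT₀ T₀)))) ((D _).η (𝟙 _))]
    simp [baseMor]
  refine ⟨F, ?_, hsec⟩
  refine (GalCohAux.GerbGlue.isEquivOver_of_bijective (hgerb X h𝒳 hX) (hgerb Y h𝒴 hY) F
    (X.obj (bT hT₀ T₀)) (hT₀.ofIso (eqToIso (X.w_obj (bT hT₀ T₀)).symm)) fun x c => ?_)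
  -- automorphisms
  let V := 𝒳.p.obj x
  let g : V ⟶ T₀ := 𝒳.p.map c ≫ eqToHom (X.w_obj (bT hT₀ T₀))
  have hcl : 𝒳.p.IsHomLift g c := IsHomLift.of_fac 𝒳.p g c rfl (X.w_obj _) (by simp [g])
  have hXg : 𝒳.p.IsHomLift g (X.map (bM hT₀ g)) := map_lift X (bM hT₀ g)
  obtain ⟨ν, hν, hνi, -⟩ := GalCohAux.GerbBasic.exists_fac hgX g c (X.map (bM hT₀ g))
  have hbν : baseMor ν = 𝟙 V := baseMor_eq hν
  have hηl : 𝒴.p.IsHomLift (𝟙 V) ((D x).η ν) := hbν ▸ (D x).lift ν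
  have : IsIso ((D x).η ν) := isIso_of_fibGrpd hgY (𝟙 V) _
  have key : ∀ (α : Gerb.AutO x) (e : VA X (bT hT₀ V)), ν ≫ α.hom.1 = e.hom.1 ≫ ν →
      (D x).η ν ≫ F.map α.hom.1 = (ι V e).hom.1 ≫ (D x).η ν := fun α e he => by
    change (D x).η ν ≫ mp α.hom.1 = _
    rw [hmpη, he, (D x).equiv]
  have hex' : ∀ α : Gerb.AutO x, ∃ e : VA X (bT hT₀ V), ν ≫ α.hom.1 = e.hom.1 ≫ ν := fun α => by
    have : 𝒳.p.IsHomLift (𝟙 V) α.hom.1 := α.hom.2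
    have : 𝒳.p.IsHomLift (𝟙 V) (ν ≫ α.hom.1) := inferInstance
    exact exists_va_eq hgX _ ν ((baseMor_eq this).trans hbν.symm)
  refine ⟨fun α α' hαα => ?_, fun β => ?_⟩
  · obtain ⟨e, he⟩ := hex' α
    obtain ⟨e', he'⟩ := hex' α'
    have h1 : F.map α.hom.1 = F.map α'.hom.1 := congrArg (fun t : Gerb.AutO (F.obj x) => t.hom.1) hαα
    have h2 : ι V e = ι V e' := va_ext_comp (X := Y) hgY ((D x).η ν) (by
      rw [← key α e he, ← key α' e' he', h1])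
    refine Aut.ext (Fiber.hom_ext ((cancel_epi ν).1 ?_))
    change ν ≫ α.hom.1 = ν ≫ α'.hom.1
    rw [he, he', (ι V).injective h2]
  · have hβ : 𝒴.p.IsHomLift (𝟙 V) β.hom.1 := by
      have h1 : 𝒴.p.IsHomLift (𝟙 (𝒴.p.obj (F.obj x))) β.hom.1 := β.hom.2
      refine IsHomLift.of_fac 𝒴.p _ _ (D x).hy (D x).hy ?_
      rw [IsHomLift.fac' 𝒴.p (𝟙 (𝒴.p.obj (F.obj x))) β.hom.1]
      simp
    have hl₀ : 𝒴.p.IsHomLift (𝟙 V) ((D x).η ν ≫ β.hom.1 ≫ inv ((D x).η ν)) := inferInstance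
    obtain ⟨e', he'⟩ := VA.exists_of_hom hgY Y (b := bT hT₀ V)
      ((D x).η ν ≫ β.hom.1 ≫ inv ((D x).η ν)) hl₀
    obtain ⟨e, rfl⟩ := (ι V).surjective e'
    have hel : 𝒳.p.IsHomLift (𝟙 V) e.hom.1 := e.hom.2
    have hνl : 𝒳.p.IsHomLift (𝟙 V) ν := hν
    have hl : 𝒳.p.IsHomLift (𝟙 V) (inv ν ≫ e.hom.1 ≫ ν) := inferInstance
    have := isIso_of_fibGrpd hgX (𝟙 V) (inv ν ≫ e.hom.1 ≫ ν)
    let α : Gerb.AutO x := GalCohAux.GerbGlue.autOf (inv ν ≫ e.hom.1 ≫ ν) hl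
    refine ⟨α, Aut.ext (Fiber.hom_ext ((cancel_epi ((D x).η ν)).1 ?_))⟩
    change (D x).η ν ≫ F.map α.hom.1 = _
    rw [key α e (show ν ≫ (inv ν ≫ e.hom.1 ≫ ν) = e.hom.1 ≫ ν by rw [IsIso.hom_inv_id_assoc]), he',
      Category.assoc, Category.assoc, IsIso.inv_hom_id, Category.comp_id]
    rfl

end Groth.Agent.IsoCls
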