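import Groth.Prelude.Def_W4c2isonaturalstkIso
import Groth.Prelude.Def_AlgSt4

/-!
Points of stacks via presheaves of isomorphism classes.
-/

set_option autoImplicit false
set_option backward.isDefEq.respectTransparency false
set_option backward.isDefEq.respectTransparency.types false

universe u

open CategoryTheory AlgebraicGeometry

namespace Groth.Agent.IsoCls

variable {S : Scheme.{u}} {𝒳 𝒴 𝒳' 𝒴' : AlgSt.Cat S}

theorem out_iso {T : Over S} (x : 𝒳.p.Fiber T) :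
    Nonempty ((IsoNat.cls x).out ≅ x) := Quotient.mk_out (s := isIsomorphicSetoid (𝒳.p.Fiber T)) x

theorem iso_of_cls_eq {T : Over S} {x y : 𝒳.p.Fiber T} (h : IsoNat.cls x = IsoNat.cls y) :
    Nonempty (x ≅ y) := Quotient.exact h

/-- An arrow of `𝒳` transported to `𝒴` between chosen representatives. -/
theorem exists_hom (φ : IsoNat.FIso 𝒳 𝒴) {T' T : Over S} (g : T' ⟶ T) (x' : 𝒳.p.Fiber T')
    (x : 𝒳.p.Fiber T) (a : x'.1 ⟶ x.1) (ha : 𝒳.p.IsHomLift g a) :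
    ∃ b : (φ.toEquiv T' (IsoNat.cls x')).out.1 ⟶ (φ.toEquiv T (IsoNat.cls x)).out.1,
      𝒴.p.IsHomLift g b := by
  obtain ⟨y', y, b, hb, e', e⟩ := φ.natural g x' x a ha
  rw [e', e]
  obtain ⟨i'⟩ := out_iso y'
  obtain ⟨i⟩ := out_iso y
  have := i'.hom.2
  have := i.inv.2
  exact ⟨i'.hom.1 ≫ b ≫ i.inv.1, inferInstance⟩

/-- The representative of the class of a field-valued point in the corresponding stack. -/
noncomputable def fpt (φ : IsoNat.FIso 𝒳 𝒴) (p : AlgSt.FPt 𝒳) : AlgSt.FPt 𝒴 :=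
  { K := p.K
    str := p.str
    obj := (φ.toEquiv (Over.mk p.str) (IsoNat.cls ⟨p.obj, p.lies⟩)).out.1
    lies := (φ.toEquiv (Over.mk p.str) (IsoNat.cls ⟨p.obj, p.lies⟩)).out.2 }

theorem fpt_hom (φ : IsoNat.FIso 𝒳 𝒴) {r p : AlgSt.FPt 𝒳} (a : r.obj ⟶ p.obj) :
    Nonempty ((fpt φ r).obj ⟶ (fpt φ p).obj) := by
  obtain ⟨b, -⟩ := exists_hom φ (eqToHom r.lies.symm ≫ 𝒳.p.map a ≫ eqToHom p.lies)
    ⟨r.obj, r.lies⟩ ⟨p.obj, p.lies⟩ a (IsHomLift.of_fac _ _ _ r.lies p.lies rfl)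
  exact ⟨b⟩

theorem fpt_rel (φ : IsoNat.FIso 𝒳 𝒴) {p q : AlgSt.FPt 𝒳} (h : AlgSt.FPt.Rel p q) :
    AlgSt.FPt.Rel (fpt φ p) (fpt φ q) := by
  obtain ⟨r, a, b, -⟩ := h
  exact ⟨fpt φ r, (fpt_hom φ a).some, (fpt_hom φ b).some, trivial⟩

/-- The induced map on spaces of points. -/
noncomputable def points (φ : IsoNat.FIso 𝒳 𝒴) : AlgSt.Points 𝒳 → AlgSt.Points 𝒴 :=
  Quot.lift (fun p => AlgSt.Points.mk (fpt φ p)) fun _ _ h => AlgSt.Points.sound (fpt_rel φ h)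

/-- Two points with isomorphic objects in the fibre are equal. -/
theorem mk_eq_of_iso {K : Type u} [Field K] {str : Spec (CommRingCat.of K) ⟶ S}
    {x y : 𝒳.p.Fiber (Over.mk str)} (h : Nonempty (x ≅ y)) :
    AlgSt.Points.mk ({ K := K, str := str, obj := x.1, lies := x.2 } : AlgSt.FPt 𝒳) =
      AlgSt.Points.mk { K := K, str := str, obj := y.1, lies := y.2 } :=
  AlgSt.Points.sound ⟨{ K := K, str := str, obj := x.1, lies := x.2 }, 𝟙 _, h.some.hom.1, trivial⟩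

theorem points_surjective (φ : IsoNat.FIso 𝒳 𝒴) : Function.Surjective (points φ) := by
  intro q
  obtain ⟨⟨K, str, obj, lies⟩, rfl⟩ := AlgSt.Points.mk_surjective q
  let c := (φ.toEquiv (Over.mk str)).symm (IsoNat.cls ⟨obj, lies⟩)
  refine ⟨AlgSt.Points.mk { K := K, str := str, obj := c.out.1, lies := c.out.2 },
    mk_eq_of_iso (y := (⟨obj, lies⟩ : 𝒴.p.Fiber (Over.mk str))) ?_⟩
  have e : IsoNat.cls c.out = c := Quotient.out_eq c
  refine iso_of_cls_eq ?_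
  show IsoNat.cls (φ.toEquiv _ (IsoNat.cls c.out)).out = _
  exact (Quotient.out_eq _).trans (by rw [e]; exact Equiv.apply_symm_apply _ _)

theorem points_map {f : 𝒳 ⥤ᵇ 𝒴} {f' : 𝒳' ⥤ᵇ 𝒴'} (φ : IsoNat.FIsoSq f f') (p : AlgSt.Points 𝒳) :
    points φ.tgt (AlgSt.Points.map f p) = AlgSt.Points.map f' (points φ.src p) := by
  obtain ⟨⟨K, str, obj, lies⟩, rfl⟩ := AlgSt.Points.mk_surjective p
  let x : 𝒳.p.Fiber (Over.mk str) := ⟨obj, lies⟩
  let d := (φ.src.toEquiv (Over.mk str) (IsoNat.cls x)).out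
  refine mk_eq_of_iso (x := (φ.tgt.toEquiv (Over.mk str) (IsoNat.cls ((IsoNat.fibFun f (Over.mk str)).obj x))).out)
    (y := (IsoNat.fibFun f' (Over.mk str)).obj d) (iso_of_cls_eq ((Quotient.out_eq _).trans ?_))
  have h := φ.comm (Over.mk str) (IsoNat.cls x)
  rw [← (Quotient.out_eq (φ.src.toEquiv (Over.mk str) (IsoNat.cls x)))] at h
  exact h

theorem isSurjective_of_fIsoSq {f : 𝒳 ⥤ᵇ 𝒴} {f' : 𝒳' ⥤ᵇ 𝒴'} (φ : IsoNat.FIsoSq f f')
    (hf : AlgSt.IsSurjective f) : AlgSt.IsSurjective f' := fun q => by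
  obtain ⟨p', rfl⟩ := points_surjective φ.tgt q
  obtain ⟨p, rfl⟩ := hf p'
  exact ⟨points φ.src p, (points_map φ p).symm⟩

end Groth.Agent.IsoCls
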