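import Groth.Agent.IsoCls.ChartPairs
import Groth.Agent.IsoCls.Fan
import Groth.Agent.IsoCls.IsoExt
import Groth.Agent.S10629

/-!
Formal smoothness of a chart is detected by isomorphism classes.
-/

set_option autoImplicit false
set_option linter.unusedVariables false
set_option backward.isDefEq.respectTransparency false
set_option backward.isDefEq.respectTransparency.types false

universe u

open CategoryTheory CategoryTheory.Limits AlgebraicGeometry Opposite FibCat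
open Groth.Agent.FibC

namespace Groth.Agent.IsoCls

open Groth.Agent.StFib

variable {S : Scheme.{u}} {𝒳 𝒴 : AlgSt.Cat S} {U V : Over S}

/-- Vertical morphisms extend along thickenings when one chart is smooth. -/
theorem exists_vhom_lift (h𝒳 : IsFibGrpd 𝒳.p) {P : overCat V ⥤ᵇ 𝒳} {Q : overCat U ⥤ᵇ 𝒳}
    (hQ : AlgSt.RepByAlgSpWith (AlgSp.LocP @Smooth) Q) {B C : CommRingCat.{u}} (q : B ⟶ C)
    (hq : Function.Surjective q) (hJ : RingHom.ker q.hom ^ 2 = ⊥) {T₀ T : Over S}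
    {str₁ : Spec C ⟶ S} {str₂ : Spec B ⟶ S} (e₁ : T₀ = Over.mk str₁) (e₂ : T = Over.mk str₂)
    (k : T₀ ⟶ T) (hk : (eqToHom e₁.symm ≫ k ≫ eqToHom e₂).left = Spec.map q)
    (h : T ⟶ V) {h₀ : T₀ ⟶ V} (eh : k ≫ h = h₀) {g₀ : T₀ ⟶ U} (β₀ : VHom P Q h₀ g₀) :
    ∃ (g : T ⟶ U) (β : VHom P Q h g), k ≫ g = g₀ ∧ IsRes k β₀ β := by
  subst e₁ e₂ eh
  simp only [eqToHom_refl, Category.id_comp, Category.comp_id] at hk
  obtain ⟨A, e, he, ha⟩ := hQ V P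
  obtain ⟨ev, hev, hnat⟩ := exists_pairDict h𝒳 P Q A e he
  let a := AlgSt.spMapOfOver (BasedFunctor.comp e (fpFst P Q))
  have hfs : AlgSp.IsFormallySmoothMor a :=
    ((Groth.Agent.S10629.result (X := A) (Y := ⟨(AlgSp.yon S).obj V, isAlgSpace_yon V⟩) ⟨a⟩).1 ha).2
  obtain ⟨r₀, hr₀⟩ := (hev (k ≫ h)).2 ⟨g₀, β₀⟩
  obtain ⟨l, hl₁, hl₂⟩ := exists_lift_of_formallySmooth hfs q hq hJ k hk r₀.1 ((AlgSp.yon S).map h)
    (by rw [← Functor.map_comp]; exact r₀.2)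
  obtain ⟨g, β, hgβ⟩ : ∃ g β, ev h ⟨l, hl₂⟩ = ⟨g, β⟩ := ⟨_, _, rfl⟩
  have hres := hnat k h (k ≫ h) ⟨l, hl₂⟩ r₀ rfl hl₁.symm
  rw [hr₀, hgβ] at hres
  exact ⟨g, β, hres.right_eq, hres⟩

/-- An automorphism of the middle term adjusts a morphism to a prescribed restriction. -/
theorem exists_vhom_adjust (h𝒳 : IsFibGrpd 𝒳.p) {P : overCat V ⥤ᵇ 𝒳} {Q : overCat U ⥤ᵇ 𝒳}
    {T' T₁ T T₀ : Over S} (i₁ : T₁ ⟶ T') (i₀ : T ⟶ T') (ρ : T ⟶ T₁) (j : T₀ ⟶ T)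
    (hj : j ≫ ρ ≫ i₁ = j ≫ i₀) {hV : T' ⟶ V} {h₁ : T₁ ⟶ V} {h : T ⟶ V} {h₀ : T₀ ⟶ V}
    {u : T' ⟶ U} {u₁ : T₁ ⟶ U} {g : T ⟶ U} {g₀ : T₀ ⟶ U}
    (eu₁ : i₁ ≫ u = u₁) (eu : i₀ ≫ u = g) (eg : ρ ≫ u₁ = g) (eh₁ : i₁ ≫ hV = h₁)
    (eh : i₀ ≫ hV = h) (γ : VHom P Q hV u) (θ : VHom Q P u₁ h₁) (β₀ : VHom P Q h₀ g₀)
    (hθ : IsRes (j ≫ ρ) (β₀.inv h𝒳) θ) : ∃ β : VHom P Q h g, IsRes j β₀ β := by
  obtain ⟨γT, hγT⟩ := exists_isRes h𝒳 i₀ eh eu γ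
  obtain ⟨γ₁, hγ₁⟩ := exists_isRes h𝒳 i₁ eh₁ eu₁ γ
  let a : VHom Q Q u₁ u₁ := ⟨θ.1 ≫ γ₁.1, θ.2.comp γ₁.2⟩
  obtain ⟨aT, haT⟩ := exists_isRes h𝒳 ρ eg eg a
  have ej : j ≫ g = g₀ := by rw [← eg, ← Category.assoc]; exact hθ.left_eq
  have eh₀ : j ≫ h = h₀ := by
    rw [← hθ.right_eq, ← eh₁, ← eh]
    simp only [← Category.assoc]
    rw [Category.assoc j ρ i₁, hj]
  refine ⟨⟨γT.1 ≫ (aT.inv h𝒳).1, γT.2.comp (aT.inv h𝒳).2⟩, ?_⟩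
  obtain ⟨γ0, hγ0⟩ := exists_isRes h𝒳 j eh₀ ej γT
  obtain ⟨a0, ha0⟩ := exists_isRes h𝒳 j ej ej aT
  obtain ⟨γ0', hγ0'⟩ := exists_isRes h𝒳 (j ≫ ρ) hθ.right_eq hθ.left_eq γ₁
  have h1 : γ0' = γ0 := by
    have r1 := hγ0'.trans hγ₁
    rw [Category.assoc, hj] at r1
    exact r1.unique h𝒳 (hγ0.trans hγT)
  have h2 : a0 = (⟨(β₀.inv h𝒳).1 ≫ γ0'.1, (β₀.inv h𝒳).2.comp γ0'.2⟩ : VHom Q Q g₀ g₀) :=
    (ha0.trans haT).unique h𝒳 (hθ.comp hγ0')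
  have h3 := hγ0.comp (ha0.inv h𝒳)
  have h4 : (⟨γ0.1 ≫ (a0.inv h𝒳).1, γ0.2.comp (a0.inv h𝒳).2⟩ : VHom P Q h₀ g₀) = β₀ := by
    refine Subtype.ext ?_
    have h5 : (β₀.inv h𝒳).1 ≫ γ0.1 = a0.1 := by rw [h2, h1]
    have := a0.2.isIso h𝒳
    change γ0.1 ≫ CategoryTheory.inv a0.1 = β₀.1
    rw [IsIso.comp_inv_eq, ← h5, ← Category.assoc, β₀.comp_inv h𝒳, Category.id_comp]
  rw [h4] at h3
  exact h3

/-- Infinitesimal lifting for the base change of a chart, from the corresponding chart. -/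
theorem exists_lift_pair (h𝒳 : IsFibGrpd 𝒳.p) (h𝒴 : IsFibGrpd 𝒴.p) (φ : IsoNat.FIso 𝒳 𝒴)
    {x : overCat U ⥤ᵇ 𝒳} {y : overCat U ⥤ᵇ 𝒴} {v : overCat V ⥤ᵇ 𝒴}
    (hxy : φ.toEquiv U (IsoNat.cls (vfib x (overTop U))) = IsoNat.cls (vfib y (overTop U)))
    (hx : AlgSt.RepByAlgSpWith (AlgSp.LocP @Smooth) x)
    (hv : AlgSt.RepByAlgSpWith (AlgSp.LocP @Smooth) v)
    (D : Thick S) (h : D.T ⟶ V) (g₀ : D.T₀ ⟶ U) (β₀ : VHom v y (D.j ≫ h) g₀)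
    {OU : U.left.Opens} (hOU : IsAffineOpen OU) (hg : Set.range g₀.left ⊆ OU)
    {OV : V.left.Opens} (hOV : IsAffineOpen OV) (hh : Set.range (D.j ≫ h).left ⊆ OV) :
    ∃ (g : D.T ⟶ U) (β : VHom v y h g), D.j ≫ g = g₀ ∧ IsRes D.j β₀ β := by
  let L : Type u := {g : D.T ⟶ U // D.j ≫ g = g₀}
  -- all lifts at once
  obtain ⟨uall, hu₀, hu⟩ := D.exists_hom (L := L) hOU g₀ hg (fun l => l.1) fun l => l.2
  obtain ⟨h₁, θ, hh₁, hθ⟩ := exists_vhom_lift h𝒴 hv (fanBase D.I L) (fanBase_surjective D.I L)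
    (ker_fanBase_sq D.I D.sq_zero L) (str₁ := D.T₀.hom) (str₂ := (D.fan L).hom) rfl rfl
    (D.base L) (by simp; rfl) uall
    hu₀ (β₀.inv h𝒴)
  -- the pinched thickening
  let i₁ : D.fan L ⟶ D.fan (Option L) := D.fmap some
  let i₀ : D.T ⟶ D.fan (Option L) := D.ev (none : Option L)
  obtain ⟨hV, hV₀, hVev⟩ := D.exists_hom (L := Option L) hOV (D.j ≫ h) hh
    (fun o => o.elim h fun l => D.ev l ≫ h₁) (fun o => by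
      cases o with
      | none => rfl
      | some l => rw [Option.elim_some, ← Category.assoc, D.j_ev, hh₁])
  have hi₁ : i₁ ≫ hV = h₁ := by
    refine D.hom_ext hOV ?_ ?_ fun l => ?_
    · rw [← Category.assoc, D.base_fmap, hV₀]; exact hh
    · rw [← Category.assoc, D.base_fmap, hV₀, hh₁]
    · rw [← Category.assoc, D.ev_fmap]; exact hVev (some l)
  -- the corresponding object
  obtain ⟨z, hz⟩ := exists_corr_chart h𝒳 (fisoSymm h𝒳 h𝒴 φ)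
    (BasedFunctor.comp (AlgSt.overMap hV) v)
  have hz' : φ.toEquiv (D.fan (Option L)) (IsoNat.cls (vfib z (overTop _))) =
      IsoNat.cls (vfib (BasedFunctor.comp (AlgSt.overMap hV) v) (overTop _)) :=
    ((Equiv.symm_apply_eq _).1 hz).symm
  obtain ⟨α⟩ : Nonempty (VHom z x (i₁ ≫ 𝟙 _) uall) := by
    refine (vhom_of_corr h𝒳 h𝒴 φ hz' hxy (i₁ ≫ 𝟙 _) uall).2 ?_
    let c : (Over.map hV).obj (Over.mk (i₁ ≫ 𝟙 _)) ⟶ Over.mk h₁ :=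
      Over.homMk (𝟙 _) (by simp [hi₁])
    exact ⟨⟨v.map c ≫ (θ.inv h𝒴).1,
      ((show Vert (𝒳 := overCat V) c from ⟨rfl, rfl⟩).map v).comp (θ.inv h𝒴).2⟩⟩
  obtain ⟨uV, α', huV, -⟩ := exists_vhom_lift h𝒳 (P := z) hx (fanMap D.I (some : L → Option L))
    (fanMap_surjective D.I _ (Option.some_injective L)) (ker_fanMap_sq D.I D.sq_zero _)
    (str₁ := (D.fan L).hom) (str₂ := (D.fan (Option L)).hom) rfl rfl i₁ (by simp; rfl) (𝟙 _) rfl α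
  obtain ⟨γ₀⟩ := (vhom_of_corr h𝒳 h𝒴 φ hz' hxy (𝟙 _) uV).1 ⟨α'⟩
  let c : Over.mk hV ⟶ (Over.map hV).obj (Over.mk (𝟙 _)) := Over.homMk (𝟙 _) (by simp)
  let γ : VHom v y hV uV :=
    ⟨v.map c ≫ γ₀.1, ((show Vert (𝒳 := overCat V) c from ⟨rfl, rfl⟩).map v).comp γ₀.2⟩
  -- the member of the family
  have hg₂ : D.j ≫ i₀ ≫ uV = g₀ := by
    rw [← Category.assoc, D.j_ev, ← D.base_fmap (some : L → Option L), Category.assoc, huV, hu₀]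
  let l₂ : L := ⟨i₀ ≫ uV, hg₂⟩
  have hθ' : IsRes (D.j ≫ D.ev l₂) (β₀.inv h𝒴) θ := by
    rw [D.j_ev]
    exact hθ
  obtain ⟨β, hβ⟩ := exists_vhom_adjust h𝒴 i₁ i₀ (D.ev l₂) D.j
    (by rw [D.ev_fmap, D.j_ev, D.j_ev]) huV rfl (hu l₂) hi₁ (hVev none) γ θ β₀ hθ'
  exact ⟨i₀ ≫ uV, β, hg₂, hβ⟩

end Groth.Agent.IsoCls
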