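import Groth.Agent.IsoCls.AbelianAut

/-!
Theta schemes over all schemes with the maps between them, and the naturality of the recovered
isomorphisms of abelian automorphism groups.
-/

set_option autoImplicit false
set_option backward.isDefEq.respectTransparency false
set_option backward.isDefEq.respectTransparency.types false

universe u

open CategoryTheory CategoryTheory.Limits AlgebraicGeometry FibCat
open CategoryTheory.Functor Groth.Agent.FibC

namespace Groth.Agent.IsoCls

variable {S : Scheme.{u}} {T T' : Over S}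

/-- A map of theta schemes over a morphism of bases. -/
structure ThetaHom (h : T' ⟶ T) (G' : Theta' T') (G : Theta' T) where
  fC : (Over.map h).obj G'.toDouble.C ⟶ G.toDouble.C
  fU : (Over.map h).obj G'.toDouble.U ⟶ G.toDouble.U
  fW : (Over.map h).obj G'.toDouble.W ⟶ G.toDouble.W
  fp : ∀ i, (Over.map h).obj (G'.Wp i) ⟶ G.Wp i
  h₁ : fU ≫ G.toDouble.j₁ = (Over.map h).map G'.toDouble.j₁ ≫ fC
  h₂ : fU ≫ G.toDouble.j₂ = (Over.map h).map G'.toDouble.j₂ ≫ fC
  hv : fW ≫ G.toDouble.v = (Over.map h).map G'.toDouble.v ≫ fU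
  hw : ∀ i, fp i ≫ G.w i = (Over.map h).map (G'.w i) ≫ fW

section pullback

variable {T₀ : Over S} (a : T ⟶ T₀)

theorem pullback_map_fst {x y : (overCat T₀).obj} (f : x ⟶ y) :
    ((Over.pullback a).map f).left ≫ pullback.fst (Over.hom y) a =
      pullback.fst (Over.hom x) a ≫ f.left :=
  pullback.lift_fst _ _ _

theorem pullback_map_snd {x y : (overCat T₀).obj} (f : x ⟶ y) :
    ((Over.pullback a).map f).left ≫ pullback.snd (Over.hom y) a = pullback.snd (Over.hom x) a :=
  pullback.lift_snd _ _ _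

theorem mono_pullback_map {x y : (overCat T₀).obj} (f : x ⟶ y) [Mono f.left] :
    Mono ((Over.pullback a).map f).left :=
  ⟨fun {Z} u u' e => by
    refine pullback.hom_ext ?_ ?_
    · rw [← cancel_mono f.left, Category.assoc, Category.assoc, ← pullback_map_fst,
        ← Category.assoc, e, Category.assoc]
    · rw [← pullback_map_snd a f, ← Category.assoc, e, Category.assoc]⟩

theorem exists_pullback_lift {x y : (overCat T₀).obj} (f : x ⟶ y) {V : Over S}
    (p : V ⟶ pullback (Over.hom y) a) (u : V ⟶ Over.left x)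
    (e : u ≫ f.left = p ≫ pullback.fst (Over.hom y) a) :
    ∃ u' : V ⟶ pullback (Over.hom x) a, u' ≫ ((Over.pullback a).map f).left = p ∧
      u' ≫ pullback.fst (Over.hom x) a = u := by
  refine ⟨pullback.lift u (p ≫ pullback.snd _ _) ?_, pullback.hom_ext ?_ ?_, pullback.lift_fst _ _ _⟩
  · rw [← Over.w f, ← Category.assoc, e, Category.assoc, pullback.condition, Category.assoc]
  · rw [Category.assoc, pullback_map_fst, pullback.lift_fst_assoc, e]
  · rw [Category.assoc, pullback_map_snd, pullback.lift_snd]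

theorem map_sq {x y y' z : (overCat T₀).obj} {f : x ⟶ y} {g : y ⟶ z} {f' : x ⟶ y'} {g' : y' ⟶ z}
    (e : f ≫ g = f' ≫ g') : (Over.pullback a).map f ≫ (Over.pullback a).map g =
      (Over.pullback a).map f' ≫ (Over.pullback a).map g' := by
  rw [← Functor.map_comp, ← Functor.map_comp, e]

/-- Pullback of a theta scheme. -/
noncomputable def pullbackTheta (G : Theta' T₀) : Theta' T where
  toDouble := {
    C := (Over.pullback a).obj G.toDouble.C
    U := (Over.pullback a).obj G.toDouble.U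
    W := (Over.pullback a).obj G.toDouble.W
    j₁ := (Over.pullback a).map G.toDouble.j₁
    j₂ := (Over.pullback a).map G.toDouble.j₂
    mono₁ := have := G.toDouble.mono₁; mono_pullback_map a _
    mono₂ := have := G.toDouble.mono₂; mono_pullback_map a _
    cov := by
      refine (AlgSp.J S).superset_covering ?_
        ((AlgSp.J S).pullback_stable (pullback.fst (Over.hom G.toDouble.C) a) G.toDouble.cov)
      rintro V p (⟨u, hu⟩ | ⟨u, hu⟩)
      · obtain ⟨u', hu', -⟩ := exists_pullback_lift a _ p u hu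
        exact Or.inl ⟨u', hu'⟩
      · obtain ⟨u', hu', -⟩ := exists_pullback_lift a _ p u hu
        exact Or.inr ⟨u', hu'⟩
    v := (Over.pullback a).map G.toDouble.v
    monov := have := G.toDouble.monov; mono_pullback_map a _
    glue := map_sq a G.toDouble.glue
    overlap := by
      intro V u u' e
      have e1 : (u ≫ pullback.fst _ _) ≫ G.toDouble.j₁.left =
          (u' ≫ pullback.fst _ _) ≫ G.toDouble.j₂.left := by
        rw [Category.assoc, Category.assoc, ← pullback_map_fst a G.toDouble.j₁,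
          ← pullback_map_fst a G.toDouble.j₂, ← Category.assoc, e, Category.assoc]
      obtain ⟨w, hw, hw'⟩ := G.toDouble.overlap _ _ e1
      obtain ⟨w', h1, -⟩ := exists_pullback_lift a G.toDouble.v u w hw
      refine ⟨w', h1, ?_⟩
      refine pullback.hom_ext ?_ ?_
      · rw [h1, ← hw, hw']
      · have e2 := congrArg (· ≫ pullback.snd _ _) e
        simp only [Category.assoc, pullback_map_snd] at e2
        rw [h1, e2] }
  Wp i := (Over.pullback a).obj (G.Wp i)
  w i := (Over.pullback a).map (G.w i)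
  monow i := have := G.monow i; mono_pullback_map a _
  covW := by
    refine (AlgSp.J S).superset_covering ?_
      ((AlgSp.J S).pullback_stable (pullback.fst (Over.hom G.toDouble.W) a) G.covW)
    rintro V p ⟨i, u, hu⟩
    obtain ⟨u', hu', -⟩ := exists_pullback_lift a _ p u hu
    exact ⟨i, u', hu'⟩
  disjW i i' hii V u u' e := G.disjW i i' hii (u ≫ pullback.fst _ _) (u' ≫ pullback.fst _ _) (by
    rw [Category.assoc, Category.assoc, ← pullback_map_fst, ← pullback_map_fst, ← Category.assoc,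
      e, Category.assoc])
  oU := Over.homMk (pullback.lift (a ≫ G.oU.left) (𝟙 T) (by
      rw [Category.assoc, Over.w G.oU]; simp)) (pullback.lift_snd _ _ _)
  merge π := {
    rC := (Over.pullback a).map (G.merge π).rC
    rU := (Over.pullback a).map (G.merge π).rU
    rW := (Over.pullback a).map (G.merge π).rW
    h₁ := map_sq a (G.merge π).h₁
    h₂ := map_sq a (G.merge π).h₂
    hv := map_sq a (G.merge π).hv }
  merge_fix π i hi := ((Over.pullback a).map_comp _ _).symm.trans (congrArg _ (G.merge_fix π i hi))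
  merge_piece π i := by
    obtain ⟨q, hq⟩ := G.merge_piece π i
    exact ⟨(Over.pullback a).map q, map_sq a hq⟩
  proj i := (Over.pullback a).map (G.proj i)
  proj_self i := (congrArg (· ≫ _) ((Over.pullback a).map_comp _ _).symm).trans
    (((Over.pullback a).map_comp _ _).symm.trans ((congrArg _ (G.proj_self i)).trans
      ((Over.pullback a).map_comp _ _)))
  proj_ne i j h := by
    refine (congrArg (· ≫ _) ((Over.pullback a).map_comp _ _).symm).trans
      (((Over.pullback a).map_comp _ _).symm.trans ((congrArg _ (G.proj_ne i j h)).trans ?_))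
    refine Over.OverMorphism.ext (pullback.hom_ext ?_ ?_)
    · rw [pullback_map_fst]
      change _ = (pullback.snd _ _ ≫ pullback.lift (a ≫ G.oU.left) (𝟙 T) _) ≫ _
      rw [Category.assoc, pullback.lift_fst, ← Category.assoc (pullback.snd _ _) a,
        ← pullback.condition, Category.assoc]
      rfl
    · rw [pullback_map_snd]
      change _ = (pullback.snd _ _ ≫ pullback.lift (a ≫ G.oU.left) (𝟙 T) _) ≫ _
      rw [Category.assoc, pullback.lift_snd, Category.comp_id]
  lines b hb := by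
    obtain ⟨M⟩ := G.lines ((Over.map a).obj b) hb
    let g : Over.left M.A ⟶ T := M.pA.left ≫ Over.hom b
    have hg : g ≫ a = Over.hom M.A := by
      rw [Category.assoc]; exact Over.w M.pA
    have hog : M.o.left ≫ g = Over.hom b := by
      have h2 : M.o.left ≫ M.pA.left = 𝟙 _ := congrArg Over.Hom.left M.o_pA
      rw [← Category.assoc, h2]; exact Category.id_comp _
    refine ⟨{
      A := Over.mk g
      la := fun i => Over.homMk (pullback.lift (M.la i).left g (by rw [Over.w (M.la i), hg]))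
        (pullback.lift_snd _ _ _)
      o := Over.homMk M.o.left hog
      pA := Over.homMk M.pA.left rfl
      o_pA := Over.OverMorphism.ext (show M.o.left ≫ M.pA.left = _ from
        congrArg Over.Hom.left M.o_pA)
      ho := fun i => Over.OverMorphism.ext (pullback.hom_ext ?_ ?_)
      D := Over.mk (M.d.left ≫ g)
      d := Over.homMk M.d.left rfl
      dense := M.dense
      dp := fun i => Over.homMk (pullback.lift (M.dp i).left (M.d.left ≫ g) (by
          rw [Over.w (M.dp i), Category.assoc, hg, Over.w M.d]))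
        (pullback.lift_snd _ _ _)
      hdp := fun i => Over.OverMorphism.ext (pullback.hom_ext ?_ ?_) }⟩
    · change (M.o.left ≫ pullback.lift (M.la i).left g _) ≫ _ =
        (Over.hom b ≫ pullback.lift (a ≫ G.oU.left) (𝟙 T) _) ≫ _
      rw [Category.assoc, pullback.lift_fst, Category.assoc, pullback.lift_fst,
        ← Category.assoc (Over.hom b)]
      exact congrArg Over.Hom.left (M.ho i)
    · change (M.o.left ≫ pullback.lift (M.la i).left g _) ≫ _ =
        (Over.hom b ≫ pullback.lift (a ≫ G.oU.left) (𝟙 T) _) ≫ _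
      rw [Category.assoc, pullback.lift_snd, hog, Category.assoc, pullback.lift_snd]
      exact (Category.comp_id _).symm
    · change (M.d.left ≫ pullback.lift (M.la i).left g _) ≫ _ =
        (pullback.lift (M.dp i).left (M.d.left ≫ g) _ ≫ ((Over.pullback a).map (G.w i)).left ≫
          ((Over.pullback a).map G.toDouble.v).left) ≫ _
      simp only [Category.assoc, pullback.lift_fst, pullback_map_fst]
      rw [← Category.assoc (((Over.pullback a).map (G.w i)).left), pullback_map_fst]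
      simp only [Category.assoc, pullback.lift_fst_assoc]
      exact congrArg Over.Hom.left (M.hdp i)
    · change (M.d.left ≫ pullback.lift (M.la i).left g _) ≫ _ =
        (pullback.lift (M.dp i).left (M.d.left ≫ g) _ ≫ ((Over.pullback a).map (G.w i)).left ≫
          ((Over.pullback a).map G.toDouble.v).left) ≫ _
      simp only [Category.assoc, pullback.lift_snd, pullback_map_snd]

end pullback

/-- The comparison of pullbacks. -/
noncomputable def pullbackMapHom {T₀ : Over S} (a : T ⟶ T₀) (a' : T' ⟶ T₀) (h : T' ⟶ T)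
    (e : h ≫ a = a') (x : (overCat T₀).obj) :
    (Over.map h).obj ((Over.pullback a').obj x) ⟶ (Over.pullback a).obj x :=
  Over.homMk (pullback.lift (pullback.fst _ _) (pullback.snd _ _ ≫ h) (by
    rw [pullback.condition, Category.assoc, e])) (pullback.lift_snd _ _ _)

theorem pullbackMapHom_natural {T₀ : Over S} (a : T ⟶ T₀) (a' : T' ⟶ T₀) (h : T' ⟶ T)
    (e : h ≫ a = a') {x y : (overCat T₀).obj} (f : x ⟶ y) :
    pullbackMapHom a a' h e x ≫ (Over.pullback a).map f =
      (Over.map h).map ((Over.pullback a').map f) ≫ pullbackMapHom a a' h e y := by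
  refine Over.OverMorphism.ext (pullback.hom_ext ?_ ?_)
  · change (pullback.lift _ _ _ ≫ ((Over.pullback a).map f).left) ≫ _ =
      (((Over.pullback a').map f).left ≫ pullback.lift _ _ _) ≫ _
    rw [Category.assoc, pullback_map_fst, pullback.lift_fst_assoc, Category.assoc, pullback.lift_fst,
      pullback_map_fst]
  · change (pullback.lift _ _ _ ≫ ((Over.pullback a).map f).left) ≫ _ =
      (((Over.pullback a').map f).left ≫ pullback.lift _ _ _) ≫ _
    rw [Category.assoc, pullback_map_snd, pullback.lift_snd, Category.assoc, pullback.lift_snd,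
      ← Category.assoc, pullback_map_snd]

/-- Theta schemes over all schemes, with maps between them. -/
theorem exists_thetaFamily (S : Scheme.{u}) : ∃ G : ∀ T : Over S, Theta' T,
    ∀ {T' T : Over S} (h : T' ⟶ T), Nonempty (ThetaHom h (G T') (G T)) := by
  obtain ⟨G₀⟩ := exists_theta' (Over.mk (𝟙 S))
  let a : ∀ T : Over S, T ⟶ Over.mk (𝟙 S) := fun T => Over.homMk T.hom (Category.comp_id _)
  refine ⟨fun T => pullbackTheta (a T) G₀, fun {T' T} h => ?_⟩
  have e : h ≫ a T = a T' := Over.OverMorphism.ext (Over.w h)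
  exact ⟨{
    fC := pullbackMapHom (a T) (a T') h e _
    fU := pullbackMapHom (a T) (a T') h e _
    fW := pullbackMapHom (a T) (a T') h e _
    fp := fun i => pullbackMapHom (a T) (a T') h e _
    h₁ := pullbackMapHom_natural (a T) (a T') h e _
    h₂ := pullbackMapHom_natural (a T) (a T') h e _
    hv := pullbackMapHom_natural (a T) (a T') h e _
    hw := fun i => pullbackMapHom_natural (a T) (a T') h e _ }⟩

section natural

variable {𝒳 𝒴 : AlgSt.Cat S} {h : T' ⟶ T}

/-- The base change of an object along `h`. -/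
abbrev bch (h : T' ⟶ T) (X : overCat T ⥤ᵇ 𝒳) : overCat T' ⥤ᵇ 𝒳 :=
  BasedFunctor.comp (overMap h) X

theorem res_bch (hg : IsFibGrpd 𝒳.p) (h : T' ⟶ T) (X : overCat T ⥤ᵇ 𝒳)
    {b c : (overCat T').obj} (u : b ⟶ c) (e : VA (bch h X) c) :
    res hg (bch h X) u e =
      res hg X ((Over.map h).map u) (b := (Over.map h).obj b) (c := (Over.map h).obj c) e :=
  res_eq hg u (res_spec hg ((Over.map h).map u) e)

/-- The restriction of automorphisms along `h`. -/
noncomputable def resTop (hg : IsFibGrpd 𝒳.p) (h : T' ⟶ T) (X : overCat T ⥤ᵇ 𝒳) :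
    VA X (overTop T) →* VA (bch h X) (overTop T') :=
  res hg X (toTop ((Over.map h).obj (overTop T')))

theorem exists_pullback_hom (hg : IsFibGrpd 𝒳.p) {G' : Theta' T'} {G : Theta' T}
    (F : ThetaHom h G' G) {X : overCat T ⥤ᵇ 𝒳} {Z : Twist G.toDouble X}
    {b : Fin 3 → VA X (overTop T)} (hZ : HasPieces hg G Z b) :
    ∃ (P : Twist G'.toDouble (bch h X)) (a : P.z ⟶ Z.z),
      𝒳.p.IsHomLift F.fC.left a ∧ HasPieces hg G' P (resTop hg h X ∘ b) := by
  obtain ⟨z', a, ha⟩ := hg.exists_lift (F.fC.left ≫ eqToHom Z.hz.symm)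
  have ha' : 𝒳.p.IsHomLift F.fC.left a :=
    (IsHomLift.lift_comp_eqToHom_iff 𝒳.p _ a _).1 ha
  have hz' : 𝒳.p.obj z' = Over.left G'.toDouble.C := IsHomLift.domain_eq 𝒳.p F.fC.left a
  have key : ∀ (j' : G'.toDouble.U ⟶ G'.toDouble.C) (j : G.toDouble.U ⟶ G.toDouble.C)
      (f : X.obj G.toDouble.U ⟶ Z.z), 𝒳.p.IsHomLift j.left f →
      F.fU ≫ j = (Over.map h).map j' ≫ F.fC →
      ∃ g : (bch h X).obj G'.toDouble.U ⟶ z', 𝒳.p.IsHomLift j'.left g ∧
        g ≫ a = X.map F.fU ≫ f := by
    intro j' j f hf hj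
    have := map_lift X F.fU
    have hl : 𝒳.p.IsHomLift (F.fU.left ≫ j.left) (X.map F.fU ≫ f) := inferInstance
    exact exists_factor' hg F.fC.left a ha' (X.map F.fU ≫ f) j'.left _ hl
      (congrArg Over.Hom.left hj).symm
  obtain ⟨g₁, hg₁, hg₁'⟩ := key G'.toDouble.j₁ G.toDouble.j₁ Z.f₁ Z.hf₁ F.h₁
  obtain ⟨g₂, hg₂, hg₂'⟩ := key G'.toDouble.j₂ G.toDouble.j₂ Z.f₂ Z.hf₂ F.h₂
  refine ⟨⟨z', hz', g₁, g₂, hg₁, hg₂, res hg X F.fW Z.σ, ?_⟩, a, ha', fun i => ?_⟩
  · have := sc_of_fibGrpd hg F.fC.left a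
    have h1 : 𝒳.p.IsHomLift (G'.toDouble.v.left ≫ G'.toDouble.j₂.left)
        ((bch h X).map G'.toDouble.v ≫ g₁) :=
      vj_eq (L := G'.toDouble) ▸ v_comp_lift g₁ _ hg₁
    have h2 : 𝒳.p.IsHomLift (G'.toDouble.v.left ≫ G'.toDouble.j₂.left)
        ((res hg X F.fW Z.σ).hom.1 ≫ (bch h X).map G'.toDouble.v ≫ g₂) :=
      va_comp_lift (X := bch h X) _ (res hg X F.fW Z.σ) _ (v_comp_lift g₂ _ hg₂)
    apply IsStronglyCartesian.ext 𝒳.p F.fC.left a (G'.toDouble.v.left ≫ G'.toDouble.j₂.left)
    change (X.map ((Over.map h).map G'.toDouble.v) ≫ g₁) ≫ a =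
      ((res hg X F.fW Z.σ).hom.1 ≫ X.map ((Over.map h).map G'.toDouble.v) ≫ g₂) ≫ a
    simp only [Category.assoc]
    rw [hg₁', hg₂', ← Category.assoc, ← Functor.map_comp, ← F.hv, Functor.map_comp, Category.assoc,
      Z.rel, ← Category.assoc (X.map F.fW), ← res_spec hg, Category.assoc,
      ← Category.assoc (X.map F.fW) (X.map G.toDouble.v), ← Functor.map_comp, F.hv,
      Functor.map_comp, Category.assoc]
  · rw [res_bch hg h X]
    refine (res_res hg _ _ _).trans ?_
    rw [res_congr hg (F.hw i).symm, ← res_res, hZ i, res_const]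
    refine Eq.trans ?_ (res_bch hg h X _ _).symm
    exact (res_res hg _ _ _).trans (res_congr hg (Over.OverMorphism.ext (Over.w _)) _) |>.symm

theorem Corr.map {h𝒳 : IsFibGrpd 𝒳.p} {h𝒴 : IsFibGrpd 𝒴.p} {φ : IsoNat.FIso 𝒳 𝒴}
    {G' : Theta' T'} {G : Theta' T} (F : ThetaHom h G' G)
    {X : overCat T ⥤ᵇ 𝒳} {Y : overCat T ⥤ᵇ 𝒴} {b : Fin 3 → VA X (overTop T)}
    {b' : Fin 3 → VA Y (overTop T)} (hc : Corr h𝒳 h𝒴 φ G b b') :
    Corr h𝒳 h𝒴 φ G' (X := bch h X) (Y := bch h Y) (resTop h𝒳 h X ∘ b) (resTop h𝒴 h Y ∘ b') := by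
  obtain ⟨Z, Z', hZ, hZ', he⟩ := hc
  obtain ⟨P, a, ha, hP⟩ := exists_pullback_hom h𝒳 F hZ
  obtain ⟨P', a', ha', hP'⟩ := exists_pullback_hom h𝒴 F hZ'
  exact ⟨P, P', hP, hP', toEquiv_eq_of_lifts h𝒴 φ F.fC.left (x' := P.fib) (x := Z.fib)
    (y' := P'.fib) (y := Z'.fib) a a' ha ha' he⟩

/-- The recovered isomorphisms of automorphism groups commute with base change. -/
theorem autMap_natural (h𝒳 : Stk.IsStack (AlgSp.J S) 𝒳) (h𝒴 : Stk.IsStack (AlgSp.J S) 𝒴)
    (hd𝒳 : AlgSt.RepByAlgSpWith (AlgSp.RepWith @IsClosedImmersion) (diag (diag (toSelf 𝒳))))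
    (hd𝒴 : AlgSt.RepByAlgSpWith (AlgSp.RepWith @IsClosedImmersion) (diag (diag (toSelf 𝒴))))
    (φ : IsoNat.FIso 𝒳 𝒴) {G' : Theta' T'} {G : Theta' T} (F : ThetaHom h G' G)
    {X : overCat T ⥤ᵇ 𝒳} {Y : overCat T ⥤ᵇ 𝒴}
    (hcls : φ.toEquiv T (IsoNat.cls (vfib X (overTop T))) = IsoNat.cls (vfib Y (overTop T)))
    (hcls' : φ.toEquiv T' (IsoNat.cls (vfib (bch h X) (overTop T'))) =
      IsoNat.cls (vfib (bch h Y) (overTop T')))
    (habX : ∀ (c : (overCat T).obj) (e e' : VA X c), e * e' = e' * e)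
    (habY : ∀ (c : (overCat T).obj) (e e' : VA Y c), e * e' = e' * e)
    (a : VA X (overTop T)) :
    autMap h𝒳 h𝒴 hd𝒳 hd𝒴 φ G' hcls' (fun c => habY ((Over.map h).obj c)) (resTop h𝒳.1 h X a) =
      resTop h𝒴.1 h Y (autMap h𝒳 h𝒴 hd𝒳 hd𝒴 φ G hcls habY a) := by
  obtain ⟨d, hd⟩ := exists_corr h𝒳 h𝒴 hd𝒳 hd𝒴 φ G hcls habY ![1, a, a]
  have h1 := autMap_edge h𝒳 h𝒴 hd𝒳 hd𝒴 φ G hcls habX habY hd 0 1
  have h2 := autMap_edge h𝒳 h𝒴 hd𝒳 hd𝒴 φ G' hcls' (fun c => habX ((Over.map h).obj c))
    (fun c => habY ((Over.map h).obj c)) (hd.map F) 0 1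
  have e1 : (![1, a, a] : Fin 3 → _) 1 * ((![1, a, a] : Fin 3 → _) 0)⁻¹ = a := by simp
  have e2 : (resTop h𝒳.1 h X ∘ (![1, a, a] : Fin 3 → _)) 1 *
      ((resTop h𝒳.1 h X ∘ (![1, a, a] : Fin 3 → _)) 0)⁻¹ = resTop h𝒳.1 h X a :=
    ((map_mul _ _ _).trans (congrArg _ (_root_.map_inv _ _))).symm.trans (congrArg _ e1)
  rw [e1] at h1
  rw [e2] at h2
  rw [h1, h2, map_mul, _root_.map_inv]
  rfl

end natural

end Groth.Agent.IsoCls
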