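import Groth.Agent.IsoCls.Twist
import Groth.Agent.IsoCls.LoopGeom

/-!
The theta scheme: two copies of three crossing lines glued away from the crossing, with the
endomorphisms merging lines.
-/

set_option autoImplicit false
set_option backward.isDefEq.respectTransparency false
set_option backward.isDefEq.respectTransparency.types false

universe u

open CategoryTheory CategoryTheory.Limits AlgebraicGeometry FibCat TopologicalSpace
open Groth.Agent.FibC

namespace Groth.Agent.IsoCls

variable {S : Scheme.{u}}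

/-- A family of open immersions covering a scheme gives a covering sieve. -/
theorem sieveFam_mem {ι : Type} {T : Over S} {B : ι → Over S} (f : ∀ i, B i ⟶ T)
    [∀ i, IsOpenImmersion (f i).left]
    (hsurj : ∀ x : T.left, ∃ i, x ∈ Set.range (f i).left) : sieveFam f ∈ AlgSp.J S T := by
  refine Groth.Agent.AlgSp.mem_of_cover
    (R := Presieve.ofArrows (fun i => (B i).left) fun i => (f i).left) ?_ ?_
  · refine Scheme.zariskiPrecoverage_le_fppfPrecoverage _ ?_
    rw [Scheme.ofArrows_mem_precoverage_iff]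
    exact ⟨hsurj, fun i => inferInstance⟩
  · rintro W k ⟨i⟩
    exact ⟨i, Over.homMk (𝟙 (B i).left) ((Category.id_comp _).trans (Over.w (f i)).symm),
      Over.OverMorphism.ext (Category.id_comp _)⟩

section ring

variable (A : CommRingCat.{u})

/-- The relations of three crossing lines. -/
noncomputable def triIdeal : Ideal (MvPolynomial (Fin 3) A) :=
  Ideal.span {r | ∃ i j, i ≠ j ∧ r = MvPolynomial.X i * MvPolynomial.X j}

/-- The ring of three crossing lines. -/
noncomputable abbrev Tri : CommRingCat.{u} :=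
  CommRingCat.of (MvPolynomial (Fin 3) A ⧸ triIdeal A)

/-- The structure map. -/
noncomputable def triStr : A ⟶ Tri A :=
  CommRingCat.ofHom ((Ideal.Quotient.mk _).comp MvPolynomial.C)

/-- The coordinates. -/
noncomputable def tc (i : Fin 3) : Tri A := Ideal.Quotient.mk _ (MvPolynomial.X i)

theorem tc_mul {i j : Fin 3} (h : i ≠ j) : tc A i * tc A j = 0 := by
  rw [tc, tc, ← map_mul, Ideal.Quotient.eq_zero_iff_mem]
  exact Ideal.subset_span ⟨i, j, h, rfl⟩

theorem tri_lift_aux {R : Type u} [CommRing R] (f : A →+* R) (g : Fin 3 → R)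
    (hg : ∀ i j, i ≠ j → g i * g j = 0) :
    triIdeal A ≤ RingHom.ker (MvPolynomial.eval₂Hom f g) := by
  refine Ideal.span_le.2 ?_
  rintro _ ⟨i, j, hij, rfl⟩
  simp [RingHom.mem_ker, hg i j hij]

/-- Maps out of the ring of three crossing lines. -/
noncomputable def triLift {R : CommRingCat.{u}} (f : A ⟶ R) (g : Fin 3 → R)
    (hg : ∀ i j, i ≠ j → g i * g j = 0) : Tri A ⟶ R :=
  CommRingCat.ofHom (Ideal.Quotient.lift _ (MvPolynomial.eval₂Hom f.hom g)
    (tri_lift_aux A f.hom g hg))

theorem triLift_str {R : CommRingCat.{u}} (f : A ⟶ R) (g : Fin 3 → R)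
    (hg : ∀ i j, i ≠ j → g i * g j = 0) : triStr A ≫ triLift A f g hg = f := by
  ext a
  simp [triStr, triLift]

theorem triLift_tc {R : CommRingCat.{u}} (f : A ⟶ R) (g : Fin 3 → R)
    (hg : ∀ i j, i ≠ j → g i * g j = 0) (i : Fin 3) : triLift A f g hg (tc A i) = g i := by
  simp [triLift, tc]

theorem tri_ext {R : CommRingCat.{u}} {f g : Tri A ⟶ R} (h₀ : triStr A ≫ f = triStr A ≫ g)
    (h : ∀ i, f (tc A i) = g (tc A i)) : f = g := by
  apply CommRingCat.hom_ext
  apply Ideal.Quotient.ringHom_ext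
  apply MvPolynomial.ringHom_ext
  · intro r
    exact congrArg (fun φ : A ⟶ R => φ r) h₀
  · intro i
    exact h i

theorem tri_sum_mul (π : Fin 3 → Fin 3) {j j' : Fin 3} (h : j ≠ j') :
    (∑ i, if π i = j then tc A i else 0) * (∑ i, if π i = j' then tc A i else 0) = 0 := by
  rw [Finset.sum_mul]
  refine Finset.sum_eq_zero fun i _ => ?_
  rw [Finset.mul_sum]
  refine Finset.sum_eq_zero fun i' _ => ?_
  split_ifs with h1 h2
  · exact tc_mul A fun hii => h (h1.symm.trans (hii ▸ h2))
  all_goals simp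

/-- The map merging lines along `π`. -/
noncomputable def remap (π : Fin 3 → Fin 3) : Tri A ⟶ Tri A :=
  triLift A (triStr A) (fun j => ∑ i, if π i = j then tc A i else 0)
    fun _ _ h => tri_sum_mul A π h

/-- The map contracting the middle line. -/
noncomputable def collapse : Tri A ⟶ Tri A :=
  triLift A (triStr A) (fun k => if k = 1 then 0 else tc A k) fun i j h => by
    split_ifs <;> simp [tc_mul A h]

/-- The `i`-th line. -/
noncomputable def triAxis (i : Fin 3) : Tri A ⟶ Line A :=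
  triLift A (CommRingCat.ofHom Polynomial.C) (fun k => if k = i then Polynomial.X else 0)
    fun a b h => by
      split_ifs with h1 h2
      · exact absurd (h1.trans h2.symm) h
      all_goals simp

/-- The `i`-th punctured line, as a localisation. -/
noncomputable abbrev Loc (i : Fin 3) : CommRingCat.{u} :=
  CommRingCat.of (Localization.Away (tc A i))

/-- Its inclusion. -/
noncomputable def toLoc (i : Fin 3) : Tri A ⟶ Loc A i :=
  CommRingCat.ofHom (algebraMap (Tri A) (Localization.Away (tc A i)))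

theorem isUnit_toLoc (i : Fin 3) : IsUnit (toLoc A i (tc A i)) :=
  IsLocalization.Away.algebraMap_isUnit (tc A i)

theorem toLoc_ne {i k : Fin 3} (h : k ≠ i) : toLoc A i (tc A k) = 0 := by
  refine (isUnit_toLoc A i).mul_left_eq_zero.1 ?_
  rw [← map_mul, tc_mul A h, map_zero]

theorem loc_lift {R : CommRingCat.{u}} (i : Fin 3) (g : Tri A ⟶ R) (hg : IsUnit (g (tc A i))) :
    ∃ h : Loc A i ⟶ R, toLoc A i ≫ h = g :=
  ⟨CommRingCat.ofHom (IsLocalization.Away.lift (tc A i) (g := g.hom) hg),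
    CommRingCat.hom_ext (RingHom.ext fun x => IsLocalization.Away.lift_eq (tc A i) hg x)⟩

theorem remap_toLoc (π : Fin 3 → Fin 3) (i j : Fin 3) :
    toLoc A i (remap A π (tc A j)) = if π i = j then toLoc A i (tc A i) else 0 := by
  rw [remap, triLift_tc, map_sum, Finset.sum_eq_single i]
  · split_ifs <;> simp
  · intro k _ hk
    split_ifs <;> simp [toLoc_ne A hk]
  · simp

theorem remap_toLoc_fix (π : Fin 3 → Fin 3) (i : Fin 3) (h : π i = i) :
    remap A π ≫ toLoc A i = toLoc A i := by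
  refine tri_ext A ?_ fun j => ?_
  · rw [← Category.assoc]
    exact congrArg (· ≫ toLoc A i) (triLift_str A _ _ _)
  · rw [CommRingCat.comp_apply, remap_toLoc, h]
    split_ifs with hij
    · rw [hij]
    · rw [toLoc_ne A (Ne.symm hij)]

theorem remap_unit (π : Fin 3 → Fin 3) (i : Fin 3) :
    IsUnit ((remap A π ≫ toLoc A i) (tc A (π i))) := by
  rw [CommRingCat.comp_apply, remap_toLoc, if_pos rfl]
  exact isUnit_toLoc A i

theorem collapse_toLoc {i : Fin 3} (h : i ≠ 1) : collapse A ≫ toLoc A i = toLoc A i := by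
  refine tri_ext A ?_ fun j => ?_
  · rw [← Category.assoc]
    exact congrArg (· ≫ toLoc A i) (triLift_str A _ _ _)
  · rw [CommRingCat.comp_apply, collapse, triLift_tc]
    split_ifs with hj
    · rw [map_zero, toLoc_ne A (hj ▸ Ne.symm h)]
    · rfl

theorem collapse_toLoc_one :
    collapse A ≫ toLoc A 1 = triAxis A 0 ≫ origin A ≫ triStr A ≫ toLoc A 1 := by
  refine tri_ext A ?_ fun j => ?_
  · rw [← Category.assoc, collapse, triLift_str, ← Category.assoc (triStr A), triAxis, triLift_str]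
    ext a
    simp [origin]
  · change toLoc A 1 (collapse A (tc A j)) =
      toLoc A 1 (triStr A (origin A (triAxis A 0 (tc A j))))
    rw [collapse, triLift_tc, triAxis, triLift_tc]
    have h0 : origin A (if j = 0 then (Polynomial.X : Polynomial A) else 0) = 0 := by
      split_ifs
      · exact Polynomial.eval_X
      · exact map_zero _
    rw [h0, map_zero, map_zero]
    split_ifs with hj
    · exact map_zero _
    · exact toLoc_ne A hj

theorem axis_punct_unit (i : Fin 3) : IsUnit ((triAxis A i ≫ punct A) (tc A i)) := by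
  rw [CommRingCat.comp_apply, triAxis, triLift_tc, if_pos rfl]
  exact IsLocalization.Away.algebraMap_isUnit (Polynomial.X : Polynomial A)

theorem triAxis_origin (i : Fin 3) : triAxis A i ≫ origin A = triAxis A 0 ≫ origin A := by
  refine tri_ext A ?_ fun j => ?_
  · simp only [← Category.assoc, triAxis, triLift_str]
  · change origin A (triAxis A i (tc A j)) = origin A (triAxis A 0 (tc A j))
    rw [triAxis, triAxis, triLift_tc, triLift_tc]
    split_ifs <;> simp [origin]

end ring

/-- Two copies of three crossing lines glued off the crossing. -/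
structure Theta (T : Over S) where
  toDouble : Double (AlgSp.J S) T
  Wp : Fin 3 → (overCat T).obj
  w : ∀ i, Wp i ⟶ toDouble.W
  monow : ∀ i, Mono (w i).left
  covW : sieveFam (fun i => (w i).left) ∈ AlgSp.J S (Over.left toDouble.W)
  disjW : ∀ (i i' : Fin 3), i ≠ i' → ∀ {V : Over S} (u : V ⟶ Over.left (Wp i))
    (u' : V ⟶ Over.left (Wp i')), u ≫ (w i).left = u' ≫ (w i').left → IsEmpty V.left
  A : (overCat T).obj
  la : Fin 3 → (A ⟶ toDouble.U)
  o : overTop T ⟶ A
  oU : overTop T ⟶ toDouble.U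
  ho : ∀ i, o ≫ la i = oU
  D : (overCat T).obj
  d : D ⟶ A
  dense : IsSchemeTheoreticallyDominant d.left.left
  dp : ∀ i, D ⟶ Wp i
  hdp : ∀ i, d ≫ la i = dp i ≫ w i ≫ toDouble.v
  merge : (Fin 3 → Fin 3) → toDouble.End
  merge_fix : ∀ π i, π i = i → w i ≫ (merge π).rW = w i
  merge_piece : ∀ π i, ∃ q : Wp i ⟶ Wp (π i), w i ≫ (merge π).rW = q ≫ w (π i)
  p : toDouble.U ⟶ toDouble.U
  hp : ∀ i, i ≠ 1 → (w i ≫ toDouble.v) ≫ p = w i ≫ toDouble.v
  hp_one : (w 1 ≫ toDouble.v) ≫ p = toTop (Wp 1) ≫ oU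

/-- The theta scheme over an affine scheme. -/
theorem exists_theta (T : Over S) [IsAffine T.left] : Nonempty (Theta T) := by
  let A : CommRingCat.{u} := Γ(T.left, ⊤)
  let U := Spec (Tri A)
  let zU : U ⟶ T.left := Spec.map (triStr A) ≫ T.left.isoSpec.inv
  let u₀ : ∀ i, Spec (Loc A i) ⟶ U := fun i => Spec.map (toLoc A i)
  have hu : ∀ i, IsOpenImmersion (u₀ i) := fun i =>
    IsOpenImmersion.of_isLocalization (tc A i)
  let Bo : Fin 3 → U.Opens := fun i => PrimeSpectrum.basicOpen (tc A i)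
  have hrange : ∀ i, Set.range (u₀ i) = (Bo i : Set U) := fun i =>
    PrimeSpectrum.localization_away_comap_range (Localization.Away (tc A i)) (tc A i)
  let O : U.Opens := ⨆ i : Fin 3, Bo i
  let C := pushout O.ι O.ι
  let jl : U ⟶ C := pushout.inl O.ι O.ι
  let jr : U ⟶ C := pushout.inr O.ι O.ι
  let zC : C ⟶ T.left := pushout.desc zU zU rfl
  have hl : IsOpenImmersion jl :=
    inferInstanceAs (IsOpenImmersion (colimit.ι (span O.ι O.ι) WalkingSpan.left))
  have hr : IsOpenImmersion jr :=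
    inferInstanceAs (IsOpenImmersion (colimit.ι (span O.ι O.ι) WalkingSpan.right))
  have hjl : jl ≫ zC = zU := pushout.inl_desc _ _ _
  have hjr : jr ≫ zC = zU := pushout.inr_desc _ _ _
  have hcovC : ∀ x : C, x ∈ Set.range jl ∨ x ∈ Set.range jr := by
    intro x
    obtain ⟨(_ | _ | _), y, rfl⟩ := Scheme.IsLocallyDirected.ι_jointly_surjective (span O.ι O.ι) x
    · refine Or.inl ⟨O.ι y, ?_⟩
      rw [← Scheme.Hom.comp_apply]
      exact congrArg (fun f : _ ⟶ C => f y) (colimit.w (span O.ι O.ι) WalkingSpan.Hom.fst)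
    · exact Or.inl ⟨y, rfl⟩
    · exact Or.inr ⟨y, rfl⟩
  have hinter : ∀ (a b : U), jl a = jr b → a ∈ O := by
    intro a b h
    obtain ⟨k, fi, fj, x, hx, -⟩ := (Scheme.IsLocallyDirected.ι_eq_ι_iff (span O.ι O.ι)
      (i := WalkingSpan.left) (j := WalkingSpan.right)).1 h
    rcases k with (_ | _ | _)
    · cases fi
      exact hx ▸ x.2
    · cases fj
    · cases fi
  -- the pieces
  have hsub : ∀ i, Set.range (u₀ i) ⊆ Set.range O.ι := fun i => by
    rw [Scheme.Opens.range_ι, hrange i]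
    exact le_iSup Bo i
  let w₀ : ∀ i, Spec (Loc A i) ⟶ O.toScheme := fun i => IsOpenImmersion.lift O.ι (u₀ i) (hsub i)
  have hw₀ : ∀ i, w₀ i ≫ O.ι = u₀ i := fun i => IsOpenImmersion.lift_fac O.ι (u₀ i) (hsub i)
  have hw₀' : ∀ i, IsOpenImmersion (w₀ i) := fun i => by
    have := hu i
    have : IsOpenImmersion (w₀ i ≫ O.ι) := (hw₀ i).symm ▸ hu i
    exact IsOpenImmersion.of_comp (w₀ i) O.ι
  have hcovO : ∀ x : O.toScheme, ∃ i, x ∈ Set.range (w₀ i) := by
    intro x
    obtain ⟨i, hi⟩ := Opens.mem_iSup.1 x.2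
    have : (x.1 : U) ∈ Set.range (u₀ i) := by rw [hrange i]; exact hi
    obtain ⟨y, hy⟩ := this
    refine ⟨i, y, Subtype.ext ?_⟩
    change O.ι (w₀ i y) = _
    rw [← Scheme.Hom.comp_apply, hw₀ i]
    exact hy
  -- merging
  let rU₀ : (Fin 3 → Fin 3) → (U ⟶ U) := fun π => Spec.map (remap A π)
  have hqex : ∀ (π : Fin 3 → Fin 3) (i : Fin 3),
      ∃ h : Loc A (π i) ⟶ Loc A i, toLoc A (π i) ≫ h = remap A π ≫ toLoc A i :=
    fun π i => loc_lift A (π i) _ (remap_unit A π i)
  choose qr hqr using hqex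
  have hq : ∀ π i, u₀ i ≫ rU₀ π = Spec.map (qr π i) ≫ u₀ (π i) := fun π i => by
    simp only [u₀, rU₀]
    rw [← Spec.map_comp, ← Spec.map_comp, hqr]
  have hrO : ∀ π, Set.range (O.ι ≫ rU₀ π) ⊆ Set.range O.ι := by
    rintro π _ ⟨x, rfl⟩
    obtain ⟨i, y, rfl⟩ := hcovO x
    refine hsub (π i) ⟨Spec.map (qr π i) y, ?_⟩
    simp only [← Scheme.Hom.comp_apply]
    rw [← hq, ← Category.assoc, hw₀]
  let rW₀ : (Fin 3 → Fin 3) → (O.toScheme ⟶ O.toScheme) := fun π =>
    IsOpenImmersion.lift O.ι (O.ι ≫ rU₀ π) (hrO π)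
  have hrW : ∀ π, rW₀ π ≫ O.ι = O.ι ≫ rU₀ π := fun π =>
    IsOpenImmersion.lift_fac O.ι (O.ι ≫ rU₀ π) (hrO π)
  have hglue : O.ι ≫ jl = O.ι ≫ jr := pushout.condition
  let rC₀ : (Fin 3 → Fin 3) → (C ⟶ C) := fun π => pushout.desc (rU₀ π ≫ jl) (rU₀ π ≫ jr) (by
    rw [← Category.assoc, ← Category.assoc, ← hrW, Category.assoc, Category.assoc, hglue])
  have hrz : ∀ π, rU₀ π ≫ zU = zU := fun π => by
    simp only [rU₀, zU, ← Category.assoc, ← Spec.map_comp]
    rw [show triStr A ≫ remap A π = triStr A from triLift_str A _ _ _]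
  -- the lines
  let zA : Spec (Line A) ⟶ T.left :=
    Spec.map (CommRingCat.ofHom Polynomial.C) ≫ T.left.isoSpec.inv
  have hax : ∀ i, Spec.map (triAxis A i) ≫ zU = zA := fun i => by
    simp only [zU, zA, ← Category.assoc, ← Spec.map_comp]
    rw [show triStr A ≫ triAxis A i = _ from triLift_str A _ _ _]
  let o₀ : T.left ⟶ Spec (Line A) := T.left.isoSpec.hom ≫ Spec.map (origin A)
  have ho₀ : o₀ ≫ zA = 𝟙 T.left := by
    have h : CommRingCat.ofHom (Polynomial.C : A →+* Polynomial A) ≫ origin A = 𝟙 A := by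
      apply CommRingCat.hom_ext
      ext a
      exact Polynomial.eval_C
    simp only [o₀, zA, Category.assoc]
    rw [← Spec.map_comp_assoc, h]
    erw [Spec.map_id]
    erw [Category.id_comp]
    exact Iso.hom_inv_id _
  choose pu hpu using fun i => loc_lift A i _ (axis_punct_unit A i)
  let zW : O.toScheme ⟶ T.left := O.ι ≫ zU
  let zp : ∀ i, Spec (Loc A i) ⟶ T.left := fun i => u₀ i ≫ zU
  let p₀ : U ⟶ U := Spec.map (collapse A)
  have hp₀ : p₀ ≫ zU = zU := by
    simp only [p₀, zU, ← Category.assoc, ← Spec.map_comp]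
    rw [show triStr A ≫ collapse A = triStr A from triLift_str A _ _ _]
  let j₁ : mk2 zU ⟶ mk2 zC := hom2 jl hjl
  let j₂ : mk2 zU ⟶ mk2 zC := hom2 jr hjr
  let v : mk2 zW ⟶ mk2 zU := hom2 O.ι rfl
  let w : ∀ i, mk2 (zp i) ⟶ mk2 zW := fun i =>
    hom2 (w₀ i) (by simp only [zW, zp]; rw [← Category.assoc, hw₀])
  have : IsOpenImmersion j₁.left.left := hl
  have : IsOpenImmersion j₂.left.left := hr
  have : IsOpenImmersion v.left.left := inferInstanceAs (IsOpenImmersion O.ι)
  have : ∀ i, IsOpenImmersion (w i).left.left := fun i => hw₀' i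
  let oU : overTop T ⟶ mk2 zU := Over.homMk
    (Over.homMk (o₀ ≫ Spec.map (triAxis A 0)) (by
      change (o₀ ≫ Spec.map (triAxis A 0)) ≫ zU ≫ T.hom = T.hom
      rw [← Category.assoc, Category.assoc o₀, hax, ho₀, Category.id_comp]))
    (Over.OverMorphism.ext (by
      change (o₀ ≫ Spec.map (triAxis A 0)) ≫ zU = 𝟙 _
      rw [Category.assoc, hax, ho₀]))
  refine ⟨{
    toDouble := {
      C := mk2 zC, U := mk2 zU, W := mk2 zW
      j₁ := j₁, j₂ := j₂, mono₁ := mono_of_left _, mono₂ := mono_of_left _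
      cov := sieve2_mem _ _ hcovC
      v := v, monov := mono_of_left _
      glue := Over.OverMorphism.ext (Over.OverMorphism.ext hglue)
      overlap := ?_ }
    Wp := fun i => mk2 (zp i), w := w, monow := fun i => mono_of_left _
    covW := sieveFam_mem _ hcovO
    disjW := fun i i' hii {V} u u' h => isEmpty_of_disjoint _ _ ?_ u u' h
    A := mk2 zA
    la := fun i => hom2 (Spec.map (triAxis A i)) (hax i)
    o := Over.homMk (Over.homMk o₀ (by
        change o₀ ≫ zA ≫ T.hom = T.hom
        rw [← Category.assoc, ho₀, Category.id_comp]))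
      (Over.OverMorphism.ext ho₀)
    oU := oU
    ho := fun i => Over.OverMorphism.ext (Over.OverMorphism.ext ?_)
    D := mk2 (Spec.map (punct A) ≫ zA)
    d := hom2 (Spec.map (punct A)) rfl
    dense := isSchemeTheoreticallyDominant_specMap _ (punct_injective A)
    dp := fun i => hom2 (Spec.map (pu i)) (by
      simp only [zp, u₀]
      rw [← Category.assoc, ← Spec.map_comp, hpu, Spec.map_comp, Category.assoc, hax])
    hdp := fun i => Over.OverMorphism.ext (Over.OverMorphism.ext ?_)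
    merge := fun π => {
      rC := hom2 (rC₀ π) (pushout.hom_ext
        (by rw [pushout.inl_desc_assoc, Category.assoc, hjl, hrz])
        (by rw [pushout.inr_desc_assoc, Category.assoc, hjr, hrz]))
      rU := hom2 (rU₀ π) (hrz π)
      rW := hom2 (rW₀ π) (by simp only [zW]; rw [← Category.assoc, hrW, Category.assoc, hrz])
      h₁ := Over.OverMorphism.ext (Over.OverMorphism.ext (pushout.inl_desc _ _ _).symm)
      h₂ := Over.OverMorphism.ext (Over.OverMorphism.ext (pushout.inr_desc _ _ _).symm)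
      hv := Over.OverMorphism.ext (Over.OverMorphism.ext (hrW π)) }
    merge_fix := fun π i h => Over.OverMorphism.ext (Over.OverMorphism.ext ?_)
    merge_piece := fun π i => ⟨hom2 (Spec.map (qr π i)) (by
        simp only [zp]; rw [← Category.assoc, ← hq, Category.assoc, hrz]),
      Over.OverMorphism.ext (Over.OverMorphism.ext ?_)⟩
    p := hom2 p₀ hp₀
    hp := fun i h => Over.OverMorphism.ext (Over.OverMorphism.ext ?_)
    hp_one := Over.OverMorphism.ext (Over.OverMorphism.ext ?_) }⟩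
  · intro V u u' h
    have h' : u.left ≫ jl = u'.left ≫ jr := congrArg Over.Hom.left h
    have hr' : Set.range u.left ⊆ Set.range O.ι := by
      rintro _ ⟨x, rfl⟩
      rw [Scheme.Opens.range_ι]
      exact hinter _ (u'.left x) (congrArg (fun f : V.left ⟶ C => f x) h')
    have hw := IsOpenImmersion.lift_fac O.ι u.left hr'
    have hw' : IsOpenImmersion.lift O.ι u.left hr' ≫ O.ι = u'.left := by
      rw [← cancel_mono jr, Category.assoc, ← hglue, ← Category.assoc, hw]
      exact h'
    exact ⟨Over.homMk (IsOpenImmersion.lift O.ι u.left hr') (by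
      change _ ≫ (O.ι ≫ zU) ≫ T.hom = _
      rw [Category.assoc, ← Category.assoc, hw]
      exact Over.w u), Over.OverMorphism.ext hw, Over.OverMorphism.ext hw'⟩
  · refine Set.disjoint_left.2 ?_
    rintro _ ⟨a, rfl⟩ ⟨b, hb⟩
    have h1 : u₀ i a = u₀ i' b := by
      rw [← hw₀ i, ← hw₀ i', Scheme.Hom.comp_apply, Scheme.Hom.comp_apply]
      exact congrArg _ hb.symm
    have ha : u₀ i a ∈ Set.range (u₀ i) := ⟨a, rfl⟩
    have hb' : u₀ i a ∈ Set.range (u₀ i') := ⟨b, h1.symm⟩
    rw [hrange] at ha hb'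
    have h2 : u₀ i a ∈ Bo i ⊓ Bo i' := ⟨ha, hb'⟩
    simp only [Bo] at h2
    rw [← PrimeSpectrum.basicOpen_mul, tc_mul A hii, PrimeSpectrum.basicOpen_zero] at h2
    exact h2.elim
  · change o₀ ≫ Spec.map (triAxis A i) = o₀ ≫ Spec.map (triAxis A 0)
    simp only [o₀, Category.assoc, ← Spec.map_comp]
    exact congrArg (fun f => T.left.isoSpec.hom ≫ Spec.map f) (triAxis_origin A i)
  · change Spec.map (punct A) ≫ Spec.map (triAxis A i) = Spec.map (pu i) ≫ w₀ i ≫ O.ι
    rw [hw₀, ← Spec.map_comp, ← hpu i, Spec.map_comp]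
  · change w₀ i ≫ rW₀ π = w₀ i
    rw [← cancel_mono O.ι, Category.assoc, hrW, ← Category.assoc, hw₀]
    simp only [u₀, rU₀]
    rw [← Spec.map_comp, remap_toLoc_fix A π i h]
  · change w₀ i ≫ rW₀ π = Spec.map (qr π i) ≫ w₀ (π i)
    rw [← cancel_mono O.ι, Category.assoc, hrW, ← Category.assoc, hw₀, Category.assoc, hw₀, hq]
  · change (w₀ i ≫ O.ι) ≫ p₀ = w₀ i ≫ O.ι
    rw [hw₀]
    simp only [u₀, p₀]
    rw [← Spec.map_comp, collapse_toLoc A h]
  · change (w₀ 1 ≫ O.ι) ≫ p₀ = zp 1 ≫ o₀ ≫ Spec.map (triAxis A 0)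
    rw [hw₀]
    simp only [u₀, p₀, zp, zU, o₀, Category.assoc, Iso.inv_hom_id_assoc]
    simp only [← Spec.map_comp]
    rw [collapse_toLoc_one]
    simp only [Category.assoc]

end Groth.Agent.IsoCls
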