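import Groth.Agent.IsoCls.VTransfer
import Groth.Agent.IsoCls.ExtEquiv

/-!
Natural maps of vertical morphisms extend to all morphisms between values of charts.
-/

set_option autoImplicit false
set_option linter.unusedVariables false
set_option backward.isDefEq.respectTransparency false
set_option backward.isDefEq.respectTransparency.types false

universe u

open CategoryTheory CategoryTheory.Limits AlgebraicGeometry Opposite FibCat
open CategoryTheory.Functor Groth.Agent.FibC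

namespace Groth.Agent.IsoCls

open Groth.Agent.StFib

variable {S : Scheme.{u}} {𝒳 𝒴 : AlgSt.Cat S} {U : Over S}
  {x : overCat U ⥤ᵇ 𝒳} {y : overCat U ⥤ᵇ 𝒴}

/-- Every morphism between values of a chart is a vertical one followed by a value. -/
theorem exists_decomp (h𝒳 : IsFibGrpd 𝒳.p) {a b : (overCat U).obj} (m : x.obj a ⟶ x.obj b) :
    ∃ (g : Over.left a ⟶ U) (α : VHom x x (Over.hom a) g) (q : Over.mk g ⟶ b),
      α.1 ≫ x.map q = m := by
  let u : Over.left a ⟶ Over.left b :=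
    eqToHom (x.w_obj a).symm ≫ 𝒳.p.map m ≫ eqToHom (x.w_obj b)
  have hu : 𝒳.p.IsHomLift u m := IsHomLift.of_fac 𝒳.p u m (x.w_obj a) (x.w_obj b) (by simp [u])
  let q : Over.mk (u ≫ Over.hom b) ⟶ b := Over.homMk u rfl
  have : 𝒳.p.IsHomLift u (x.map q) := map_lift x q
  obtain ⟨χ, hχ, -, hχ'⟩ := GalCohAux.GerbBasic.exists_fac h𝒳 u (x.map q) m
  exact ⟨_, ⟨χ, vert_of_isHomLift hχ⟩, q, hχ'⟩

theorem lift_decomp {a b : (overCat U).obj} {g : Over.left a ⟶ U} (α : VHom x x (Over.hom a) g)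
    (q : Over.mk g ⟶ b) : 𝒳.p.IsHomLift q.left (α.1 ≫ x.map q) := by
  have h := lift_comp (α.2.isHomLift (x.w_obj (Over.mk (Over.hom a)))) (map_lift x q)
  exact lift_congr (Category.id_comp _) h

/-- The decomposition is unique. -/
theorem decomp_unique (h𝒳 : IsFibGrpd 𝒳.p) {a b : (overCat U).obj} {g g' : Over.left a ⟶ U}
    {α : VHom x x (Over.hom a) g} {α' : VHom x x (Over.hom a) g'} {q : Over.mk g ⟶ b}
    {q' : Over.mk g' ⟶ b} (e : α.1 ≫ x.map q = α'.1 ≫ x.map q') (f : VMap x y) :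
    (f.app α).1 ≫ y.map q = (f.app α').1 ≫ y.map q' := by
  have hq : q.left = q'.left := lift_unique (lift_decomp α q) (e ▸ lift_decomp α' q')
  obtain rfl : g = g' := by rw [← show q.left ≫ Over.hom b = g from Over.w q, hq]; exact Over.w q'
  obtain rfl : q = q' := over_mk_ext (X := U) hq
  obtain rfl : α = α' := Subtype.ext (grpd_cancel h𝒳 (x.map q) e (by
    obtain ⟨_, h1⟩ := α.2
    obtain ⟨_, h2⟩ := α'.2
    rw [h1, h2]))
  rfl

/-- Mutually inverse natural maps give a transfer. -/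
theorem nonempty_transfer (h𝒳 : IsFibGrpd 𝒳.p) (h𝒴 : IsFibGrpd 𝒴.p) (f : VMap x y) (f' : VMap y x)
    (hl : ∀ {T : Over S} {h g : T ⟶ U} (α : VHom x x h g), f'.app (f.app α) = α)
    (hr : ∀ {T : Over S} {h g : T ⟶ U} (β : VHom y y h g), f.app (f'.app β) = β) :
    Nonempty (Transfer x y) := by
  choose g₁ α₁ q₁ he₁ using fun (a b : (overCat U).obj) (m : x.obj a ⟶ x.obj b) => exists_decomp h𝒳 m
  choose g₂ α₂ q₂ he₂ using fun (a b : (overCat U).obj) (m : y.obj a ⟶ y.obj b) => exists_decomp h𝒴 m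
  let F : ∀ a b : (overCat U).obj, (x.obj a ⟶ x.obj b) → (y.obj a ⟶ y.obj b) := fun a b m =>
    (f.app (α₁ a b m)).1 ≫ y.map (q₁ a b m)
  let G : ∀ a b : (overCat U).obj, (y.obj a ⟶ y.obj b) → (x.obj a ⟶ x.obj b) := fun a b m =>
    (f'.app (α₂ a b m)).1 ≫ x.map (q₂ a b m)
  have hF : ∀ {a b : (overCat U).obj} {g : Over.left a ⟶ U} (α : VHom x x (Over.hom a) g)
      (q : Over.mk g ⟶ b), F a b (α.1 ≫ x.map q) = (f.app α).1 ≫ y.map q := fun α q =>
    decomp_unique h𝒳 (he₁ _ _ _) f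
  have hG : ∀ {a b : (overCat U).obj} {g : Over.left a ⟶ U} (β : VHom y y (Over.hom a) g)
      (q : Over.mk g ⟶ b), G a b (β.1 ≫ y.map q) = (f'.app β).1 ≫ x.map q := fun β q =>
    decomp_unique h𝒴 (he₂ _ _ _) f'
  refine ⟨{ toEquiv := fun a b => ⟨F a b, G a b, fun m => ?_, fun m => ?_⟩
            lift := fun a b m R T k hk => ?_
            map_comp := fun a b c m n => ?_ }⟩
  · obtain ⟨g, α, q, rfl⟩ := exists_decomp h𝒳 m
    rw [hF, hG, hl]
  · obtain ⟨g, β, q, rfl⟩ := exists_decomp h𝒴 m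
    rw [hG, hF, hr]
  · obtain ⟨g, α, q, rfl⟩ := exists_decomp h𝒳 m
    obtain rfl : Over.left a = R :=
      (x.w_obj a).symm.trans (IsHomLift.domain_eq 𝒳.p k (α.1 ≫ x.map q))
    obtain rfl : Over.left b = T :=
      (x.w_obj b).symm.trans (IsHomLift.codomain_eq 𝒳.p k (α.1 ≫ x.map q))
    rw [lift_unique hk (lift_decomp α q)]
    change 𝒴.p.IsHomLift q.left (F a b _)
    rw [hF]
    exact lift_decomp (f.app α) q
  · obtain ⟨g, α, q, rfl⟩ := exists_decomp h𝒳 m
    obtain ⟨g', α', q', rfl⟩ := exists_decomp h𝒳 n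
    have eh : q.left ≫ Over.hom b = g := Over.w q
    obtain ⟨δ, hδ⟩ := exists_isRes h𝒳 q.left eh (rfl : q.left ≫ g' = _) α'
    have hδ' := f.res hδ
    obtain ⟨p, s, hp, hs, e⟩ := hδ
    obtain ⟨p', s', hp', hs', e'⟩ := hδ'
    obtain rfl : p = q := over_mk_ext (X := U) (h := Over.hom b) hp
    obtain rfl : p' = p := over_mk_ext (X := U) (h := Over.hom b) hp'
    obtain rfl : s' = s := over_mk_ext (hs'.trans hs.symm)
    have hm : (α.1 ≫ x.map p') ≫ α'.1 ≫ x.map q' = (α.1 ≫ δ.1) ≫ x.map (s' ≫ q') := by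
      rw [Category.assoc, Category.assoc, Functor.map_comp, reassoc_of% e]
    change F a c _ = F a b _ ≫ F b c _
    rw [hm, hF (⟨α.1 ≫ δ.1, α.2.comp δ.2⟩ : VHom x x (Over.hom a) _), hF, hF, f.comp,
      Functor.map_comp, Category.assoc, Category.assoc]
    rw [reassoc_of% e']

end Groth.Agent.IsoCls
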