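import Groth.Agent.IsoCls.VAut
import Groth.Agent.GalCohAux.GerbGlue

/-!
Objects over a scheme glued from two copies of `U` along `W`, and their cocycles.
-/

set_option autoImplicit false
set_option backward.isDefEq.respectTransparency false
set_option backward.isDefEq.respectTransparency.types false

universe u

open CategoryTheory CategoryTheory.Limits AlgebraicGeometry FibCat
open CategoryTheory.Functor Groth.Agent.FibC

namespace Groth.Agent.IsoCls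

variable {S : Scheme.{u}} {𝒳 : AlgSt.Cat S}

/-- A scheme `C` glued from two copies of `U` along `W`. -/
structure Double (J : GrothendieckTopology (Over S)) (T : Over S) where
  C : (overCat T).obj
  U : (overCat T).obj
  W : (overCat T).obj
  j₁ : U ⟶ C
  j₂ : U ⟶ C
  mono₁ : Mono j₁.left
  mono₂ : Mono j₂.left
  cov : sieve2 j₁.left j₂.left ∈ J C.left
  v : W ⟶ U
  monov : Mono v.left
  glue : v ≫ j₁ = v ≫ j₂
  overlap : ∀ {V : Over S} (u u' : V ⟶ U.left), u ≫ j₁.left = u' ≫ j₂.left →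
    ∃ w : V ⟶ W.left, w ≫ v.left = u ∧ w ≫ v.left = u'

variable {J : GrothendieckTopology (Over S)} {T : Over S}

/-- An object over `C` trivialised on both copies of `U`, with its transition. -/
structure Twist (L : Double J T) (X : overCat T ⥤ᵇ 𝒳) where
  z : 𝒳.obj
  hz : 𝒳.p.obj z = Over.left L.C
  f₁ : X.obj L.U ⟶ z
  f₂ : X.obj L.U ⟶ z
  hf₁ : 𝒳.p.IsHomLift L.j₁.left f₁
  hf₂ : 𝒳.p.IsHomLift L.j₂.left f₂
  σ : VA X L.W
  rel : X.map L.v ≫ f₁ = σ.hom.1 ≫ X.map L.v ≫ f₂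

variable {L : Double J T} {X : overCat T ⥤ᵇ 𝒳}

theorem v_comp_lift {y : 𝒳.obj} (f : X.obj L.U ⟶ y) {c : Over S} (j : Over.left L.U ⟶ c)
    (hf : 𝒳.p.IsHomLift j f) : 𝒳.p.IsHomLift (L.v.left ≫ j) (X.map L.v ≫ f) :=
  have := map_lift X L.v
  inferInstance

theorem vj_eq : L.v.left ≫ L.j₁.left = L.v.left ≫ L.j₂.left :=
  congrArg Over.Hom.left L.glue

/-- Cocycles give objects. -/
theorem exists_twist (h : Stk.IsStack J 𝒳) (L : Double J T) (X : overCat T ⥤ᵇ 𝒳) (σ₀ : VA X L.W) :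
    ∃ Z : Twist L X, Z.σ = σ₀ := by
  classical
  have hg : IsFibGrpd 𝒳.p := h.1
  have hXsc := preserves_overCat hg X
  have hlift : ∀ {b c : (overCat T).obj} (k : b ⟶ c), 𝒳.p.IsHomLift k.left (X.map k) :=
    fun k => map_lift X k
  let σ : X.obj L.W ⟶ X.obj L.W := σ₀.hom.1
  have hσ : 𝒳.p.IsHomLift (𝟙 (Over.left L.W)) σ := σ₀.hom.2
  have : IsIso σ := isIso_of_fibGrpd hg (𝟙 (Over.left L.W)) σ
  let g : Bool → (X.obj L.W ≅ X.obj L.W) := fun i => bif i then asIso σ else Iso.refl _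
  let δ : Bool → Bool → (X.obj L.W ⟶ X.obj L.W) := fun i i' => (g i).hom ≫ (g i').inv
  have hg1 : ∀ i, 𝒳.p.IsHomLift (𝟙 (Over.left L.W)) (g i).hom := fun i => by
    cases i
    · exact IsHomLift.id (X.w_obj L.W)
    · exact hσ
  have hδ : ∀ i i', 𝒳.p.IsHomLift (𝟙 (Over.left L.W)) (δ i i') := fun i i' => by
    have := hg1 i
    have := hg1 i'
    infer_instance
  have hδ1 : δ true false = σ := by
    change σ ≫ 𝟙 _ = σ
    rw [Category.comp_id]
  -- the cover of `C`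
  let R : Sieve (Over.left L.C) := sieve2 L.j₁.left L.j₂.left
  let j : Bool → (L.U ⟶ L.C) := fun i => bif i then L.j₁ else L.j₂
  let bb : (Stk.sieveCat R).obj → (overCat T).obj := fun a => (overMap (Over.hom L.C)).obj a.obj
  let m : ∀ (a : (Stk.sieveCat R).obj) (w : Over.left a.obj ⟶ Over.left L.W),
      w ≫ (L.v ≫ L.j₁).left = Over.hom a.obj → (bb a ⟶ L.W) := fun a w hw =>
    Over.homMk w (by
      change w ≫ Over.hom L.W = Over.hom a.obj ≫ Over.hom L.C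
      rw [← hw, Category.assoc]
      exact congrArg (w ≫ ·) (Over.w (L.v ≫ L.j₁)).symm)
  have hmonoW : Mono (L.v ≫ L.j₁).left := by
    have := L.monov
    have := L.mono₁
    rw [Over.comp_left]
    infer_instance
  have hτex : ∀ (a : (Stk.sieveCat R).obj) (i i' : Bool), ∃ t : X.obj (bb a) ⟶ X.obj (bb a),
      𝒳.p.IsHomLift (𝟙 (Over.left a.obj)) t ∧
      (∀ (w : Over.left a.obj ⟶ Over.left L.W) (hw : w ≫ (L.v ≫ L.j₁).left = Over.hom a.obj),
        t ≫ X.map (m a w hw) = X.map (m a w hw) ≫ δ i i') ∧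
      ((¬ ∃ w : Over.left a.obj ⟶ Over.left L.W, w ≫ (L.v ≫ L.j₁).left = Over.hom a.obj) →
        t = 𝟙 _) := by
    intro a i i'
    by_cases hW : ∃ w : Over.left a.obj ⟶ Over.left L.W, w ≫ (L.v ≫ L.j₁).left = Over.hom a.obj
    · obtain ⟨w, hw⟩ := hW
      have : 𝒳.p.IsHomLift w (X.map (m a w hw)) := hlift (m a w hw)
      have := hδ i i'
      have : 𝒳.p.IsHomLift w (X.map (m a w hw) ≫ δ i i') :=
        IsHomLift.comp_lift_id_right' 𝒳.p _ _ (Over.left L.W) _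
      obtain ⟨t, ht, -, ht'⟩ := GalCohAux.GerbBasic.exists_fac hg w (X.map (m a w hw))
        (X.map (m a w hw) ≫ δ i i')
      refine ⟨t, ht, fun w' hw' => ?_, fun hn => (hn ⟨w, hw⟩).elim⟩
      obtain rfl : w' = w := (cancel_mono (L.v ≫ L.j₁).left).1 (hw'.trans hw.symm)
      exact ht'
    · exact ⟨𝟙 _, IsHomLift.id (X.w_obj (bb a)), fun w hw => (hW ⟨w, hw⟩).elim, fun _ => rfl⟩
  choose τ hτv hτw hτn using hτex
  have hτext : ∀ (a : (Stk.sieveCat R).obj) (t t' : X.obj (bb a) ⟶ X.obj (bb a))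
      (w : Over.left a.obj ⟶ Over.left L.W) (hw : w ≫ (L.v ≫ L.j₁).left = Over.hom a.obj),
      𝒳.p.IsHomLift (𝟙 (Over.left a.obj)) t → 𝒳.p.IsHomLift (𝟙 (Over.left a.obj)) t' →
      t ≫ X.map (m a w hw) = t' ≫ X.map (m a w hw) → t = t' := fun a t t' w hw h1 h2 h3 => by
    have : 𝒳.p.IsStronglyCartesian w (X.map (m a w hw)) := map_sc hXsc (m a w hw)
    exact IsStronglyCartesian.ext 𝒳.p w (X.map (m a w hw)) (𝟙 (Over.left a.obj)) h3
  have hτmul : ∀ a i i' i'', τ a i i' ≫ τ a i' i'' = τ a i i'' := by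
    intro a i i' i''
    by_cases hW : ∃ w : Over.left a.obj ⟶ Over.left L.W, w ≫ (L.v ≫ L.j₁).left = Over.hom a.obj
    · obtain ⟨w, hw⟩ := hW
      have := hτv a i i'
      have := hτv a i' i''
      refine hτext a _ _ w hw inferInstance (hτv a i i'') ?_
      rw [Category.assoc, hτw a i' i'' w hw, ← Category.assoc, hτw a i i' w hw, hτw a i i'' w hw]
      simp [δ]
    · rw [hτn a i i' hW, hτn a i' i'' hW, hτn a i i'' hW, Category.comp_id]
  have hτid : ∀ a i, τ a i i = 𝟙 _ := by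
    intro a i
    by_cases hW : ∃ w : Over.left a.obj ⟶ Over.left L.W, w ≫ (L.v ≫ L.j₁).left = Over.hom a.obj
    · obtain ⟨w, hw⟩ := hW
      refine hτext a _ _ w hw (hτv a i i) (IsHomLift.id (X.w_obj (bb a))) ?_
      rw [hτw a i i w hw]
      simp [δ]
    · exact hτn a i i hW
  -- which member a test object factors through
  let Fac : (Stk.sieveCat R).obj → Bool → Prop := fun a i =>
    ∃ u : Over.left a.obj ⟶ Over.left L.U, u ≫ (j i).left = Over.hom a.obj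
  have hFac : ∀ a, ∃ i, Fac a i := fun a => by
    rcases a.property with ⟨u, hu⟩ | ⟨u, hu⟩
    · exact ⟨true, u, hu⟩
    · exact ⟨false, u, hu⟩
  choose idx hidx using hFac
  have hFacPull : ∀ {a b : (Stk.sieveCat R).obj} (_ : a ⟶ b) (i : Bool), Fac b i → Fac a i := by
    rintro a b k i ⟨u, hu⟩
    exact ⟨k.hom.left ≫ u, by rw [Category.assoc, hu]; exact Over.w k.hom⟩
  have hFacW : ∀ a (i i' : Bool), Fac a i → Fac a i' → i ≠ i' →
      ∃ w : Over.left a.obj ⟶ Over.left L.W, w ≫ (L.v ≫ L.j₁).left = Over.hom a.obj := by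
    intro a i i' hi hi' hne
    have key : ∀ u u' : Over.left a.obj ⟶ Over.left L.U, u ≫ L.j₁.left = Over.hom a.obj →
        u' ≫ L.j₂.left = Over.hom a.obj →
        ∃ w : Over.left a.obj ⟶ Over.left L.W, w ≫ (L.v ≫ L.j₁).left = Over.hom a.obj := by
      intro u u' hu hu'
      obtain ⟨w, hw, -⟩ := L.overlap u u' (hu.trans hu'.symm)
      exact ⟨w, by rw [Over.comp_left, ← Category.assoc, hw, hu]⟩
    obtain ⟨u, hu⟩ := hi
    obtain ⟨u', hu'⟩ := hi'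
    cases i <;> cases i'
    · exact (hne rfl).elim
    · exact key u' u hu' hu
    · exact key u u' hu hu'
    · exact (hne rfl).elim
  let Fk : ∀ {a b : (Stk.sieveCat R).obj}, (a ⟶ b) → (bb a ⟶ bb b) := fun k =>
    (overMap (Over.hom L.C)).map k.hom
  have hτnat : ∀ {a b : (Stk.sieveCat R).obj} (k : a ⟶ b) (i i' : Bool), Fac b i → Fac b i' →
      X.map (Fk k) ≫ τ b i i' = τ a i i' ≫ X.map (Fk k) := by
    intro a b k i i' hi hi'
    by_cases hW : ∃ w : Over.left b.obj ⟶ Over.left L.W, w ≫ (L.v ≫ L.j₁).left = Over.hom b.obj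
    · obtain ⟨w, hw⟩ := hW
      have hw' : (k.hom.left ≫ w) ≫ (L.v ≫ L.j₁).left = Over.hom a.obj := by
        rw [Category.assoc, hw]; exact Over.w k.hom
      have hcomp : Fk k ≫ m b w hw = m a (k.hom.left ≫ w) hw' := Over.OverMorphism.ext rfl
      have h1 : 𝒳.p.IsStronglyCartesian w (X.map (m b w hw)) := map_sc hXsc (m b w hw)
      have h2 : 𝒳.p.IsHomLift k.hom.left (X.map (Fk k)) := hlift (Fk k)
      have := hτv b i i'
      have := hτv a i i'
      have : 𝒳.p.IsHomLift k.hom.left (X.map (Fk k) ≫ τ b i i') :=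
        IsHomLift.comp_lift_id_right' 𝒳.p _ _ (Over.left b.obj) _
      have : 𝒳.p.IsHomLift k.hom.left (τ a i i' ≫ X.map (Fk k)) :=
        IsHomLift.comp_lift_id_left' 𝒳.p (Over.left a.obj) _ _ _
      apply IsStronglyCartesian.ext 𝒳.p w (X.map (m b w hw)) k.hom.left
      rw [Category.assoc, hτw b i i' w hw, ← Category.assoc, ← Functor.map_comp, hcomp,
        ← hτw a i i' _ hw', ← hcomp, Functor.map_comp, Category.assoc]
    · obtain rfl : i = i' := by_contra fun hne => hW (hFacW b i i' hi hi' hne)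
      rw [hτid, hτid, Category.comp_id, Category.id_comp]
  -- the descent datum
  let G₀ : (Stk.sieveCat R).obj ⥤ 𝒳.obj :=
    { obj := fun a => X.obj (bb a)
      map := fun {a b} k => τ a (idx a) (idx b) ≫ X.map (Fk k)
      map_id := fun a => by
        rw [hτid, Category.id_comp]
        change X.map ((overMap (Over.hom L.C)).map (𝟙 a.obj)) = _
        rw [CategoryTheory.Functor.map_id, CategoryTheory.Functor.map_id]
      map_comp := fun {a b c} k l => by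
        have h1 : Fk (k ≫ l) = Fk k ≫ Fk l := (overMap (Over.hom L.C)).toFunctor.map_comp _ _
        rw [h1, Functor.map_comp, Category.assoc, ← Category.assoc (X.map (Fk k)),
          hτnat k _ _ (hidx b) (hFacPull l _ (hidx c))]
        simp only [← Category.assoc]
        rw [hτmul] }
  have hG₀ : ∀ {a b : (Stk.sieveCat R).obj} (k : a ⟶ b),
      𝒳.p.IsHomLift k.hom.left (G₀.map k) := fun {a b} k => by
    have := hτv a (idx a) (idx b)
    have : 𝒳.p.IsHomLift k.hom.left (X.map (Fk k)) := hlift (Fk k)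
    exact IsHomLift.comp_lift_id_left' 𝒳.p (Over.left a.obj) _ _ _
  let Φ : Stk.sieveCat R ⥤ᵇ 𝒳 :=
    ⟨G₀, CategoryTheory.Functor.ext (fun a => X.w_obj (bb a)) (fun a b k => by
      have := hG₀ k
      exact IsHomLift.fac' 𝒳.p k.hom.left (G₀.map k))⟩
  have : (Stk.resSieve R 𝒳).IsEquivalence := h.2 R L.cov
  let Ψ := (Stk.resSieve R 𝒳).objPreimage Φ
  let ε : (Stk.resSieve R 𝒳).obj Ψ ≅ Φ := (Stk.resSieve R 𝒳).objObjPreimageIso Φ
  let ψ : ∀ a : (Stk.sieveCat R).obj, G₀.obj a ⟶ Ψ.obj (overTop (Over.left L.C)) := fun a =>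
    ε.inv.toNatTrans.app a ≫ Ψ.map (toTop a.obj)
  have hψ : ∀ a, 𝒳.p.IsHomLift (Over.hom a.obj) (ψ a) := fun a => by
    have : 𝒳.p.IsHomLift (𝟙 (Over.left a.obj)) (ε.inv.toNatTrans.app a) :=
      BasedNatTrans.app_isHomLift ε.inv a
    have : 𝒳.p.IsHomLift (Over.hom a.obj) (Ψ.map (toTop a.obj)) := map_lift Ψ (toTop a.obj)
    exact IsHomLift.comp_lift_id_left' 𝒳.p (Over.left a.obj) _ _ _
  have hψnat : ∀ {a b : (Stk.sieveCat R).obj} (k : a ⟶ b), G₀.map k ≫ ψ b = ψ a := by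
    intro a b k
    have h1 : G₀.map k ≫ ε.inv.toNatTrans.app b =
        ε.inv.toNatTrans.app a ≫ Ψ.map k.hom := ε.inv.toNatTrans.naturality k
    have h2 : k.hom ≫ toTop b.obj = toTop a.obj := Over.OverMorphism.ext (Over.w k.hom)
    simp only [ψ]
    rw [← Category.assoc, h1, Category.assoc, ← Functor.map_comp, h2]
  -- the two trivialisations
  let aI : Bool → (Stk.sieveCat R).obj := fun i => ⟨Over.mk (j i).left, by
    cases i
    · exact Or.inr ⟨𝟙 _, Category.id_comp _⟩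
    · exact Or.inl ⟨𝟙 _, Category.id_comp _⟩⟩
  let κ : ∀ i : Bool, L.U ⟶ bb (aI i) := fun i =>
    Over.homMk (𝟙 (Over.left L.U)) ((Category.id_comp _).trans (Over.w (j i)))
  let ξ' : ∀ i : Bool, X.obj (bb (aI i)) ⟶ Ψ.obj (overTop (Over.left L.C)) := fun i =>
    τ (aI i) i (idx (aI i)) ≫ ψ (aI i)
  -- the relation over `W`
  let aW : (Stk.sieveCat R).obj := ⟨Over.mk (L.v ≫ L.j₁).left,
    Or.inl ⟨L.v.left, rfl⟩⟩
  let kI : ∀ i : Bool, aW ⟶ aI i := fun i => ObjectProperty.homMk (Over.homMk L.v.left (by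
    cases i
    · exact congrArg Over.Hom.left L.glue.symm
    · rfl))
  let κW : L.W ⟶ bb aW := Over.homMk (𝟙 (Over.left L.W))
    ((Category.id_comp _).trans (Over.w (L.v ≫ L.j₁)))
  have hκ : ∀ i, κW ≫ Fk (kI i) = L.v ≫ κ i := fun i =>
    Over.OverMorphism.ext ((Category.id_comp _).trans (Category.comp_id _).symm)
  have hτW : X.map κW ≫ τ aW true false = σ ≫ X.map κW := by
    have hw : (𝟙 (Over.left L.W)) ≫ (L.v ≫ L.j₁).left = Over.hom aW.obj := Category.id_comp _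
    have hm : κW ≫ m aW _ hw = 𝟙 L.W := Over.OverMorphism.ext (Category.id_comp _)
    have : IsIso (m aW _ hw) := ⟨κW, Over.OverMorphism.ext (Category.id_comp _), hm⟩
    rw [← cancel_mono (X.map (m aW _ hw)), Category.assoc, hτw aW true false _ hw, hδ1,
      ← Category.assoc, ← Functor.map_comp, hm, CategoryTheory.Functor.map_id, Category.id_comp,
      Category.assoc, ← Functor.map_comp, hm, CategoryTheory.Functor.map_id, Category.comp_id]
  have hk : X.map (Fk (kI true)) ≫ ξ' true = τ aW true false ≫ X.map (Fk (kI false)) ≫ ξ' false := by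
    have e : ∀ i, X.map (Fk (kI i)) ≫ ξ' i = τ aW i (idx aW) ≫ ψ aW := fun i => by
      have hi : Fac (aI i) i := ⟨𝟙 _, Category.id_comp _⟩
      rw [← hψnat (kI i)]
      change X.map (Fk (kI i)) ≫ τ (aI i) i (idx (aI i)) ≫ ψ (aI i) =
        τ aW i (idx aW) ≫ (τ aW (idx aW) (idx (aI i)) ≫ X.map (Fk (kI i))) ≫ ψ (aI i)
      rw [← Category.assoc, hτnat (kI i) _ _ hi (hidx _)]
      simp only [← Category.assoc]
      rw [hτmul]
    rw [e, e, ← Category.assoc (τ aW true false), hτmul]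
  have hlifts : ∀ i, 𝒳.p.IsHomLift (j i).left (X.map (κ i) ≫ ξ' i) := fun i => by
    have : 𝒳.p.IsHomLift (𝟙 (Over.left L.U)) (X.map (κ i)) := hlift (κ i)
    have : 𝒳.p.IsHomLift (j i).left (ψ (aI i)) := hψ (aI i)
    have : 𝒳.p.IsHomLift (𝟙 (Over.left L.U)) (τ (aI i) i (idx (aI i))) :=
      hτv (aI i) i (idx (aI i))
    have : 𝒳.p.IsHomLift (j i).left (ξ' i) :=
      IsHomLift.comp_lift_id_left' 𝒳.p (Over.left L.U) _ _ _
    exact IsHomLift.comp_lift_id_left' 𝒳.p (Over.left L.U) _ _ _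
  refine ⟨⟨Ψ.obj (overTop (Over.left L.C)), Ψ.w_obj _, X.map (κ true) ≫ ξ' true,
    X.map (κ false) ≫ ξ' false, hlifts true, hlifts false, σ₀, ?_⟩, rfl⟩
  change X.map L.v ≫ X.map (κ true) ≫ ξ' true = σ ≫ X.map L.v ≫ X.map (κ false) ≫ ξ' false
  rw [← Category.assoc (X.map L.v), ← Functor.map_comp, ← hκ, Functor.map_comp, Category.assoc,
    hk, ← Category.assoc, hτW, Category.assoc, ← Category.assoc (X.map κW), ← Functor.map_comp,
    hκ, Functor.map_comp, Category.assoc]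

/-- Trivialised objects have cocycles. -/
theorem exists_twist_of_triv (h : IsFibGrpd 𝒳.p) (L : Double J T) (X : overCat T ⥤ᵇ 𝒳) {z : 𝒳.obj}
    (hz : 𝒳.p.obj z = Over.left L.C) (f₁ f₂ : X.obj L.U ⟶ z)
    (hf₁ : 𝒳.p.IsHomLift L.j₁.left f₁) (hf₂ : 𝒳.p.IsHomLift L.j₂.left f₂) :
    ∃ Z : Twist L X, Z.z = z := by
  have h1 : 𝒳.p.IsHomLift (L.v.left ≫ L.j₂.left) (X.map L.v ≫ f₁) :=
    vj_eq (L := L) ▸ v_comp_lift f₁ _ hf₁
  have h2 := v_comp_lift f₂ _ hf₂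
  obtain ⟨χ, hχ, -, hχ'⟩ := GalCohAux.GerbBasic.exists_fac h (L.v.left ≫ L.j₂.left)
    (X.map L.v ≫ f₂) (X.map L.v ≫ f₁)
  obtain ⟨σ, hσ⟩ := VA.exists_of_hom h X χ hχ
  exact ⟨⟨z, hz, f₁, f₂, hf₁, hf₂, σ, by rw [hσ]; exact hχ'.symm⟩, rfl⟩

/-- A morphism over the identity between two glued objects gives a coboundary. -/
theorem Twist.exists_coboundary (h : IsFibGrpd 𝒳.p) (Z Z' : Twist L X) (φ : Z.z ⟶ Z'.z)
    (hφ : 𝒳.p.IsHomLift (𝟙 (Over.left L.C)) φ) :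
    ∃ E₁ E₂ : VA X L.U, Z'.σ * res h X L.v E₁ = res h X L.v E₂ * Z.σ := by
  have key : ∀ {j : Over.left L.U ⟶ Over.left L.C} (f : X.obj L.U ⟶ Z.z) (f' : X.obj L.U ⟶ Z'.z),
      𝒳.p.IsHomLift j f → 𝒳.p.IsHomLift j f' → ∃ E : VA X L.U, E.hom.1 ≫ f' = f ≫ φ :=
    fun {j} f f' hf hf' => by
      have : 𝒳.p.IsHomLift j (f ≫ φ) :=
        IsHomLift.comp_lift_id_right' 𝒳.p _ _ (Over.left L.C) _
      obtain ⟨χ, hχ, -, hχ'⟩ := GalCohAux.GerbBasic.exists_fac h j f' (f ≫ φ)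
      obtain ⟨E, hE⟩ := VA.exists_of_hom h X χ hχ
      exact ⟨E, hE ▸ hχ'⟩
  obtain ⟨E₁, hE₁⟩ := key Z.f₁ Z'.f₁ Z.hf₁ Z'.hf₁
  obtain ⟨E₂, hE₂⟩ := key Z.f₂ Z'.f₂ Z.hf₂ Z'.hf₂
  refine ⟨E₁, E₂, VA.ext_of_comp h (L.v.left ≫ L.j₂.left) (X.map L.v ≫ Z'.f₂)
    (v_comp_lift _ _ Z'.hf₂) ?_⟩
  rw [VA.mul_hom, VA.mul_hom, Category.assoc, Category.assoc, ← Z'.rel, ← Category.assoc,
    res_spec, Category.assoc, hE₁, ← Category.assoc, Z.rel, Category.assoc, Category.assoc,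
    ← hE₂, ← Category.assoc (X.map L.v) E₂.hom.1, ← res_spec h, Category.assoc]

/-- A coboundary gives an isomorphism of glued objects. -/
theorem Twist.exists_hom (hP : Stk.IsPrestack J 𝒳) (Z Z' : Twist L X) (E₁ E₂ : VA X L.U)
    (hE : Z'.σ * res hP.1 X L.v E₁ = res hP.1 X L.v E₂ * Z.σ) :
    ∃ φ : Z.z ⟶ Z'.z, 𝒳.p.IsHomLift (𝟙 (Over.left L.C)) φ := by
  have hv := map_lift X L.v
  have := L.mono₁
  have := L.mono₂
  have := L.monov
  have hmain : ∀ (w : 𝒳.obj) (θ θ' : w ⟶ X.obj L.U), θ ≫ Z.f₁ = θ' ≫ Z.f₂ →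
      θ ≫ E₁.hom.1 ≫ Z'.f₁ = θ' ≫ E₂.hom.1 ≫ Z'.f₂ := by
    intro w θ θ' hθ
    have e1 := base_of_factor L.j₁.left Z.f₁ Z.hf₁ θ
    have e2 := base_of_factor L.j₂.left Z.f₂ Z.hf₂ θ'
    obtain ⟨wW, hw, -⟩ := L.overlap _ _ (by rw [e1, e2, hθ])
    have hθl : 𝒳.p.IsHomLift (𝒳.p.map θ ≫ eqToHom (X.w_obj L.U)) θ :=
      IsHomLift.of_fac 𝒳.p _ θ rfl (X.w_obj L.U) (by simp)
    obtain ⟨θw, -, hθw⟩ :=
      exists_factor' hP.1 L.v.left (X.map L.v) hv θ wW _ hθl hw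
    have h3 : θ' = θw ≫ Z.σ.hom.1 ≫ X.map L.v :=
      fac_unique hP.1 L.j₂.left Z.f₂ Z.hf₂ _ _ (by
        rw [← hθ, ← hθw]
        simp only [Category.assoc]
        rw [Z.rel])
    have hE' : (res hP.1 X L.v E₁).hom.1 ≫ Z'.σ.hom.1 = Z.σ.hom.1 ≫ (res hP.1 X L.v E₂).hom.1 :=
      congrArg (fun e => e.hom.1) hE
    rw [h3, ← hθw]
    simp only [Category.assoc]
    rw [← Category.assoc (X.map L.v) E₁.hom.1, ← res_spec hP.1, Category.assoc, Z'.rel,
      ← Category.assoc (X.map L.v) E₂.hom.1, ← res_spec hP.1 L.v E₂]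
    simp only [← Category.assoc]
    rw [Category.assoc θw, hE', ← Category.assoc]
  let f : ∀ _ : Bool, _ := fun i => bif i then L.j₁.left else L.j₂.left
  have hcov : sieveFam f ∈ J (Over.left L.C) := by
    refine J.superset_covering ?_ L.cov
    rintro V h (⟨u, hu⟩ | ⟨u, hu⟩)
    · exact ⟨true, u, hu⟩
    · exact ⟨false, u, hu⟩
  obtain ⟨φ, hφ, -⟩ := exists_glue_family hP (A := fun _ : Bool => Over.left L.U) f hcov Z.hz Z'.hz
    (fun i => bif i then Z.f₁ else Z.f₂) (fun i => by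
      cases i
      · exact Z.hf₂
      · exact Z.hf₁)
    (fun i => bif i then E₁.hom.1 ≫ Z'.f₁ else E₂.hom.1 ≫ Z'.f₂) (fun i => by
      cases i
      · exact va_comp_lift _ E₂ _ Z'.hf₂
      · exact va_comp_lift _ E₁ _ Z'.hf₁)
    (fun i i' w θ θ' hθ => by
      cases i <;> cases i'
      · obtain rfl := fac_unique hP.1 L.j₂.left Z.f₂ Z.hf₂ θ θ' hθ; rfl
      · exact (hmain w θ' θ hθ.symm).symm
      · exact hmain w θ θ' hθ
      · obtain rfl := fac_unique hP.1 L.j₁.left Z.f₁ Z.hf₁ θ θ' hθ; rfl)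
  exact ⟨φ, hφ⟩

/-- An endomorphism of the data. -/
structure Double.End (L : Double J T) where
  rC : L.C ⟶ L.C
  rU : L.U ⟶ L.U
  rW : L.W ⟶ L.W
  h₁ : rU ≫ L.j₁ = L.j₁ ≫ rC
  h₂ : rU ≫ L.j₂ = L.j₂ ≫ rC
  hv : rW ≫ L.v = L.v ≫ rU

/-- Pullback of a glued object. -/
theorem Twist.exists_pullback (h : IsFibGrpd 𝒳.p) (R : L.End) (Z : Twist L X) :
    ∃ (Z' : Twist L X) (b : Z'.z ⟶ Z.z), 𝒳.p.IsHomLift R.rC.left b ∧
      Z'.σ = res h X R.rW Z.σ := by
  obtain ⟨z', b, hb⟩ := h.exists_lift (R.rC.left ≫ eqToHom Z.hz.symm)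
  have hb' : 𝒳.p.IsHomLift R.rC.left b := (IsHomLift.lift_comp_eqToHom_iff 𝒳.p _ b _).1 hb
  have hz' : 𝒳.p.obj z' = Over.left L.C := IsHomLift.domain_eq 𝒳.p R.rC.left b
  have key : ∀ (j : L.U ⟶ L.C) (f : X.obj L.U ⟶ Z.z), 𝒳.p.IsHomLift j.left f →
      R.rU ≫ j = j ≫ R.rC →
      ∃ g : X.obj L.U ⟶ z', 𝒳.p.IsHomLift j.left g ∧ g ≫ b = X.map R.rU ≫ f := by
    intro j f hf hj
    have := map_lift X R.rU
    have hl : 𝒳.p.IsHomLift (R.rU.left ≫ j.left) (X.map R.rU ≫ f) := inferInstance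
    exact exists_factor' h R.rC.left b hb' (X.map R.rU ≫ f) j.left _ hl
      (congrArg Over.Hom.left hj).symm
  obtain ⟨g₁, hg₁, hg₁'⟩ := key L.j₁ Z.f₁ Z.hf₁ R.h₁
  obtain ⟨g₂, hg₂, hg₂'⟩ := key L.j₂ Z.f₂ Z.hf₂ R.h₂
  refine ⟨⟨z', hz', g₁, g₂, hg₁, hg₂, res h X R.rW Z.σ, ?_⟩, b, hb', rfl⟩
  have := sc_of_fibGrpd h R.rC.left b
  have h1 : 𝒳.p.IsHomLift (L.v.left ≫ L.j₂.left) (X.map L.v ≫ g₁) :=
    vj_eq (L := L) ▸ v_comp_lift g₁ _ hg₁
  have h2 : 𝒳.p.IsHomLift (L.v.left ≫ L.j₂.left)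
      ((res h X R.rW Z.σ).hom.1 ≫ X.map L.v ≫ g₂) :=
    va_comp_lift _ _ _ (v_comp_lift g₂ _ hg₂)
  apply IsStronglyCartesian.ext 𝒳.p R.rC.left b (L.v.left ≫ L.j₂.left)
  simp only [Category.assoc]
  rw [hg₁', hg₂', ← Category.assoc, ← Functor.map_comp, ← R.hv, Functor.map_comp, Category.assoc,
    Z.rel, ← Category.assoc (X.map R.rW), ← res_spec h, Category.assoc,
    ← Category.assoc (X.map R.rW) (X.map L.v), ← Functor.map_comp, R.hv, Functor.map_comp,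
    Category.assoc]

end Groth.Agent.IsoCls
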