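import Groth.Agent.IsoCls.KernelTrans
import Groth.Agent.IsoCls.SmoothChart
import Groth.Agent.AlgSp.InfCharts
import Groth.Agent.StFib.UnramifiedLifts
import Groth.Agent.StFib.Props2

/-!
Unramifiedness of charts is detected by isomorphism classes.
-/

set_option autoImplicit false
set_option linter.unusedVariables false
set_option backward.isDefEq.respectTransparency false
set_option backward.isDefEq.respectTransparency.types false

universe u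

open CategoryTheory CategoryTheory.Limits AlgebraicGeometry Opposite FibCat
open Groth.Agent.FibC

namespace Groth.Agent.IsoCls

open Groth.Agent.StFib

variable {S : Scheme.{u}} {𝒳 𝒴 : AlgSt.Cat S} {U V : Over S}

theorem isRes_refl {P : overCat V ⥤ᵇ 𝒳} {Q : overCat U ⥤ᵇ 𝒳} {T : Over S} {h : T ⟶ V} {g : T ⟶ U}
    (β : VHom P Q h g) : IsRes (𝟙 T) β β :=
  ⟨𝟙 _, 𝟙 _, rfl, rfl, by
    rw [CategoryTheory.Functor.map_id, CategoryTheory.Functor.map_id, Category.comp_id,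
      Category.id_comp]⟩

/-- An open covering gives a covering sieve. -/
theorem sieveFamU_mem {ι : Type u} {T : Over S} {A : ι → Over S} (f : ∀ i, A i ⟶ T)
    [∀ i, IsOpenImmersion (f i).left] (hsurj : ∀ t : T.left, ∃ i, t ∈ Set.range (f i).left) :
    sieveFam f ∈ AlgSp.J S T := by
  refine Groth.Agent.AlgSp.mem_of_cover
    (R := Presieve.ofArrows (fun i => (A i).left) fun i => (f i).left) ?_ ?_
  · refine Scheme.zariskiPrecoverage_le_fppfPrecoverage _ ?_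
    rw [Scheme.ofArrows_mem_precoverage_iff]
    exact ⟨hsurj, fun i => inferInstance⟩
  · rintro W k ⟨i⟩
    exact ⟨i, Over.homMk (𝟙 (A i).left)
      ((Category.id_comp _).trans (Over.w (f i)).symm), Over.OverMorphism.ext (Category.id_comp _)⟩

/-- Unramified morphisms of spaces are formally unramified. -/
theorem formallyUnramified_of_locP {F G : AlgSp.Sp S} (hF : AlgSp.IsAlgSpace F)
    (hG : AlgSp.IsAlgSpace G) {f : F ⟶ G}
    (hf : AlgSp.LocP (@LocallyOfFiniteType ⊓ @FormallyUnramified) f) :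
    AlgSp.IsFormallyUnramifiedMor f := by
  obtain ⟨U, V, a, b, h, ha, has, hb, -, w⟩ := Groth.Agent.AlgSp.InfCharts.exists_chart hF hG f
  exact Groth.Agent.AlgSp.InfCharts.formallyUnramified_of_chart ha has hb w (hf a b h ha hb w).2

/-- Vertical morphisms agreeing on a square-zero closed subscheme agree when one chart is
unramified. -/
theorem vhom_ext_of_unramified (h𝒳 : IsFibGrpd 𝒳.p) {P : overCat V ⥤ᵇ 𝒳} {Q : overCat U ⥤ᵇ 𝒳}
    (hQ : AlgSt.RepByAlgSpWith (AlgSp.LocP (@LocallyOfFiniteType ⊓ @FormallyUnramified)) Q)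
    {A : Type u} [CommRing A] (I : Ideal A) (hI : I ^ 2 = ⊥) {str : Spec (CommRingCat.of A) ⟶ S}
    {h : Over.mk str ⟶ V} {g g' : Over.mk str ⟶ U} {β : VHom P Q h g} {β' : VHom P Q h g'}
    {h₀ : Over.mk (Spec.map (CommRingCat.ofHom (Ideal.Quotient.mk I)) ≫ str) ⟶ V}
    {g₀ : Over.mk (Spec.map (CommRingCat.ofHom (Ideal.Quotient.mk I)) ≫ str) ⟶ U}
    {β₀ : VHom P Q h₀ g₀} (k : Over.mk (Spec.map (CommRingCat.ofHom (Ideal.Quotient.mk I)) ≫ str) ⟶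
      Over.mk str) (hk : k.left = Spec.map (CommRingCat.ofHom (Ideal.Quotient.mk I)))
    (r : IsRes k β₀ β) (r' : IsRes k β₀ β') :
    (⟨g, β⟩ : Σ g, VHom P Q h g) = ⟨g', β'⟩ := by
  obtain ⟨F, e, he, ha⟩ := hQ V P
  obtain ⟨ev, hev, hnat⟩ := exists_pairDict h𝒳 P Q F e he
  let a := AlgSt.spMapOfOver (BasedFunctor.comp e (fpFst P Q))
  obtain ⟨l, hl⟩ := (hev h).2 ⟨g, β⟩
  obtain ⟨l', hl'⟩ := (hev h).2 ⟨g', β'⟩
  obtain ⟨r₀, hr₀⟩ := (hev h₀).2 ⟨g₀, β₀⟩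
  have hkh : k ≫ h = h₀ := r.left_eq
  have key : ∀ (m : Sec a (Over.mk h)) {g₁ : Over.mk str ⟶ U} (β₁ : VHom P Q h g₁), ev h m = ⟨g₁, β₁⟩ →
      IsRes k β₀ β₁ → (AlgSp.yon S).map k ≫ m.1 = r₀.1 := by
    intro m g₁ β₁ hm hres
    let m₀ : Sec a (Over.mk h₀) := ⟨(AlgSp.yon S).map k ≫ m.1, by
      rw [Category.assoc, m.2, ← Functor.map_comp]; exact congrArg _ hkh⟩
    have e1 := hnat k h h₀ m m₀ hkh rfl
    rw [hm] at e1
    obtain ⟨g₂, β₂, h2⟩ : ∃ g₂ β₂, ev h₀ m₀ = ⟨g₂, β₂⟩ := ⟨_, _, rfl⟩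
    rw [h2] at e1
    obtain rfl : g₀ = g₂ := hres.right_eq.symm.trans e1.right_eq
    exact congrArg Subtype.val ((hev h₀).1 (h2.trans
      ((congrArg (Sigma.mk g₀) (e1.unique h𝒳 hres)).trans hr₀.symm)) : m₀ = r₀)
  have hll : l.1 = l'.1 := by
    have hjk : (Over.homMk (Spec.map (CommRingCat.ofHom (Ideal.Quotient.mk I))) rfl :
        Over.mk (Spec.map (CommRingCat.ofHom (Ideal.Quotient.mk I)) ≫ str) ⟶ Over.mk str) = k :=
      Over.OverMorphism.ext hk.symm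
    refine formallyUnramified_of_locP F.property (isAlgSpace_yon V) ha
      { A := A, I := I, sq_zero := hI, str := str, top := r₀.1, bot := (AlgSp.yon S).map h
        comm := by rw [hjk, ← Functor.map_comp]; exact r₀.2.trans (congrArg _ hkh.symm) }
      l.1 l'.1 ?_ l.2 ?_ l'.2
    · change (AlgSp.yon S).map (Over.homMk _ rfl) ≫ l.1 = r₀.1
      rw [hjk]
      exact key l β hl r
    · change (AlgSp.yon S).map (Over.homMk _ rfl) ≫ l'.1 = r₀.1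
      rw [hjk]
      exact key l' β' hl' r'
  rw [← hl, ← hl', show l = l' from Subtype.ext hll]

section retraction

variable {A : Type u} [CommRing A] (I : Ideal A) (hI : I ^ 2 = ⊥) (str : Spec (CommRingCat.of A) ⟶ S)
  (rT : Over.mk str ⟶ Over.mk (Spec.map (CommRingCat.ofHom (Ideal.Quotient.mk I)) ≫ str))
  (j : Over.mk (Spec.map (CommRingCat.ofHom (Ideal.Quotient.mk I)) ≫ str) ⟶ Over.mk str)
  (hj : j.left = Spec.map (CommRingCat.ofHom (Ideal.Quotient.mk I)))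
  (hjr : j ≫ rT = 𝟙 _)

include hI hj hjr in
/-- Infinitesimal automorphisms of a constant object at a point of a chart are trivial when the
corresponding chart is unramified. -/
theorem aut_eq_id_of_corr (h𝒳 : Stk.IsStack (AlgSp.J S) 𝒳) (h𝒴 : Stk.IsStack (AlgSp.J S) 𝒴)
    (hd𝒴 : AlgSt.RepByAlgSpWith (AlgSp.RepWith @IsClosedImmersion) (diag (diag (toSelf 𝒴))))
    (φ : IsoNat.FIso 𝒳 𝒴) {x : overCat U ⥤ᵇ 𝒳} {y : overCat U ⥤ᵇ 𝒴}
    (hxy : φ.toEquiv U (IsoNat.cls (vfib x (overTop U))) = IsoNat.cls (vfib y (overTop U)))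
    (hx : AlgSt.RepByAlgSpWith (AlgSp.LocP (@LocallyOfFiniteType ⊓ @FormallyUnramified)) x)
    {g : Over.mk str ⟶ U} {g₀ : Over.mk (Spec.map (CommRingCat.ofHom (Ideal.Quotient.mk I)) ≫ str) ⟶ U}
    (hg : g = (𝟙 _ ≫ rT) ≫ g₀) (δ : VHom y y g g)
    (hδ : IsRes j (⟨𝟙 _, Vert.id _⟩ : VHom y y g₀ g₀) δ) : δ.1 = 𝟙 _ := by
  subst hg
  let T : Over S := Over.mk str
  let T₀ : Over S := Over.mk (Spec.map (CommRingCat.ofHom (Ideal.Quotient.mk I)) ≫ str)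
  have : IsAffine T.left := inferInstanceAs (IsAffine (Spec (CommRingCat.of A)))
  let X := BasedFunctor.comp (AlgSt.overMap g₀) x
  let Y := BasedFunctor.comp (AlgSt.overMap g₀) y
  obtain ⟨a, ha⟩ := VA.exists_of_hom h𝒴.1 Y (b := (Over.map rT).obj (overTop T)) δ.1
    (δ.2.isHomLift (Y.w_obj ((Over.map rT).obj (overTop T))))
  let s : overTop T₀ ⟶ (Over.map rT).obj (overTop T) := Over.homMk j (by
    change j ≫ 𝟙 _ ≫ rT = 𝟙 _
    rw [Category.id_comp, hjr])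
  have hs : res h𝒴.1 Y s a = 1 := by
    refine res_eq h𝒴.1 s ?_
    obtain ⟨p, q, hp, hq, e⟩ := hδ
    have hp' : p.left = j := hp
    rw [VA.one_hom, Category.id_comp, ha]
    let c : (Over.map g₀).obj (overTop T₀) ⟶ Over.mk g₀ := Over.homMk (𝟙 _) (by
      change 𝟙 _ ≫ g₀ = 𝟙 _ ≫ g₀
      rfl)
    have e1 : (Over.map g₀).map s = c ≫ p :=
      Over.OverMorphism.ext ((Category.id_comp _).trans hp').symm
    have e2 : q = p := Over.OverMorphism.ext (hq.trans hp.symm)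
    rw [e2] at e
    have e' : y.map p = y.map p ≫ δ.1 := (Category.id_comp _).symm.trans e
    change y.map ((Over.map g₀).map s) = y.map ((Over.map g₀).map s) ≫ δ.1
    rw [e1, Functor.map_comp, Category.assoc, ← e']
  have hcls : φ.toEquiv T₀ (IsoNat.cls (vfib X (overTop T₀))) =
      IsoNat.cls (vfib Y (overTop T₀)) :=
    corr_chart_obj h𝒴.1 φ x y hxy ((AlgSt.overMap g₀).obj (overTop T₀))
  have hP𝒳 := StkLib.isPrestack_of_isStack h𝒳
  have h1 := eq_one_of_kernel_trivial j rT hjr h𝒳 h𝒴 hd𝒴 φ (X := X) (Y := Y) hcls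
    (fun b e he => ?_) a s rfl hs
  · rw [← ha, h1]
    rfl
  -- triviality upstairs
  let 𝒰 := (Over.left b).left.affineCover
  let bW : ∀ i, (overCat T).obj := fun i =>
    Over.mk ((Over.homMk (𝒰.f i) rfl : Over.mk (𝒰.f i ≫ (Over.left b).hom) ⟶ Over.left b) ≫ Over.hom b)
  let w : ∀ i, bW i ⟶ b := fun i => Over.homMk (Over.homMk (𝒰.f i) rfl)
  have : ∀ i, IsOpenImmersion ((Over.map rT).map (w i)).left.left := fun i =>
    inferInstanceAs (IsOpenImmersion (𝒰.f i))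
  refine va_ext_of_cover hP𝒳 (fun i => (Over.map rT).map (w i))
    (sieveFamU_mem (fun i => ((Over.map rT).map (w i)).left) fun t => ⟨𝒰.idx t, 𝒰.covers t⟩) fun i => ?_
  rw [map_one]
  let ei := res h𝒳.1 X ((Over.map rT).map (w i)) e
  change ei = 1
  -- on an affine piece
  let B : CommRingCat.{u} := Γ(𝒰.X i, ⊤)
  let iso := (𝒰.X i).isoSpec
  let fB : Spec B ⟶ Spec (CommRingCat.of A) := iso.inv ≫ (Over.hom (bW i)).left
  obtain ⟨ψ, hψ⟩ := Spec.map_surjective fB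
  let J : Ideal B := I.map ψ.hom
  have hJ : J ^ 2 = ⊥ := by rw [← Ideal.map_pow, hI, Ideal.map_bot]
  let strB : Spec B ⟶ S := fB ≫ str
  let W : Over S := Over.mk strB
  let tW : W ⟶ Over.left (bW i) := Over.homMk iso.inv (by
    change iso.inv ≫ 𝒰.f i ≫ (Over.left b).hom = fB ≫ str
    simp only [fB, Category.assoc]
    exact congrArg (iso.inv ≫ ·) (Over.w (Over.hom (bW i))).symm)
  let W₀ : Over S := Over.mk (Spec.map (CommRingCat.ofHom (Ideal.Quotient.mk J)) ≫ strB)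
  let kW : W₀ ⟶ W := Over.homMk (Spec.map (CommRingCat.ofHom (Ideal.Quotient.mk J))) rfl
  let bW' : (overCat T₀).obj := Over.mk (tW ≫ Over.hom ((Over.map rT).obj (bW i)))
  let t' : bW' ⟶ (Over.map rT).obj (bW i) := Over.homMk tW rfl
  let bW₀ : (overCat T₀).obj := Over.mk (kW ≫ Over.hom bW')
  let k₀ : bW₀ ⟶ bW' := Over.homMk kW rfl
  let e' := res h𝒳.1 X t' ei
  have he' : res h𝒳.1 X k₀ e' = 1 := by
    refine (res_res h𝒳.1 _ _ _).trans ((res_res h𝒳.1 _ _ _).trans (he bW₀ _ ?_))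
    obtain ⟨ψ₀, hψ₀⟩ : ∃ ψ₀ : CommRingCat.of (A ⧸ I) ⟶ CommRingCat.of (B ⧸ J),
        CommRingCat.ofHom (Ideal.Quotient.mk I) ≫ ψ₀ = ψ ≫ CommRingCat.ofHom (Ideal.Quotient.mk J) :=
      ⟨CommRingCat.ofHom (Ideal.quotientMap J ψ.hom Ideal.le_comap_map), by ext; rfl⟩
    have hm : Spec.map ψ₀ ≫ Spec.map (CommRingCat.ofHom (Ideal.Quotient.mk I)) =
        Spec.map (CommRingCat.ofHom (Ideal.Quotient.mk J)) ≫ fB := by
      rw [← Spec.map_comp, hψ₀, Spec.map_comp, hψ]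
    refine ⟨Over.homMk (Spec.map ψ₀) ?_, Over.OverMorphism.ext ?_⟩
    · change Spec.map ψ₀ ≫ Spec.map _ ≫ str = Spec.map _ ≫ fB ≫ str
      rw [← Category.assoc, hm, Category.assoc]
    · change ((Spec.map _ ≫ iso.inv) ≫ 𝒰.f i) ≫ (Over.hom b).left = Spec.map ψ₀ ≫ j.left
      rw [hj, hm]
      simp only [fB, Category.assoc]
      rfl
  -- as vertical morphisms into `x`
  let hW : W ⟶ T₀ := Over.hom bW'
  let β : VHom X x hW (hW ≫ g₀) := ⟨e'.hom.1, vert_of_isHomLift (R := W) e'.hom.2⟩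
  let β₁ : VHom X x hW (hW ≫ g₀) := ⟨𝟙 _, Vert.id _⟩
  let β₀ : VHom X x (kW ≫ hW) ((kW ≫ hW) ≫ g₀) := ⟨𝟙 _, Vert.id _⟩
  let q : Over.mk ((kW ≫ hW) ≫ g₀) ⟶ Over.mk (hW ≫ g₀) := Over.homMk kW (by simp)
  have hq : q = (Over.map g₀).map k₀ := Over.OverMorphism.ext rfl
  have hr : IsRes kW β₀ β := by
    refine ⟨k₀, q, rfl, rfl, ?_⟩
    have h2 := res_spec h𝒳.1 k₀ e'
    rw [he', VA.one_hom, Category.id_comp] at h2
    change 𝟙 _ ≫ x.map q = x.map ((Over.map g₀).map k₀) ≫ e'.hom.1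
    rw [hq, Category.id_comp]
    exact h2
  have hr₁ : IsRes kW β₀ β₁ := ⟨k₀, q, rfl, rfl, by
    change 𝟙 _ ≫ x.map q = x.map ((Over.map g₀).map k₀) ≫ 𝟙 _
    rw [hq, Category.id_comp, Category.comp_id]⟩
  have h3 := vhom_ext_of_unramified h𝒳.1 hx J hJ kW rfl hr hr₁
  have he1 : e' = 1 := VA.ext (X := X)
    (congrArg Subtype.val (eq_of_heq (Sigma.mk.inj h3).2) :)
  -- back to the piece
  let tW' : Over.left (bW i) ⟶ W := Over.homMk iso.hom (by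
    change iso.hom ≫ fB ≫ str = 𝒰.f i ≫ (Over.left b).hom
    simp only [fB, Category.assoc, Iso.hom_inv_id_assoc]
    exact Over.w (Over.hom (bW i)))
  have htt : tW' ≫ tW = 𝟙 _ := Over.OverMorphism.ext iso.hom_inv_id
  let u : (Over.map rT).obj (bW i) ⟶ bW' := Over.homMk tW' (by
    change tW' ≫ tW ≫ _ = _
    rw [← Category.assoc, htt]
    exact Category.id_comp _)
  have h4 : u ≫ t' = 𝟙 _ := Over.OverMorphism.ext htt
  rw [← res_id h𝒳.1 ei, ← res_congr h𝒳.1 h4, ← res_res, show res h𝒳.1 X t' ei = 1 from he1, map_one]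

include hI hj hjr in
/-- Vertical morphisms at constant points are determined on the closed subscheme. -/
theorem vhom_eq_of_corr (h𝒳 : Stk.IsStack (AlgSp.J S) 𝒳) (h𝒴 : Stk.IsStack (AlgSp.J S) 𝒴)
    (hd𝒴 : AlgSt.RepByAlgSpWith (AlgSp.RepWith @IsClosedImmersion) (diag (diag (toSelf 𝒴))))
    (φ : IsoNat.FIso 𝒳 𝒴) {x : overCat U ⥤ᵇ 𝒳} {y : overCat U ⥤ᵇ 𝒴} {v : overCat V ⥤ᵇ 𝒴}
    (hxy : φ.toEquiv U (IsoNat.cls (vfib x (overTop U))) = IsoNat.cls (vfib y (overTop U)))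
    (hx : AlgSt.RepByAlgSpWith (AlgSp.LocP (@LocallyOfFiniteType ⊓ @FormallyUnramified)) x)
    {h : Over.mk str ⟶ V} {h₀ : Over.mk (Spec.map (CommRingCat.ofHom (Ideal.Quotient.mk I)) ≫ str) ⟶ V}
    (hh : rT ≫ h₀ = h) {g g' : Over.mk str ⟶ U}
    {g₀ : Over.mk (Spec.map (CommRingCat.ofHom (Ideal.Quotient.mk I)) ≫ str) ⟶ U}
    {β : VHom v y h g} {β' : VHom v y h g'} {β₀ : VHom v y h₀ g₀}
    (r : IsRes j β₀ β) (r' : IsRes j β₀ β') : (⟨g, β⟩ : Σ g, VHom v y h g) = ⟨g', β'⟩ := by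
  let gc := (𝟙 _ ≫ rT) ≫ g₀
  obtain ⟨βc, hβc⟩ := exists_isRes h𝒴.1 rT hh (show rT ≫ g₀ = gc by simp [gc]) β₀
  have hc : IsRes j β₀ βc := by
    obtain ⟨b1, hb1⟩ := exists_isRes h𝒴.1 j r.left_eq
      (show j ≫ gc = g₀ by simp only [gc, Category.id_comp]; rw [← Category.assoc, hjr, Category.id_comp]) βc
    have h2 := hb1.trans hβc
    rw [hjr] at h2
    rwa [h2.unique h𝒴.1 (isRes_refl β₀)] at hb1
  suffices key : ∀ (g : Over.mk str ⟶ U) (β : VHom v y h g), IsRes j β₀ β →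
      (⟨g, β⟩ : Σ g, VHom v y h g) = ⟨gc, βc⟩ from (key g β r).trans (key g' β' r').symm
  intro g β r
  subst hh
  -- the point is constant
  obtain ⟨z, hz⟩ := exists_corr_chart h𝒳.1 (fisoSymm h𝒳.1 h𝒴.1 φ)
    (BasedFunctor.comp (AlgSt.overMap h₀) v)
  have hz' : φ.toEquiv _ (IsoNat.cls (vfib z (overTop _))) =
      IsoNat.cls (vfib (BasedFunctor.comp (AlgSt.overMap h₀) v) (overTop _)) :=
    ((Equiv.symm_apply_eq _).1 hz).symm
  obtain ⟨α⟩ := (vhom_of_corr h𝒳.1 h𝒴.1 φ hz' hxy rT g).2 ⟨β⟩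
  obtain ⟨α₀, hα₀⟩ := exists_isRes h𝒳.1 j hjr r.right_eq α
  obtain ⟨αc, hαc⟩ := exists_isRes h𝒳.1 rT (Category.comp_id rT)
    (show rT ≫ g₀ = gc by simp [gc]) α₀
  have hα : IsRes j α₀ αc := by
    obtain ⟨b1, hb1⟩ := exists_isRes h𝒳.1 j hjr
      (show j ≫ gc = g₀ by simp only [gc, Category.id_comp]; rw [← Category.assoc, hjr, Category.id_comp]) αc
    have h2 := hb1.trans hαc
    rw [hjr] at h2
    rwa [h2.unique h𝒳.1 (isRes_refl α₀)] at hb1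
  obtain rfl : g = gc := (Sigma.mk.inj (vhom_ext_of_unramified h𝒳.1 hx I hI j hj hα₀ hα)).1
  -- the difference is trivial
  refine congrArg (Sigma.mk gc) ?_
  let δ : VHom y y gc gc := ⟨(βc.inv h𝒴.1).1 ≫ β.1, (βc.inv h𝒴.1).2.comp β.2⟩
  have hδ₀ : IsRes j (⟨𝟙 _, Vert.id _⟩ : VHom y y g₀ g₀) δ := by
    have h1 := (hc.inv h𝒴.1).comp r
    rwa [show (⟨(β₀.inv h𝒴.1).1 ≫ β₀.1, (β₀.inv h𝒴.1).2.comp β₀.2⟩ : VHom y y g₀ g₀) =
      ⟨𝟙 _, Vert.id _⟩ from Subtype.ext (β₀.inv_comp h𝒴.1)] at h1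
  have h1 := aut_eq_id_of_corr I hI str rT j hj hjr h𝒳 h𝒴 hd𝒴 φ hxy hx rfl δ hδ₀
  refine Subtype.ext ?_
  calc β.1 = βc.1 ≫ δ.1 := by
        change β.1 = βc.1 ≫ (βc.inv h𝒴.1).1 ≫ β.1
        rw [← Category.assoc, βc.comp_inv h𝒴.1, Category.id_comp]
    _ = βc.1 := by rw [h1, Category.comp_id]

end retraction

theorem dual_fst_inl (K : Type u) [Field K] (k : K) :
    (TrivSqZeroExt.fstHom K K K).toRingHom (TrivSqZeroExt.inlHom K K k) = k := rfl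

theorem dual_mul_zero (K : Type u) [Field K] (p q : TrivSqZeroExt K K)
    (hp : (TrivSqZeroExt.fstHom K K K).toRingHom p = 0)
    (hq : (TrivSqZeroExt.fstHom K K K).toRingHom q = 0) : p * q = 0 := by
  have hp' : p.fst = 0 := hp
  have hq' : q.fst = 0 := hq
  ext <;> simp [hp', hq']

/-- The base change of a chart to any chart is unramified when the corresponding chart is so. -/
theorem locP_unramified_of_corr (h𝒳 : Stk.IsStack (AlgSp.J S) 𝒳) (h𝒴 : Stk.IsStack (AlgSp.J S) 𝒴)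
    (hd𝒴 : AlgSt.RepByAlgSpWith (AlgSp.RepWith @IsClosedImmersion) (diag (diag (toSelf 𝒴))))
    (φ : IsoNat.FIso 𝒳 𝒴) {x : overCat U ⥤ᵇ 𝒳} {y : overCat U ⥤ᵇ 𝒴}
    (hxy : φ.toEquiv U (IsoNat.cls (vfib x (overTop U))) = IsoNat.cls (vfib y (overTop U)))
    (hx : AlgSt.RepByAlgSpWith (AlgSp.LocP (@LocallyOfFiniteType ⊓ @FormallyUnramified)) x)
    (v : overCat V ⥤ᵇ 𝒴) (F : AlgSp.Space S) (e : AlgSt.ofSp F.obj ⥤ᵇ fp v y) (he : IsEquivOver e)
    (hlfp : AlgSp.LocP @LocallyOfFinitePresentation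
      (AlgSt.spMapOfOver (BasedFunctor.comp e (fpFst v y)))) :
    AlgSp.LocP (@LocallyOfFiniteType ⊓ @FormallyUnramified)
      (AlgSt.spMapOfOver (BasedFunctor.comp e (fpFst v y))) := by
  let a := AlgSt.spMapOfOver (BasedFunctor.comp e (fpFst v y))
  obtain ⟨ev, hev, hnat⟩ := exists_pairDict h𝒴.1 v y F e he
  intro U' V' a' b' h' ha hb w
  have : LocallyOfFinitePresentation h'.left := hlfp a' b' h' ha hb w
  refine ⟨(inferInstance : LocallyOfFiniteType h'.left), ?_⟩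
  obtain ⟨c, rfl⟩ := (AlgSp.yon S).map_surjective b'
  refine Slice.formallyUnramified_of_lifts h'.left fun K _ v' δ₁ δ₂ hl₁ hl₂ => ?_
  suffices key : ∀ (DK : CommRingCat.{u}) (ε : DK →+* K) (inl : K →+* DK), (∀ k, ε (inl k) = k) →
      (∀ p q : DK, ε p = 0 → ε q = 0 → p * q = 0) → ∀ δ₁ δ₂ : Spec DK ⟶ U'.left,
      (Spec.map (CommRingCat.ofHom ε) ≫ δ₁ = v' ∧
        δ₁ ≫ h'.left = Spec.map (CommRingCat.ofHom inl) ≫ v' ≫ h'.left) →
      (Spec.map (CommRingCat.ofHom ε) ≫ δ₂ = v' ∧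
        δ₂ ≫ h'.left = Spec.map (CommRingCat.ofHom inl) ≫ v' ≫ h'.left) → δ₁ = δ₂ by
    exact key (CommRingCat.of (TrivSqZeroExt K K)) (TrivSqZeroExt.fstHom K K K).toRingHom
      (TrivSqZeroExt.inlHom K K) (dual_fst_inl K) (dual_mul_zero K) δ₁ δ₂ hl₁ hl₂
  intro DK ε inl hεi hmul δ₁ δ₂ hl₁ hl₂
  let I : Ideal DK := RingHom.ker ε
  have hI : I ^ 2 = ⊥ := by
    rw [pow_two, eq_bot_iff, Ideal.mul_le]
    exact fun p hp q hq => Ideal.mem_bot.2 (hmul p q hp hq)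
  let incl : Spec (CommRingCat.of K) ⟶ Spec DK := Spec.map (CommRingCat.ofHom ε)
  let retr : Spec DK ⟶ Spec (CommRingCat.of K) := Spec.map (CommRingCat.ofHom inl)
  have hir : incl ≫ retr = 𝟙 _ := by
    rw [← Spec.map_comp, ← Spec.map_id]
    congr 1
    exact CommRingCat.hom_ext (RingHom.ext hεi)
  let str : Spec DK ⟶ S := retr ≫ v' ≫ U'.hom
  let T₀ : Over S := Over.mk (Spec.map (CommRingCat.ofHom (Ideal.Quotient.mk I)) ≫ str)
  let ι₀ : T₀.left ⟶ Spec (CommRingCat.of K) :=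
    Spec.map (CommRingCat.ofHom ((Ideal.Quotient.mk I).comp inl))
  let rTl : Spec DK ⟶ T₀.left :=
    Spec.map (CommRingCat.ofHom (Ideal.Quotient.lift I (inl.comp ε) fun x hx => by
      rw [RingHom.comp_apply, show ε x = 0 from hx, map_zero]))
  have hι : ι₀ ≫ incl = Spec.map (CommRingCat.ofHom (Ideal.Quotient.mk I)) := by
    rw [← Spec.map_comp]
    congr 1
    refine CommRingCat.hom_ext (RingHom.ext fun x => ?_)
    change Ideal.Quotient.mk I (inl (ε x)) = Ideal.Quotient.mk I x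
    rw [Ideal.Quotient.eq, RingHom.mem_ker, map_sub, hεi, sub_self]
  have hrT : rTl ≫ ι₀ = retr := by
    rw [← Spec.map_comp]
    congr 1
    refine CommRingCat.hom_ext (RingHom.ext fun k => ?_)
    change inl (ε (inl k)) = inl k
    rw [hεi]
  have hjr₀ : Spec.map (CommRingCat.ofHom (Ideal.Quotient.mk I)) ≫ rTl = 𝟙 _ := by
    rw [← Spec.map_comp, ← Spec.map_id]
    congr 1
    refine CommRingCat.hom_ext (Ideal.Quotient.ringHom_ext (RingHom.ext fun x => ?_))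
    change Ideal.Quotient.mk I (inl (ε x)) = Ideal.Quotient.mk I x
    rw [Ideal.Quotient.eq, RingHom.mem_ker, map_sub, hεi, sub_self]
  let T : Over S := Over.mk str
  let j : T₀ ⟶ T := Over.homMk (Spec.map (CommRingCat.ofHom (Ideal.Quotient.mk I))) rfl
  have hstr : T₀.hom = ι₀ ≫ v' ≫ U'.hom := by
    change Spec.map _ ≫ retr ≫ v' ≫ U'.hom = _
    rw [← hι, Category.assoc, ← Category.assoc incl, hir, Category.id_comp]
  let rT : T ⟶ T₀ := Over.homMk rTl (by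
    rw [hstr, ← Category.assoc, hrT]
    rfl)
  have hjr : j ≫ rT = 𝟙 _ := Over.OverMorphism.ext hjr₀
  let u₀ : T₀ ⟶ U' := Over.homMk (ι₀ ≫ v') ((Category.assoc _ _ _).trans hstr.symm)
  let hh : T ⟶ V := rT ≫ u₀ ≫ h' ≫ c
  have hlift : ∀ δ : Spec DK ⟶ U'.left, (incl ≫ δ = v' ∧ δ ≫ h'.left = retr ≫ v' ≫ h'.left) →
      ∃ d : T ⟶ U', d.left = δ ∧ j ≫ d = u₀ ∧ d ≫ h' = rT ≫ u₀ ≫ h' := by
    intro δ hδ
    have e1 : δ ≫ h'.left = rTl ≫ (ι₀ ≫ v') ≫ h'.left := by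
      rw [hδ.2, ← hrT, Category.assoc, Category.assoc]
    refine ⟨Over.homMk δ ?_, rfl, Over.OverMorphism.ext ?_, Over.OverMorphism.ext e1⟩
    · change δ ≫ U'.hom = retr ≫ v' ≫ U'.hom
      rw [← Over.w h', ← Category.assoc, hδ.2]
      simp only [Category.assoc]
    · change Spec.map _ ≫ δ = ι₀ ≫ v'
      rw [← hι, Category.assoc, hδ.1]
  obtain ⟨d₁, rfl, hd₁, hd₁'⟩ := hlift δ₁ hl₁
  obtain ⟨d₂, rfl, hd₂, hd₂'⟩ := hlift δ₂ hl₂
  have hsec : ∀ d : T ⟶ U', d ≫ h' = rT ≫ u₀ ≫ h' →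
      ((AlgSp.yon S).map d ≫ a') ≫ a = (AlgSp.yon S).map hh := fun d hd => by
    rw [Category.assoc, w, ← Functor.map_comp, ← Functor.map_comp, ← Category.assoc, hd]
    simp [hh]
  let r₁ : Sec a (Over.mk hh) := ⟨_, hsec d₁ hd₁'⟩
  let r₂ : Sec a (Over.mk hh) := ⟨_, hsec d₂ hd₂'⟩
  let r₀ : Sec a (Over.mk (j ≫ hh)) := ⟨(AlgSp.yon S).map u₀ ≫ a', by
    change _ = (AlgSp.yon S).map (j ≫ hh)
    rw [Category.assoc, w, ← Functor.map_comp, ← Functor.map_comp]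
    congr 1
    simp only [hh]
    rw [← Category.assoc j, hjr, Category.id_comp]⟩
  obtain ⟨g₀, β₀, h₀⟩ : ∃ g₀ β₀, ev _ r₀ = ⟨g₀, β₀⟩ := ⟨_, _, rfl⟩
  obtain ⟨g₁, β₁, h₁⟩ : ∃ g₁ β₁, ev _ r₁ = ⟨g₁, β₁⟩ := ⟨_, _, rfl⟩
  obtain ⟨g₂, β₂, h₂⟩ : ∃ g₂ β₂, ev _ r₂ = ⟨g₂, β₂⟩ := ⟨_, _, rfl⟩
  have hm₁ : (AlgSp.yon S).map j ≫ (AlgSp.yon S).map d₁ = (AlgSp.yon S).map u₀ :=
    (Functor.map_comp _ _ _).symm.trans (congrArg _ hd₁)
  have hm₂ : (AlgSp.yon S).map j ≫ (AlgSp.yon S).map d₂ = (AlgSp.yon S).map u₀ :=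
    (Functor.map_comp _ _ _).symm.trans (congrArg _ hd₂)
  have e₁ := hnat j hh (j ≫ hh) r₁ r₀ rfl
    ((congrArg (· ≫ a') hm₁).symm.trans (Category.assoc _ _ _))
  have e₂ := hnat j hh (j ≫ hh) r₂ r₀ rfl
    ((congrArg (· ≫ a') hm₂).symm.trans (Category.assoc _ _ _))
  rw [h₀, h₁] at e₁
  rw [h₀, h₂] at e₂
  have heq := vhom_eq_of_corr I hI str rT j rfl hjr h𝒳 h𝒴 hd𝒴 φ hxy hx
    (h₀ := j ≫ hh) (h := hh) (by simp only [hh]; rw [← Category.assoc j, hjr, Category.id_comp]) e₁ e₂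
  have hrr : r₁ = r₂ := (hev hh).1 (h₁.trans (heq.trans h₂.symm))
  have hd := Groth.Agent.AlgSp.InfCharts.formallyUnramified_of_repWith_etale ha
    { A := DK, I := I, sq_zero := hI, str := str
      top := (AlgSp.yon S).map u₀, bot := r₁.1
      comm := (congrArg (· ≫ a') hm₁).symm.trans (Category.assoc _ _ _) }
    ((AlgSp.yon S).map d₁) ((AlgSp.yon S).map d₂)
    hm₁ rfl hm₂
    (congrArg Subtype.val hrr).symm
  exact congrArg Over.Hom.left ((AlgSp.yon S).map_injective hd)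

theorem repByAlgSpWith_unramified_of_corr (h𝒳 : Stk.IsStack (AlgSp.J S) 𝒳)
    (h𝒴 : AlgSt.IsAlgStack Scheme.fppfPrecoverage 𝒴)
    (h𝒴i : AlgSt.RepByAlgSpWith (AlgSp.LocP @LocallyOfFinitePresentation) (inertiaToBase (toSelf 𝒴)))
    (hd𝒴 : AlgSt.RepByAlgSpWith (AlgSp.RepWith @IsClosedImmersion) (diag (diag (toSelf 𝒴))))
    (φ : IsoNat.FIso 𝒳 𝒴) {x : overCat U ⥤ᵇ 𝒳} {y : overCat U ⥤ᵇ 𝒴}
    (hxy : φ.toEquiv U (IsoNat.cls (vfib x (overTop U))) = IsoNat.cls (vfib y (overTop U)))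
    (hfp : AlgSt.RepByAlgSpWith (AlgSp.LocP @LocallyOfFinitePresentation) x)
    (hx : AlgSt.RepByAlgSpWith (AlgSp.LocP (@LocallyOfFiniteType ⊓ @FormallyUnramified)) x) :
    AlgSt.RepByAlgSpWith (AlgSp.LocP (@LocallyOfFiniteType ⊓ @FormallyUnramified)) y := fun W v => by
  obtain ⟨F, e, he⟩ := repByAlgSp1_chart h𝒴 y W v
  exact ⟨F, e, he, locP_unramified_of_corr h𝒳 h𝒴.isStack hd𝒴 φ hxy hx v F e he
    (locP_lfp_of_corr h𝒳.1 h𝒴.isStack.1 h𝒴i φ hxy hfp v F e he)⟩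

end Groth.Agent.IsoCls
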