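import Groth.Agent.IsoCls.GlueHom
import Groth.Agent.IsoCls.ChartPairs
import Groth.Agent.StFib.AtlasProps
import Groth.Agent.AlgSp.Basic
import Groth.Agent.AlgSp.PointsMor

/-!
Natural maps between the vertical morphisms between the values of two charts.
-/

set_option autoImplicit false
set_option linter.unusedVariables false
set_option backward.isDefEq.respectTransparency false
set_option backward.isDefEq.respectTransparency.types false

universe u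

open CategoryTheory CategoryTheory.Limits AlgebraicGeometry Opposite FibCat
open CategoryTheory.Functor Groth.Agent.FibC

namespace Groth.Agent.IsoCls

open Groth.Agent.StFib

variable {S : Scheme.{u}} {𝒳 𝒴 : AlgSt.Cat S} {U : Over S}
  {x : overCat U ⥤ᵇ 𝒳} {y : overCat U ⥤ᵇ 𝒴}

/-- Vertical morphisms at flat points are unique. -/
def Rigid (y : overCat U ⥤ᵇ 𝒴) : Prop :=
  ∀ {T : Over S} (h g : T ⟶ U) [Flat h.left] [LocallyOfFinitePresentation h.left]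
    (β β' : VHom y y h g), β = β'

/-- Vertical morphisms which agree locally are equal. -/
theorem vhom_ext_of_cover (h𝒴 : Stk.IsPrestack (AlgSp.J S) 𝒴) {T : Over S} {h g : T ⟶ U}
    {β β' : VHom y y h g} (R : Sieve T) (hR : R ∈ AlgSp.J S T)
    (H : ∀ {T' : Over S} (κ : T' ⟶ T), R κ → ∀ (b b' : VHom y y (κ ≫ h) (κ ≫ g)),
      IsRes κ b β → IsRes κ b' β' → b = b') : β = β' := by
  refine Subtype.ext (hom_ext_lift h𝒴 (𝟙 T) (β.2.isHomLift (y.w_obj _)) (β'.2.isHomLift (y.w_obj _))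
    R hR fun V κ hκ z ν hν => ?_)
  let p : Over.mk (κ ≫ h) ⟶ Over.mk h := Over.homMk κ rfl
  have : 𝒴.p.IsHomLift κ (y.map p) := map_lift y p
  obtain ⟨χ, -, -, rfl⟩ := GalCohAux.GerbBasic.exists_fac h𝒴.1 κ (y.map p) ν
  obtain ⟨b, hb⟩ := exists_isRes h𝒴.1 κ (rfl : κ ≫ h = _) (rfl : κ ≫ g = _) β
  obtain ⟨b', hb'⟩ := exists_isRes h𝒴.1 κ (rfl : κ ≫ h = _) (rfl : κ ≫ g = _) β'
  obtain rfl := H κ hκ b b' hb hb'
  obtain ⟨p₁, q, hp₁, hq, e₁⟩ := hb
  obtain ⟨p₂, q', hp₂, hq', e₂⟩ := hb'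
  obtain rfl : p₁ = p := over_mk_ext hp₁
  obtain rfl : p₂ = p := over_mk_ext hp₂
  obtain rfl : q' = q := over_mk_ext (hq'.trans hq.symm)
  rw [Category.assoc, Category.assoc, ← e₁, ← e₂]

/-- The universal vertical morphism of a smooth chart. -/
structure Univ (x : overCat U ⥤ᵇ 𝒳) where
  /-- its source -/
  W : Over S
  /-- the first point -/
  h₀ : W ⟶ U
  /-- the second point -/
  g₀ : W ⟶ U
  /-- the morphism -/
  α₀ : VHom x x h₀ g₀
  flat : Flat h₀.left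
  lfp : LocallyOfFinitePresentation h₀.left
  cover : ∀ {T : Over S} {h g : T ⟶ U} (α : VHom x x h g), ∃ R ∈ AlgSp.J S T,
    ∀ {T' : Over S} (κ : T' ⟶ T), R κ → ∃ (k : T' ⟶ W) (α' : VHom x x (κ ≫ h) (κ ≫ g)),
      IsRes κ α' α ∧ IsRes k α' α₀
  rel : ∀ {T : Over S} {h g : T ⟶ U} (α : VHom x x h g) (k k' : T ⟶ W), IsRes k α α₀ →
    IsRes k' α α₀ → ∃ (R : Over S) (s t : R ⟶ W) (hR gR : R ⟶ U) (l : T ⟶ R), Flat hR.left ∧
      LocallyOfFinitePresentation hR.left ∧ s ≫ h₀ = hR ∧ t ≫ h₀ = hR ∧ s ≫ g₀ = gR ∧ t ≫ g₀ = gR ∧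
      l ≫ s = k ∧ l ≫ t = k'

/-- Smooth charts have universal vertical morphisms. -/
theorem nonempty_univ (h𝒳 : IsFibGrpd 𝒳.p)
    (hx : AlgSt.RepByAlgSpWith (AlgSp.LocP @Smooth) x) : Nonempty (Univ x) := by
  obtain ⟨F, e, he, hsm⟩ := hx U x
  obtain ⟨ev, hev, hnat⟩ := exists_pairDict h𝒳 x x F e he
  let a := AlgSt.spMapOfOver (BasedFunctor.comp e (fpFst x x))
  obtain ⟨W, a', ha, has⟩ := F.property.atlas
  obtain ⟨h₀, hh₀⟩ := (AlgSp.yon S).map_surjective (a' ≫ a)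
  have hsm₀ : Smooth h₀.left :=
    hsm a' (𝟙 _) h₀ ha (AlgSp.repWith_id _ _) (by rw [Category.comp_id, hh₀])
  obtain ⟨g₀, α₀, h₀v⟩ : ∃ g₀ α₀, ev h₀ ⟨a', hh₀.symm⟩ = ⟨g₀, α₀⟩ := ⟨_, _, rfl⟩
  -- restrictions of the universal morphism are the sections through the atlas
  have hsec : ∀ {T : Over S} {h g : T ⟶ U} (α : VHom x x h g) (r : Sec a (Over.mk h)),
      ev h r = ⟨g, α⟩ → ∀ k : T ⟶ W, IsRes k α α₀ ↔
        (k ≫ h₀ = h ∧ (AlgSp.yon S).map k ≫ a' = r.1) := by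
    intro T h g α r hr k
    have key : ∀ hk : k ≫ h₀ = h, ∃ g' α', ev h ⟨(AlgSp.yon S).map k ≫ a', by
        rw [Category.assoc, ← hh₀, ← Functor.map_comp, hk]; rfl⟩ = ⟨g', α'⟩ ∧ IsRes k α' α₀ := by
      intro hk
      let r' : Sec a (Over.mk h) := ⟨(AlgSp.yon S).map k ≫ a', by
        rw [Category.assoc, ← hh₀, ← Functor.map_comp, hk]; rfl⟩
      have h1 := hnat k h₀ h ⟨a', hh₀.symm⟩ r' hk rfl
      rw [h₀v] at h1
      exact ⟨_, _, rfl, h1⟩
    constructor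
    · intro hres
      obtain ⟨g', α', h1, h2⟩ := key hres.left_eq
      refine ⟨hres.left_eq, ?_⟩
      obtain rfl : g' = g := h2.right_eq.symm.trans hres.right_eq
      obtain rfl : α' = α := h2.unique h𝒳 hres
      exact congrArg Subtype.val ((hev h).1 (h1.trans hr.symm))
    · rintro ⟨hk, hk'⟩
      obtain ⟨g', α', h1, h2⟩ := key hk
      have h3 : (⟨g', α'⟩ : Σ g, VHom x x h g) = ⟨g, α⟩ := by
        rw [← h1, ← hr]
        exact congrArg _ (Subtype.ext hk')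
      cases h3
      exact h2
  refine ⟨⟨W, h₀, g₀, α₀, inferInstance, inferInstance, fun {T h g} α => ?_,
    fun {T h g} α k k' hk hk' => ?_⟩⟩
  · obtain ⟨r, hr⟩ := (hev h).2 ⟨g, α⟩
    let q := ha.1.snd r.1
    have hqe : Etale q.left := ha.2 _ _ _ (ha.1.isPullback r.1)
    have : Surjective q.left := has.2 _ _ _ (ha.1.isPullback r.1)
    refine ⟨Sieve.generate (Presieve.singleton q), ?_, ?_⟩
    · exact Groth.Agent.AlgSp.mem_of_fppf q ⟨_, 𝟙 _, q, ⟨⟩, Category.id_comp _⟩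
    · rintro T' κ ⟨_, u, _, ⟨⟩, rfl⟩
      obtain ⟨k₁, hk₁⟩ := (AlgSp.yon S).map_surjective (ha.1.fst r.1)
      obtain ⟨α', hα'⟩ := exists_isRes h𝒳 (u ≫ q) (rfl : (u ≫ q) ≫ h = _) rfl α
      refine ⟨u ≫ k₁, α', hα', ?_⟩
      let r' : Sec a (Over.mk ((u ≫ q) ≫ h)) := ⟨(AlgSp.yon S).map (u ≫ q) ≫ r.1,
        (Category.assoc _ _ _).trans ((congrArg ((AlgSp.yon S).map (u ≫ q) ≫ ·) r.2).trans
          (Functor.map_comp _ _ _).symm)⟩
      have hr' : ev _ r' = ⟨_, α'⟩ := by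
        have h1 := hnat (u ≫ q) h ((u ≫ q) ≫ h) r r' rfl rfl
        rw [hr] at h1
        obtain ⟨g', b, hb⟩ : ∃ g' b, ev _ r' = ⟨g', b⟩ := ⟨_, _, rfl⟩
        rw [hb] at h1
        obtain rfl : g' = (u ≫ q) ≫ g := h1.right_eq.symm
        exact hb.trans (congrArg (Sigma.mk _) (IsRes.unique (β₁ := b) h𝒳 h1 hα'))
      have hw : (AlgSp.yon S).map (u ≫ k₁) ≫ a' = r'.1 := by
        change _ = (AlgSp.yon S).map (u ≫ q) ≫ r.1
        rw [Functor.map_comp, Functor.map_comp, Category.assoc, Category.assoc, hk₁,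
          (ha.1.isPullback r.1).w]
      refine (hsec α' r' hr' _).2 ⟨(AlgSp.yon S).map_injective ?_, hw⟩
      rw [Functor.map_comp, hh₀, ← Category.assoc, hw]
      exact r'.2
  · obtain ⟨r, hr⟩ := (hev h).2 ⟨g, α⟩
    obtain ⟨-, e1⟩ := (hsec α r hr k).1 hk
    obtain ⟨-, e2⟩ := (hsec α r hr k').1 hk'
    let s := ha.1.snd a'
    obtain ⟨t, ht⟩ := (AlgSp.yon S).map_surjective (ha.1.fst a')
    have hst : (AlgSp.yon S).map t ≫ a' = (AlgSp.yon S).map s ≫ a' := by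
      rw [ht]; exact (ha.1.isPullback a').w
    have : Etale s.left := ha.2 _ _ _ (ha.1.isPullback a')
    have hts : t ≫ h₀ = s ≫ h₀ := (AlgSp.yon S).map_injective (by
      rw [Functor.map_comp, Functor.map_comp, hh₀, ← Category.assoc, hst, Category.assoc])
    let l := ha.1.lift (g := a') ((AlgSp.yon S).map k') k (e2.trans e1.symm)
    have hl₁ : l ≫ s = k := ha.1.lift_snd _ _ _
    have hl₂ : l ≫ t = k' := (AlgSp.yon S).map_injective (by
      rw [Functor.map_comp, ht]; exact ha.1.lift_fst _ _ _)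
    have hgeq : t ≫ g₀ = s ≫ g₀ := by
      obtain ⟨bs, hbs⟩ := exists_isRes h𝒳 s (rfl : s ≫ h₀ = _) rfl α₀
      obtain ⟨bt, hbt⟩ := exists_isRes h𝒳 t hts rfl α₀
      let rs : Sec a (Over.mk (s ≫ h₀)) := ⟨(AlgSp.yon S).map s ≫ a', by
        rw [Category.assoc, ← hh₀, ← Functor.map_comp]; rfl⟩
      obtain ⟨g', b, hb⟩ : ∃ g' b, ev _ rs = ⟨g', b⟩ := ⟨_, _, rfl⟩
      have h1 := (hsec b rs hb s).2 ⟨rfl, rfl⟩
      have h2 := (hsec b rs hb t).2 ⟨hts, hst⟩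
      rw [h2.right_eq, h1.right_eq]
    have : Flat (s ≫ h₀).left := inferInstanceAs (Flat (s.left ≫ h₀.left))
    have : LocallyOfFinitePresentation (s ≫ h₀).left :=
      inferInstanceAs (LocallyOfFinitePresentation (s.left ≫ h₀.left))
    exact ⟨_, s, t, s ≫ h₀, s ≫ g₀, l, inferInstance, inferInstance, rfl, hts, rfl, hgeq, hl₁, hl₂⟩

end Groth.Agent.IsoCls
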