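import Groth.Agent.IsoCls.VMap

/-!
The natural map between the vertical morphisms of two charts with unique vertical morphisms at flat
points, and the identification of morphisms it gives.
-/

set_option autoImplicit false
set_option linter.unusedVariables false
set_option backward.isDefEq.respectTransparency false
set_option backward.isDefEq.respectTransparency.types false

universe u

open CategoryTheory CategoryTheory.Limits AlgebraicGeometry Opposite FibCat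
open CategoryTheory.Functor Groth.Agent.FibC

namespace Groth.Agent.IsoCls

open Groth.Agent.StFib

variable {S : Scheme.{u}} {𝒳 𝒴 : AlgSt.Cat S} {U : Over S}
  {x : overCat U ⥤ᵇ 𝒳} {y : overCat U ⥤ᵇ 𝒴}

theorem lift_congr {R T : Over S} {a b : 𝒴.obj} {f g : R ⟶ T} {φ : a ⟶ b} (e : f = g)
    (h : 𝒴.p.IsHomLift f φ) : 𝒴.p.IsHomLift g φ := e ▸ h

/-- A natural map of vertical morphisms respecting composition. -/
structure VMap (x : overCat U ⥤ᵇ 𝒳) (y : overCat U ⥤ᵇ 𝒴) where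
  /-- the map -/
  app : ∀ {T : Over S} {h g : T ⟶ U}, VHom x x h g → VHom y y h g
  res : ∀ {T' T : Over S} {κ : T' ⟶ T} {h g : T ⟶ U} {h' g' : T' ⟶ U} {α' : VHom x x h' g'}
    {α : VHom x x h g}, IsRes κ α' α → IsRes κ (app α') (app α)
  comp : ∀ {T : Over S} {h g k : T ⟶ U} (α : VHom x x h g) (α' : VHom x x g k),
    app (⟨α.1 ≫ α'.1, α.2.comp α'.2⟩ : VHom x x h k) = ⟨(app α).1 ≫ (app α').1, (app α).2.comp (app α').2⟩

/-- Natural maps of vertical morphisms exist. -/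
theorem nonempty_vmap (h𝒳 : IsFibGrpd 𝒳.p) (h𝒴 : Stk.IsPrestack (AlgSp.J S) 𝒴) (Ω : Univ x)
    (hrig : Rigid y)
    (hne : ∀ {T : Over S} (h g : T ⟶ U), Nonempty (VHom x x h g) → Nonempty (VHom y y h g)) :
    Nonempty (VMap x y) := by
  obtain ⟨β₀⟩ := hne Ω.h₀ Ω.g₀ ⟨Ω.α₀⟩
  have := Ω.flat
  have := Ω.lfp
  let Pulled : ∀ {T : Over S} {h g : T ⟶ U}, VHom x x h g → VHom y y h g → Prop :=
    fun {T h g} α β => ∀ {T' : Over S} (κ : T' ⟶ T) (k : T' ⟶ Ω.W) {h' g' : T' ⟶ U}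
      (α' : VHom x x h' g') (β' : VHom y y h' g'),
      IsRes κ α' α → IsRes k α' Ω.α₀ → IsRes k β' β₀ → IsRes κ β' β
  -- pullbacks of `β₀` along maps inducing one morphism agree
  have hkey : ∀ {T : Over S} {h g : T ⟶ U} (α : VHom x x h g) (k k' : T ⟶ Ω.W) (β β' : VHom y y h g),
      IsRes k α Ω.α₀ → IsRes k' α Ω.α₀ → IsRes k β β₀ → IsRes k' β' β₀ → β = β' := by
    intro T h g α k k' β β' hk hk' hb hb'
    obtain ⟨R, s, t, hR, gR, l, _, _, hs₁, ht₁, hs₂, ht₂, hls, hlt⟩ := Ω.rel α k k' hk hk'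
    obtain ⟨bs, hbs⟩ := exists_isRes h𝒴.1 s hs₁ hs₂ β₀
    obtain ⟨bt, hbt⟩ := exists_isRes h𝒴.1 t ht₁ ht₂ β₀
    obtain rfl := hrig hR gR bs bt
    have e1 : l ≫ hR = h := by rw [← hs₁, ← Category.assoc, hls]; exact hk.left_eq
    have e2 : l ≫ gR = g := by rw [← hs₂, ← Category.assoc, hls]; exact hk.right_eq
    obtain ⟨b, hb₀⟩ := exists_isRes h𝒴.1 l e1 e2 bs
    have r1 := hb₀.trans hbs
    have r2 := hb₀.trans hbt
    rw [hls] at r1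
    rw [hlt] at r2
    exact (hb.unique h𝒴.1 r1).trans (r2.unique h𝒴.1 hb')
  have huniq : ∀ {T : Over S} {h g : T ⟶ U} (α : VHom x x h g) (β β' : VHom y y h g),
      Pulled α β → Pulled α β' → β = β' := by
    intro T h g α β β' hp hp'
    obtain ⟨R, hR, hR'⟩ := Ω.cover α
    refine vhom_ext_of_cover h𝒴 R hR fun {T'} κ hκ b b' hb hb' => ?_
    obtain ⟨k, α', hα, hα₀⟩ := hR' κ hκ
    obtain ⟨b₀, hb₀⟩ := exists_isRes h𝒴.1 k hα₀.left_eq hα₀.right_eq β₀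
    exact (hb.unique h𝒴.1 (hp κ k α' b₀ hα hα₀ hb₀)).trans
      ((hp' κ k α' b₀ hα hα₀ hb₀).unique h𝒴.1 hb')
  have hex : ∀ {T : Over S} {h g : T ⟶ U} (α : VHom x x h g), ∃ β, Pulled α β := by
    intro T h g α
    let R : Sieve T :=
      { arrows := fun T' κ => ∃ (k : T' ⟶ Ω.W) (α' : VHom x x (κ ≫ h) (κ ≫ g)),
          IsRes κ α' α ∧ IsRes k α' Ω.α₀
        downward_closed := fun {T' T''} κ hκ u => by
          obtain ⟨k, α', h1, h2⟩ := hκ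
          obtain ⟨α'', h3⟩ := exists_isRes h𝒳 u (Category.assoc u κ h).symm (Category.assoc u κ g).symm α'
          exact ⟨u ≫ k, α'', h3.trans h1, h3.trans h2⟩ }
    obtain ⟨R₀, hR₀, hR₀'⟩ := Ω.cover α
    have hR : R ∈ AlgSp.J S T := (AlgSp.J S).superset_covering (fun T' κ hκ => hR₀' κ hκ) hR₀
    have hv : ∀ ⦃z : 𝒴.obj⦄ (ν : z ⟶ y.obj (Over.mk h)), R (𝒴.p.map ν ≫ eqToHom (y.w_obj (Over.mk h))) →
        ∃ m : z ⟶ y.obj (Over.mk g),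
          𝒴.p.IsHomLift ((𝒴.p.map ν ≫ eqToHom (y.w_obj (Over.mk h))) ≫ 𝟙 T) m ∧
          ∀ {T'' : Over S} (κ : T'' ⟶ T) (k : T'' ⟶ Ω.W) {h' g' : T'' ⟶ U} (α' : VHom x x h' g')
            (β' : VHom y y h' g') (p : Over.mk h' ⟶ Over.mk h) (q : Over.mk g' ⟶ Over.mk g)
            (ρ : z ⟶ y.obj (Over.mk h')), IsRes κ α' α → IsRes k α' Ω.α₀ → IsRes k β' β₀ →
            p.left = κ → q.left = κ → ρ ≫ y.map p = ν → ρ ≫ β'.1 ≫ y.map q = m := by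
      intro z ν hν
      obtain ⟨k, α', hα, hα₀⟩ := hν
      let κ := 𝒴.p.map ν ≫ eqToHom (y.w_obj (Over.mk h))
      have hνl : 𝒴.p.IsHomLift κ ν :=
        IsHomLift.of_fac 𝒴.p κ ν rfl (y.w_obj _) (by simp [κ])
      obtain ⟨β', hβ'⟩ := exists_isRes h𝒴.1 k hα₀.left_eq hα₀.right_eq β₀
      let p : Over.mk (κ ≫ h) ⟶ Over.mk h := Over.homMk κ rfl
      let q : Over.mk (κ ≫ g) ⟶ Over.mk g := Over.homMk κ rfl
      have hpl : 𝒴.p.IsHomLift κ (y.map p) := map_lift y p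
      obtain ⟨χ, hχ, -, hχ'⟩ := GalCohAux.GerbBasic.exists_fac h𝒴.1 κ (y.map p) ν
      have hql : 𝒴.p.IsHomLift κ (y.map q) := map_lift y q
      have h1 : 𝒴.p.IsHomLift (𝟙 (𝒴.p.obj z) ≫ 𝟙 (𝒴.p.obj z) ≫ κ) (χ ≫ β'.1 ≫ y.map q) :=
        lift_comp hχ (lift_comp (β'.2.isHomLift (y.w_obj _)) hql)
      have e1 : 𝟙 (𝒴.p.obj z) ≫ 𝟙 (𝒴.p.obj z) ≫ κ = κ ≫ 𝟙 T :=
        (Category.id_comp _).trans ((Category.id_comp _).trans (Category.comp_id _).symm)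
      refine ⟨χ ≫ β'.1 ≫ y.map q, lift_congr e1 h1, ?_⟩
      intro T'' κ'' k'' h' g' α'' β'' p'' q'' ρ hα'' hα₀'' hβ'' hp hq hρ
      -- the base of `ρ`
      let u := 𝒴.p.map ρ ≫ eqToHom (y.w_obj (Over.mk h'))
      have hρl : 𝒴.p.IsHomLift u ρ := IsHomLift.of_fac 𝒴.p u ρ rfl (y.w_obj _) (by simp [u])
      have hu : u ≫ κ'' = κ := by
        have h1 : 𝒴.p.IsHomLift κ'' (y.map p'') := hp ▸ map_lift y p''
        have h2 := lift_comp hρl h1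
        rw [hρ] at h2
        exact lift_unique h2 hνl
      have eh : u ≫ h' = κ ≫ h := by rw [← hα''.left_eq, ← Category.assoc, hu]
      have eg : u ≫ g' = κ ≫ g := by rw [← hα''.right_eq, ← Category.assoc, hu]
      obtain ⟨a₁, ha₁⟩ := exists_isRes h𝒳 u eh eg α''
      have r1 := ha₁.trans hα''
      rw [hu] at r1
      obtain rfl : a₁ = α' := r1.unique h𝒳 hα
      obtain ⟨b₁, hb₁⟩ := exists_isRes h𝒴.1 u eh eg β''
      obtain rfl : b₁ = β' := hkey _ _ _ b₁ β' (ha₁.trans hα₀'') hα₀ (hb₁.trans hβ'') hβ'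
      obtain ⟨pu, qu, hpu, hqu, e⟩ := hb₁
      have hpp : pu ≫ p'' = p := over_mk_ext (by rw [Over.comp_left, hpu, hp, hu]; rfl)
      have hqq : qu ≫ q'' = q := over_mk_ext (by rw [Over.comp_left, hqu, hq, hu]; rfl)
      have hχρ : ρ = χ ≫ y.map pu := by
        refine grpd_cancel h𝒴.1 (y.map p'') ?_ ?_
        · rw [hρ, Category.assoc, ← Functor.map_comp, hpp, hχ']
        · have h1 : 𝒴.p.IsHomLift u (χ ≫ y.map pu) := by
            simpa [hpu] using lift_comp hχ (map_lift y pu)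
          rw [IsHomLift.fac' 𝒴.p u ρ, IsHomLift.fac' 𝒴.p u (χ ≫ y.map pu)]
      rw [hχρ, Category.assoc, ← reassoc_of% e, ← Functor.map_comp, hqq]
    choose m hm hm' using hv
    obtain ⟨φ, hφ, hφ'⟩ := exists_hom_of_sieve h𝒴 (y.w_obj (Over.mk h)) (y.w_obj (Over.mk g))
      (𝟙 T) R hR m hm fun z w k' ν hν hkν => by
        obtain ⟨k, α', hα, hα₀⟩ := id hν
        obtain ⟨β', hβ'⟩ := exists_isRes h𝒴.1 k hα₀.left_eq hα₀.right_eq β₀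
        let κ := 𝒴.p.map ν ≫ eqToHom (y.w_obj (Over.mk h))
        let p : Over.mk (κ ≫ h) ⟶ Over.mk h := Over.homMk κ rfl
        let q : Over.mk (κ ≫ g) ⟶ Over.mk g := Over.homMk κ rfl
        have hνl : 𝒴.p.IsHomLift κ ν := IsHomLift.of_fac 𝒴.p κ ν rfl (y.w_obj _) (by simp [κ])
        have hpl : 𝒴.p.IsHomLift κ (y.map p) := map_lift y p
        obtain ⟨χ, hχ, -, hχ'⟩ := GalCohAux.GerbBasic.exists_fac h𝒴.1 κ (y.map p) ν
        rw [← hm' ν hν κ k α' β' p q χ hα hα₀ hβ' rfl rfl hχ',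
          ← hm' _ hkν κ k α' β' p q (k' ≫ χ) hα hα₀ hβ' rfl rfl (by rw [Category.assoc, hχ']),
          Category.assoc]
    refine ⟨⟨φ, StFib.vert_of_isHomLift hφ⟩, fun {T'} κ k {h' g'} α' β' hα hα₀ hβ' => ?_⟩
    obtain rfl : κ ≫ h = h' := hα.left_eq
    obtain rfl : κ ≫ g = g' := hα.right_eq
    let p : Over.mk (κ ≫ h) ⟶ Over.mk h := Over.homMk κ rfl
    let q : Over.mk (κ ≫ g) ⟶ Over.mk g := Over.homMk κ rfl
    have hmem : R (𝒴.p.map (y.map p) ≫ eqToHom (y.w_obj (Over.mk h))) := by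
      have h1 : R κ := ⟨k, α', hα, hα₀⟩
      have h2 := R.downward_closed h1 (eqToHom (y.w_obj (Over.mk (κ ≫ h))))
      convert h2 using 1
      rw [StFib.w_map]
      simp
      rfl
    refine ⟨p, q, rfl, rfl, ?_⟩
    rw [hφ' _ hmem, ← hm' _ hmem κ k α' β' p q (𝟙 _) hα hα₀ hβ' rfl rfl (Category.id_comp _),
      Category.id_comp]
  choose f hf using @hex
  have hres : ∀ {T' T : Over S} {κ : T' ⟶ T} {h g : T ⟶ U} {h' g' : T' ⟶ U}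
      {α' : VHom x x h' g'} {α : VHom x x h g}, IsRes κ α' α → IsRes κ (f α') (f α) := by
    intro T' T κ h g h' g' α' α hr
    obtain ⟨b, hb⟩ := exists_isRes h𝒴.1 κ hr.left_eq hr.right_eq (f α)
    suffices hp : Pulled α' b by rwa [huniq α' _ _ (hf α') hp]
    intro T'' κ' k h'' g'' α'' β'' h1 h2 h3
    obtain ⟨c, hc⟩ := exists_isRes h𝒴.1 κ' h1.left_eq h1.right_eq b
    rwa [(hf α (κ' ≫ κ) k α'' β'' (h1.trans hr) h2 h3).unique h𝒴.1 (hc.trans hb)]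
  refine ⟨⟨fun {T h g} α => f α, hres, fun {T h g k} α α' => ?_⟩⟩
  -- composition
  obtain ⟨R, hR, hR'⟩ := Ω.cover α
  obtain ⟨R₁, hR₁, hR₁'⟩ := Ω.cover α'
  refine vhom_ext_of_cover h𝒴 (R ⊓ R₁) ((AlgSp.J S).intersection_covering hR hR₁)
    fun {T'} κ hκ b b' hb hb' => ?_
  obtain ⟨k₁, γ₁, hγ₁, hk₁⟩ := hR' κ hκ.1
  obtain ⟨k₂, γ₂, hγ₂, hk₂⟩ := hR₁' κ hκ.2
  -- the pairs of composable morphisms
  let P : Over S := Over.mk (pullback.fst Ω.g₀.left Ω.h₀.left ≫ Ω.W.hom)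
  let p₁ : P ⟶ Ω.W := Over.homMk (pullback.fst Ω.g₀.left Ω.h₀.left) rfl
  let p₂ : P ⟶ Ω.W := Over.homMk (pullback.snd Ω.g₀.left Ω.h₀.left) (by
    change _ = pullback.fst Ω.g₀.left Ω.h₀.left ≫ Ω.W.hom
    calc pullback.snd Ω.g₀.left Ω.h₀.left ≫ Ω.W.hom
        = (pullback.snd Ω.g₀.left Ω.h₀.left ≫ Ω.h₀.left) ≫ U.hom := by
          rw [Category.assoc, Over.w Ω.h₀]
      _ = _ := by rw [← pullback.condition, Category.assoc, Over.w Ω.g₀])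
  have hp₁₂ : p₂ ≫ Ω.h₀ = p₁ ≫ Ω.g₀ := Over.OverMorphism.ext pullback.condition.symm
  have : Flat (p₁ ≫ Ω.h₀).left :=
    inferInstanceAs (Flat (pullback.fst Ω.g₀.left Ω.h₀.left ≫ Ω.h₀.left))
  have : LocallyOfFinitePresentation (p₁ ≫ Ω.h₀).left :=
    inferInstanceAs (LocallyOfFinitePresentation (pullback.fst Ω.g₀.left Ω.h₀.left ≫ Ω.h₀.left))
  obtain ⟨A₁, hA₁⟩ := exists_isRes h𝒳 p₁ (rfl : p₁ ≫ Ω.h₀ = _) (rfl : p₁ ≫ Ω.g₀ = _) Ω.α₀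
  obtain ⟨A₂, hA₂⟩ := exists_isRes h𝒳 p₂ hp₁₂ (rfl : p₂ ≫ Ω.g₀ = _) Ω.α₀
  let A : VHom x x (p₁ ≫ Ω.h₀) (p₂ ≫ Ω.g₀) := ⟨A₁.1 ≫ A₂.1, A₁.2.comp A₂.2⟩
  have hAf : f A = ⟨(f A₁).1 ≫ (f A₂).1, (f A₁).2.comp (f A₂).2⟩ := hrig _ _ _ _
  let l : T' ⟶ P := Over.homMk (pullback.lift k₁.left k₂.left (by
      have := congrArg Over.Hom.left (hk₁.right_eq.trans hk₂.left_eq.symm)
      exact this))
    (by
      change pullback.lift _ _ _ ≫ pullback.fst _ _ ≫ Ω.W.hom = _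
      rw [pullback.lift_fst_assoc]
      exact Over.w k₁)
  have hl₁ : l ≫ p₁ = k₁ := Over.OverMorphism.ext (pullback.lift_fst _ _ _)
  have hl₂ : l ≫ p₂ = k₂ := Over.OverMorphism.ext (pullback.lift_snd _ _ _)
  have r₁ : IsRes l γ₁ A₁ := by
    obtain ⟨c, hc⟩ := exists_isRes h𝒳 l
      (show l ≫ p₁ ≫ Ω.h₀ = κ ≫ h by rw [← Category.assoc, hl₁]; exact hk₁.left_eq)
      (show l ≫ p₁ ≫ Ω.g₀ = κ ≫ g by rw [← Category.assoc, hl₁]; exact hk₁.right_eq) A₁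
    have := hc.trans hA₁
    rw [hl₁] at this
    rwa [hk₁.unique h𝒳 this]
  have r₂ : IsRes l γ₂ A₂ := by
    obtain ⟨c, hc⟩ := exists_isRes h𝒳 l
      (show l ≫ p₁ ≫ Ω.g₀ = κ ≫ g by rw [← Category.assoc, hl₁]; exact hk₁.right_eq)
      (show l ≫ p₂ ≫ Ω.g₀ = κ ≫ k by rw [← Category.assoc, hl₂]; exact hk₂.right_eq) A₂
    have := hc.trans hA₂
    rw [hl₂] at this
    rwa [hk₂.unique h𝒳 this]
  have e₁ : IsRes κ (f ⟨γ₁.1 ≫ γ₂.1, γ₁.2.comp γ₂.2⟩) (f ⟨α.1 ≫ α'.1, α.2.comp α'.2⟩) :=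
    hres (hγ₁.comp hγ₂)
  have e₂ : IsRes l (f ⟨γ₁.1 ≫ γ₂.1, γ₁.2.comp γ₂.2⟩) (f A) := hres (r₁.comp r₂)
  have e₃ := (hres hγ₁).comp (hres hγ₂)
  have e₄ := (hres r₁).comp (hres r₂)
  rw [hAf] at e₂
  rw [hb.unique h𝒴.1 e₁, hb'.unique h𝒴.1 e₃, e₂.unique h𝒴.1 e₄]

/-- Natural maps in the two directions are inverse to each other. -/
theorem VMap.left_inv (h𝒳 : Stk.IsPrestack (AlgSp.J S) 𝒳) (Ω : Univ x) (hrig : Rigid x)
    (f : VMap x y) (g : VMap y x) {T : Over S} {h k : T ⟶ U} (α : VHom x x h k) :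
    g.app (f.app α) = α := by
  have := Ω.flat
  have := Ω.lfp
  obtain ⟨R, hR, hR'⟩ := Ω.cover α
  refine vhom_ext_of_cover h𝒳 R hR fun {T'} κ hκ b b' hb hb' => ?_
  obtain ⟨l, α', hα, hα₀⟩ := hR' κ hκ
  have h1 := g.res (f.res hα)
  have h2 := g.res (f.res hα₀)
  rw [hrig Ω.h₀ Ω.g₀ (g.app (f.app Ω.α₀)) Ω.α₀] at h2
  rw [hb.unique h𝒳.1 h1, hb'.unique h𝒳.1 hα, h2.unique h𝒳.1 hα₀]

end Groth.Agent.IsoCls
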